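import Cfsg.Agent.Lib.MTwentyFourUnique.PointStab
import Cfsg.Agent.Lib.MTwentyThreeUnique.Concrete
import Cfsg.Agent.Lib.M24Idx.Basic
import Cfsg.Agent.Lib.M24Cert.ClassFacts
import Cfsg.Agent.Lib.Golay.Uniq24
import Cfsg.Agent.Lib.Golay.Spor
import Mathlib

/-!
A group with the local facts is the Mathieu group of degree 24: the fixed sets of involutions with eight
fixed points are a Steiner system S(5, 8, 24).
-/

set_option autoImplicit false
set_option linter.style.haveILetI false

noncomputable section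

namespace CfsgLib.MTwentyFourUnique

open Subgroup Cfsg CfsgLib.Golay CfsgLib.M24Cert CfsgLib.M24Idx
open scoped Pointwise

/-- The possible suborbit sizes of a subgroup of index 23 in M23. -/
theorem orbit_sizes : ∀ n ∈ List.range 24, 443520 % n = 0 → n % 11 ≤ 1 → n % 7 ≤ 2 → n = 1 ∨ n = 22 := by
  decide +kernel

attribute [local instance] Classical.propDecidable

/-- A subgroup of index 23 in M23 fixes a second point. -/
theorem exists_fixed (K : Subgroup (Equiv.Perm GolayPt)) (hK : K ≤ Cfsg.Spor.M23)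
    (hc : Nat.card K = 443520) : ∃ p, p ≠ none ∧ ∀ k ∈ K, k p = p := by
  classical
  haveI : Fact (Nat.Prime 11) := ⟨by norm_num⟩
  haveI : Fact (Nat.Prime 7) := ⟨by norm_num⟩
  have hKM : K ≤ M24 := fun k hk => (CfsgLib.MTwentyThreeUnique.mem_M23_iff.1 (hK hk)).1
  have hnone : ∀ k ∈ K, k none = none := fun k hk => (CfsgLib.MTwentyThreeUnique.mem_M23_iff.1 (hK hk)).2
  obtain ⟨g, hgK, hg⟩ := exists_mem_order (H := K) (p := 11) (by rw [hc]; norm_num)
  obtain ⟨g', hg'K, hg'⟩ := exists_mem_order (H := K) (p := 7) (by rw [hc]; norm_num)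
  have hf := fix_card (Or.inr (Or.inr rfl)) (hKM hgK) hg
  have hf' := fix_card (Or.inr (Or.inl rfl)) (hKM hg'K) hg'
  have hn : ∀ y, y ≠ none → none ∉ orb K y := fun y hy h => by
    obtain ⟨k, hk, e⟩ := mem_orb.1 h
    exact hy (k.injective (e.trans (hnone k hk).symm))
  have hsize : ∀ y, y ≠ none → (orb K y).card = 1 ∨ (orb K y).card = 22 := fun y hy => by
    have hmul := card_orb_mul (K := K) y
    rw [hc] at hmul
    have hle : (orb K y).card ≤ 23 := by
      have h : orb K y ⊆ Finset.univ.erase none := fun z hz =>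
        Finset.mem_erase.2 ⟨fun e => hn y hy (e ▸ hz), Finset.mem_univ z⟩
      refine (Finset.card_le_card h).trans (le_of_eq ?_)
      rw [Finset.card_erase_of_mem (Finset.mem_univ _), Finset.card_univ, CfsgLib.M24Idx.card_pt]
    have hbound : ∀ (a : Equiv.Perm GolayPt), a ∈ K → (orb K y ∩ fixF a).card + 1 ≤ (fixF a).card := fun a ha => by
      have hsub : orb K y ∩ fixF a ⊆ (fixF a).erase none := fun z hz => by
        obtain ⟨h1, h2⟩ := Finset.mem_inter.1 hz
        exact Finset.mem_erase.2 ⟨fun e => hn y hy (e ▸ h1), h2⟩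
      have := Finset.card_le_card hsub
      have hmem : none ∈ fixF a := mem_fixF.2 (hnone a ha)
      rw [Finset.card_erase_of_mem hmem] at this
      have := Finset.card_pos.2 ⟨_, hmem⟩
      omega
    have h11 := card_modEq hg (X := orb K y) fun z hz => orb_inv hgK hz
    have h7 := card_modEq hg' (X := orb K y) fun z hz => orb_inv hg'K hz
    have b1 := hbound g hgK
    have b2 := hbound g' hg'K
    refine orbit_sizes _ (List.mem_range.2 (by omega)) (Nat.mod_eq_zero_of_dvd (Dvd.intro_left _ hmul)) ?_ ?_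
    · omega
    · omega
  by_contra hno
  push_neg at hno
  have h22 : ∀ y, y ≠ none → (orb K y).card = 22 := fun y hy => (hsize y hy).resolve_left fun h1 => by
    obtain ⟨k, hk, hne⟩ := hno y hy
    obtain ⟨z, hz⟩ := Finset.card_eq_one.1 h1
    have a := self_mem_orb (K := K) y
    have b : k y ∈ orb K y := mem_orb.2 ⟨k, hk, rfl⟩
    rw [hz, Finset.mem_singleton] at a b
    exact hne (b.trans a.symm)
  obtain ⟨y, -, hy⟩ : ∃ y, y ∈ (Finset.univ : Finset GolayPt) ∧ y ≠ none :=
    ⟨some 0, Finset.mem_univ _, Option.some_ne_none _⟩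
  obtain ⟨z, hz⟩ : ∃ z, z ∉ insert none (orb K y) := by
    by_contra h
    push_neg at h
    have := Finset.card_le_card (fun z _ => h z : (Finset.univ : Finset GolayPt) ⊆ insert none (orb K y))
    rw [Finset.card_univ, CfsgLib.M24Idx.card_pt, Finset.card_insert_of_notMem (hn y hy), h22 y hy] at this
    omega
  rw [Finset.mem_insert, not_or] at hz
  have hd := orb_disjoint hz.2
  have := Finset.card_le_univ (orb K y ∪ orb K z)
  rw [Finset.card_union_of_disjoint hd, h22 y hy, h22 z hz.1, CfsgLib.M24Idx.card_pt] at this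
  omega

/-- The order of M23 as a point stabiliser. -/
theorem card_sporM23' : Nat.card ↥Cfsg.Spor.M23 = 10200960 := by
  rw [← card_M24_point none]
  exact Nat.card_congr
    { toFun := fun g => ⟨g.1, mem_ptStab.2 (CfsgLib.MTwentyThreeUnique.mem_M23_iff.1 g.2)⟩
      invFun := fun g => ⟨g.1, CfsgLib.MTwentyThreeUnique.mem_M23_iff.2 (mem_ptStab.1 g.2)⟩
      left_inv := fun _ => rfl
      right_inv := fun _ => rfl }

/-- Every subgroup of index 23 of M23 is the stabiliser of a point. -/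
theorem index23_is_stab (K : Subgroup ↥Cfsg.Spor.M23) (hK : K.index = 23) :
    ∃ p, p ≠ none ∧ ∀ m : ↥Cfsg.Spor.M23, (m : Equiv.Perm GolayPt) p = p ↔ m ∈ K := by
  classical
  have hc : Nat.card (K.map (Subgroup.subtype _)) = 443520 := by
    rw [Subgroup.card_map_of_injective (Subgroup.subtype_injective _)]
    have := K.card_mul_index
    rw [hK, card_sporM23'] at this
    omega
  obtain ⟨p, hp, hfix⟩ := exists_fixed _ (Subgroup.map_subtype_le _) hc
  let S : Subgroup ↥Cfsg.Spor.M23 :=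
    { carrier := {m | (m : Equiv.Perm GolayPt) p = p}
      one_mem' := by simp
      mul_mem' := fun {a b} (ha : (a : Equiv.Perm GolayPt) p = p) (hb : (b : Equiv.Perm GolayPt) p = p) => by
        show (((a * b : ↥Cfsg.Spor.M23) : Equiv.Perm GolayPt)) p = p
        rw [Subgroup.coe_mul, Equiv.Perm.mul_apply, hb, ha]
      inv_mem' := fun {a} (ha : (a : Equiv.Perm GolayPt) p = p) => by
        show (((a⁻¹ : ↥Cfsg.Spor.M23) : Equiv.Perm GolayPt)) p = p
        rw [Subgroup.coe_inv, Equiv.Perm.inv_def, Equiv.symm_apply_eq]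
        exact ha.symm }
  have hKS : K ≤ S := fun m hm => hfix _ ⟨m, hm, rfl⟩
  have hne : S ≠ ⊤ := by
    intro htop
    haveI : Fact (Nat.Prime 23) := ⟨by norm_num⟩
    obtain ⟨m, hm⟩ := exists_prime_orderOf_dvd_card' (G := ↥Cfsg.Spor.M23) 23 (by rw [card_sporM23']; norm_num)
    rw [← Subgroup.orderOf_coe] at hm
    have hmM := (CfsgLib.MTwentyThreeUnique.mem_M23_iff.1 m.2).2
    have hp' : (m : Equiv.Perm GolayPt) p = p := (htop ▸ Subgroup.mem_top m : m ∈ S)
    have hmem : none ∈ fixF (m : Equiv.Perm GolayPt) ∧ p ∈ fixF (m : Equiv.Perm GolayPt) :=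
      ⟨mem_fixF.2 hmM, mem_fixF.2 hp'⟩
    have h := card_modEq hm (X := Finset.univ) fun z _ => Finset.mem_univ _
    rw [Finset.univ_inter, Finset.card_univ, CfsgLib.M24Idx.card_pt] at h
    have h2 : 1 < (fixF (m : Equiv.Perm GolayPt)).card :=
      Finset.one_lt_card.2 ⟨_, hmem.1, _, hmem.2, hp.symm⟩
    have h24 : (fixF (m : Equiv.Perm GolayPt)).card ≤ 24 := CfsgLib.M24Idx.card_pt ▸ Finset.card_le_univ _
    have hall : fixF (m : Equiv.Perm GolayPt) = Finset.univ :=
      Finset.eq_univ_of_card _ (by rw [CfsgLib.M24Idx.card_pt]; omega)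
    have : (m : Equiv.Perm GolayPt) = 1 := Equiv.ext fun z => mem_fixF.1 (hall ▸ Finset.mem_univ z)
    rw [this, orderOf_one] at hm
    norm_num at hm
  refine ⟨p, hp, fun m => ⟨fun hm => ?_, fun hm => hKS hm⟩⟩
  have hd := Subgroup.index_dvd_of_le hKS
  rw [hK] at hd
  rcases (Nat.dvd_prime (by norm_num)).1 hd with h | h
  · exact absurd (Subgroup.index_eq_one.1 h) hne
  · have h1 := Subgroup.relIndex_mul_index hKS
    rw [h, hK] at h1
    exact Subgroup.relIndex_eq_one.1 (by omega : K.relIndex S = 1) hm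

/-- An octad is the fixed set of an involution of M24. -/
theorem exists_invol_octad {o : Finset GolayPt} (ho : o ∈ octads) :
    ∃ t ∈ M24, orderOf t = 2 ∧ (Finset.univ.filter fun p => t p = p) = o := by
  classical
  haveI : Fact (Nat.Prime 2) := ⟨Nat.prime_two⟩
  obtain ⟨hc, hsq⟩ := octad_pointwise ho
  set E := M24 ⊓ fixingSubgroup (Equiv.Perm GolayPt) (o : Set GolayPt) with hE
  obtain ⟨⟨t, htE⟩, ht⟩ := exists_prime_orderOf_dvd_card' (G := E) 2 (by rw [hc]; norm_num)
  rw [Subgroup.orderOf_mk] at ht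
  refine ⟨t, htE.1, ht, (Finset.eq_of_subset_of_card_le (fun p hp => ?_) ?_).symm⟩
  · exact Finset.mem_filter.2 ⟨Finset.mem_univ p, (mem_fixingSubgroup_iff _).1 htE.2 p hp⟩
  · obtain ⟨-, -, ⟨-, h0⟩ | ⟨-, h8⟩⟩ := inv_cases htE.1 ht
    · rw [h0]; exact Nat.zero_le _
    · rw [h8, octads_steiner.1 o ho]

/-- An involution with eight fixed points fixes an octad. -/
theorem octad_of_invol {t : Equiv.Perm GolayPt} (ht : t ∈ M24) (ho : orderOf t = 2)
    (h8 : (Finset.univ.filter fun p => t p = p).card = 8) :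
    (Finset.univ.filter fun p => t p = p) ∈ octads := by
  classical
  obtain ⟨u, hu, ⟨-, h0⟩ | ⟨e, -⟩⟩ := inv_cases ht ho
  · rw [h8] at h0; norm_num at h0
  · rw [e, conj_fixed_set]
    exact octads_smul hu elU_fixed_octad

variable {G : Type*} [Group G]

/-- A group with the local facts and three involutions in the centralisers is the Mathieu group. -/
theorem equiv_M24 [Finite G] (hL : Local G) (hE : Extra G) : Nonempty (G ≃* ↥Cfsg.M24) := by
  classical
  haveI : Fintype G := Fintype.ofFinite G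
  haveI : Fact (Nat.Prime 2) := ⟨Nat.prime_two⟩
  obtain ⟨H, hH⟩ := exists_index24 hL hE
  haveI : Fintype (G ⧸ H) := Fintype.ofFinite _
  have h24 : Fintype.card (G ⧸ H) = 24 := by rw [← Nat.card_eq_fintype_card, ← Subgroup.index, hH]
  set a : G ⧸ H := ((1 : G) : G ⧸ H) with ha
  obtain ⟨e⟩ := CfsgLib.MTwentyThreeUnique.equiv_M23 (stab_local hL H hH hE)
  obtain ⟨q, hq⟩ : ∃ q : G ⧸ H, q ≠ a := Fintype.exists_ne_of_one_lt_card (by rw [h24]; norm_num) a
  have hfixa : ∀ h : H, (h : G) • a = a := fun h => (mem_iff_fix H _).2 h.2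
  have htr : ∀ x, x ≠ a → ∃ h : H, (h : G) • q = x := fun x hx => by
    obtain ⟨h, hh, e⟩ := stab_transitive hL H hH q x hq hx
    exact ⟨⟨h, hh⟩, e⟩
  let K₀ : Subgroup H := MulAction.stabilizer H q
  have hK₀ : K₀.index = 23 := by
    rw [MulAction.index_stabilizer, show MulAction.orbit H q = {p | p ≠ a} from ?_, ← Nat.card_coe_set_eq,
      Nat.card_eq_fintype_card, Set.card_ne_eq, h24]
    ext p
    constructor
    · rintro ⟨h, rfl⟩ (e' : (h : G) • q = a)
      exact hq (smul_left_cancel (h : G) (e'.trans (hfixa h).symm))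
    · intro hp
      exact htr p hp
  obtain ⟨p, hp, hpK⟩ := index23_is_stab (K₀.map e.toMonoidHom) (by
    rw [← hK₀]; exact Subgroup.index_map_equiv K₀ e)
  have hpK' : ∀ h : H, ((e h : ↥Cfsg.Spor.M23) : Equiv.Perm GolayPt) p = p ↔ (h : G) • q = q := fun h => by
    rw [hpK]
    exact Subgroup.mem_map_iff_mem (f := e.toMonoidHom) e.injective
  choose hx hhx using htr
  let f : G ⧸ H → GolayPt := fun x => if hxa : x = a then none else
    ((e (hx x hxa) : ↥Cfsg.Spor.M23) : Equiv.Perm GolayPt) p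
  have hM : ∀ h : H, ((e h : ↥Cfsg.Spor.M23) : Equiv.Perm GolayPt) none = none := fun h =>
    (CfsgLib.MTwentyThreeUnique.mem_M23_iff.1 (e h).2).2
  have hfq : ∀ h : H, f ((h : G) • q) = ((e h : ↥Cfsg.Spor.M23) : Equiv.Perm GolayPt) p := fun h => by
    have hne : (h : G) • q ≠ a := fun e' => hq (smul_left_cancel (h : G) (e'.trans (hfixa h).symm))
    simp only [f, dif_neg hne]
    have h1 := (hpK' (h⁻¹ * hx _ hne)).2 (by
      rw [Subgroup.coe_mul, Subgroup.coe_inv, mul_smul, hhx, inv_smul_smul])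
    rw [map_mul, map_inv, Subgroup.coe_mul, Subgroup.coe_inv, Equiv.Perm.mul_apply, Equiv.Perm.inv_def,
      Equiv.symm_apply_eq] at h1
    exact h1
  have hfa : f a = none := by simp [f]
  have hfsmul : ∀ (h : H) (x : G ⧸ H), f ((h : G) • x) = ((e h : ↥Cfsg.Spor.M23) : Equiv.Perm GolayPt) (f x) :=
    fun h x => by
      by_cases hxa : x = a
      · rw [hxa, hfixa, hfa, hM]
      · obtain ⟨k, rfl⟩ : ∃ k : H, (k : G) • q = x := ⟨_, hhx x hxa⟩
        rw [hfq, ← mul_smul, ← Subgroup.coe_mul, hfq, map_mul, Subgroup.coe_mul, Equiv.Perm.mul_apply]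
  have hfne : ∀ h : H, ((e h : ↥Cfsg.Spor.M23) : Equiv.Perm GolayPt) p ≠ none := fun h e' =>
    hp (((e h : ↥Cfsg.Spor.M23) : Equiv.Perm GolayPt).injective (e'.trans (hM h).symm))
  have hfinj : Function.Injective f := fun x y hxy => by
    by_cases hxa : x = a <;> by_cases hya : y = a
    · rw [hxa, hya]
    · obtain ⟨k, rfl⟩ : ∃ k : H, (k : G) • q = y := ⟨_, hhx y hya⟩
      rw [hxa, hfa, hfq] at hxy
      exact absurd hxy.symm (hfne k)
    · obtain ⟨k, rfl⟩ : ∃ k : H, (k : G) • q = x := ⟨_, hhx x hxa⟩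
      rw [hya, hfa, hfq] at hxy
      exact absurd hxy (hfne k)
    · obtain ⟨k, rfl⟩ : ∃ k : H, (k : G) • q = x := ⟨_, hhx x hxa⟩
      obtain ⟨l, rfl⟩ : ∃ l : H, (l : G) • q = y := ⟨_, hhx y hya⟩
      rw [hfq, hfq] at hxy
      have h1 := (hpK' (l⁻¹ * k)).1 (by
        rw [map_mul, map_inv, Subgroup.coe_mul, Subgroup.coe_inv, Equiv.Perm.mul_apply, hxy,
          Equiv.Perm.inv_def, Equiv.symm_apply_apply])
      rw [Subgroup.coe_mul, Subgroup.coe_inv, mul_smul, inv_smul_eq_iff] at h1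
      exact h1
  let φ : G ⧸ H ≃ GolayPt := Equiv.ofBijective f
    ((Fintype.bijective_iff_injective_and_card f).2 ⟨hfinj, by rw [h24, CfsgLib.M24Idx.card_pt]⟩)
  let fx : G → Finset (G ⧸ H) := fun g => Finset.univ.filter fun x => g • x = x
  have hfx : ∀ h : H, (fx (h : G)).image φ =
      Finset.univ.filter fun z => ((e h : ↥Cfsg.Spor.M23) : Equiv.Perm GolayPt) z = z := fun h => by
    ext z
    obtain ⟨x, rfl⟩ := φ.surjective z
    simp only [fx, Finset.mem_image, Finset.mem_filter, Finset.mem_univ, true_and, φ.injective.eq_iff,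
      exists_eq_right]
    show (h : G) • x = x ↔ ((e h : ↥Cfsg.Spor.M23) : Equiv.Perm GolayPt) (f x) = f x
    rw [← hfsmul, hfinj.eq_iff]
  set B : Set (Finset (G ⧸ H)) := {b | b.card = 8 ∧ ∃ g : G, orderOf g = 2 ∧ b = fx g} with hB
  have hBsmul : ∀ (g : G) b, b ∈ B → b.image (g • ·) ∈ B := by
    rintro g b ⟨hb, t, ht, rfl⟩
    refine ⟨by rw [Finset.card_image_of_injective _ (MulAction.injective g), hb], g * t * g⁻¹,
      (orderOf_injective (MulAut.conj g).toMonoidHom (MulAut.conj g).injective t).trans ht, ?_⟩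
    ext x
    simp only [fx, Finset.mem_image, Finset.mem_filter, Finset.mem_univ, true_and]
    constructor
    · rintro ⟨y, hy, rfl⟩
      rw [smul_smul, inv_mul_cancel_right, mul_smul, hy]
    · intro hxe
      refine ⟨g⁻¹ • x, ?_, smul_inv_smul g x⟩
      rw [mul_smul, mul_smul, ← eq_inv_smul_iff] at hxe
      exact hxe
  have hbase : ∀ s : Finset (G ⧸ H), s.card = 5 → a ∈ s → ∃! b, b ∈ B ∧ s ⊆ b := by
    intro s hs has
    have hs' : (s.image φ).card = 5 := by rw [Finset.card_image_of_injective _ φ.injective, hs]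
    obtain ⟨o, ⟨ho, hso⟩, huniq⟩ := octads_steiner.2 _ hs'
    have hno : (none : GolayPt) ∈ o := hso (Finset.mem_image.2 ⟨a, has, hfa⟩)
    obtain ⟨t, htM, ht2, hto⟩ := exists_invol_octad ho
    have ht0 : t none = none := by
      rw [← hto] at hno
      exact (Finset.mem_filter.1 hno).2
    obtain ⟨h, hh⟩ := e.surjective ⟨t, CfsgLib.MTwentyThreeUnique.mem_M23_iff.2 ⟨htM, ht0⟩⟩
    have hho : orderOf (h : G) = 2 := by
      rw [Subgroup.orderOf_coe, ← e.orderOf_eq, hh, Subgroup.orderOf_mk, ht2]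
    have himg : (fx (h : G)).image φ = o := by rw [hfx, hh]; exact hto
    refine ⟨fx (h : G), ⟨⟨?_, _, hho, rfl⟩, ?_⟩, ?_⟩
    · rw [← Finset.card_image_of_injective (fx (h : G)) φ.injective, himg, octads_steiner.1 o ho]
    · intro x hx
      have := hso (Finset.mem_image_of_mem φ hx)
      rw [← himg] at this
      obtain ⟨y, hy, e'⟩ := Finset.mem_image.1 this
      exact φ.injective e' ▸ hy
    · rintro b ⟨⟨hb8, g, hg, rfl⟩, hsb⟩
      have hgH : g ∈ H := (mem_iff_fix H g).1 (Finset.mem_filter.1 (hsb has)).2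
      set g' : H := ⟨g, hgH⟩
      have h2 : orderOf ((e g' : ↥Cfsg.Spor.M23) : Equiv.Perm GolayPt) = 2 := by
        rw [Subgroup.orderOf_coe, e.orderOf_eq, Subgroup.orderOf_mk, hg]
      have h8 := hfx g'
      have hcard : (Finset.univ.filter fun z => ((e g' : ↥Cfsg.Spor.M23) : Equiv.Perm GolayPt) z = z).card = 8 := by
        rw [← h8, Finset.card_image_of_injective _ φ.injective, hb8]
      have hoct := octad_of_invol (CfsgLib.MTwentyThreeUnique.mem_M23_iff.1 (e g').2).1 h2 hcard
      rw [← h8] at hoct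
      have := huniq _ ⟨hoct, Finset.image_subset_image hsb⟩
      rw [← himg] at this
      exact Finset.image_injective φ.injective this
  have hst : Cfsg.IsSteinerSystem 5 8 B := by
    refine ⟨fun b hb => hb.1, fun s hs => ?_⟩
    obtain ⟨c, hc⟩ : s.Nonempty := by rw [← Finset.card_pos, hs]; norm_num
    obtain ⟨g, hg⟩ := MulAction.exists_smul_eq G c a
    obtain ⟨b, ⟨hb, hsb⟩, huniq⟩ := hbase (s.image (g • ·))
      (by rw [Finset.card_image_of_injective _ (MulAction.injective g), hs])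
      (Finset.mem_image.2 ⟨c, hc, hg⟩)
    refine ⟨b.image (g⁻¹ • ·), ⟨hBsmul _ _ hb, fun x hx => ?_⟩, ?_⟩
    · exact Finset.mem_image.2 ⟨g • x, hsb (Finset.mem_image_of_mem _ hx), inv_smul_smul g x⟩
    · rintro b' ⟨hb', hsb'⟩
      have := huniq _ ⟨hBsmul g _ hb', Finset.image_subset_image hsb'⟩
      rw [← this, Finset.image_image]
      conv_lhs => rw [← Finset.image_id (s := b')]
      exact Finset.image_congr fun x _ => (inv_smul_smul g x).symm
  obtain ⟨ψ, hψ⟩ := iso_octads h24 hst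
  let ρ : G →* Equiv.Perm GolayPt :=
    (ψ.permCongrHom.toMonoidHom).comp (MulAction.toPermHom G (G ⧸ H))
  have hρinj : Function.Injective ρ := ψ.permCongrHom.injective.comp (act_injective hL H hH)
  have hρapply : ∀ g z, ρ g z = ψ (g • ψ.symm z) := fun g z => rfl
  have hmem : ∀ g, ρ g ∈ M24 := fun g => by
    refine octad_aut_le ?_
    rw [setSystemAut, MulAction.mem_stabilizer_iff]
    refine Set.eq_of_subset_of_ncard_le ?_ (le_of_eq ?_) (Set.toFinite _)
    · rintro _ ⟨o, ho, rfl⟩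
      rw [← hψ] at ho ⊢
      obtain ⟨b, hb, rfl⟩ := ho
      refine ⟨b.image (g • ·), hBsmul g b hb, ?_⟩
      show (b.image (g • ·)).image ψ = ρ g • b.image ψ
      rw [Finset.smul_finset_def, Finset.image_image, Finset.image_image]
      refine Finset.image_congr fun x _ => ?_
      show ψ (g • x) = ρ g (ψ x)
      rw [hρapply, Equiv.symm_apply_apply]
    · exact (Set.ncard_smul_set _ _).symm
  exact ⟨MulEquiv.ofBijective (ρ.codRestrict M24 hmem)
    ((Nat.bijective_iff_injective_and_card _).2 ⟨fun x y h => hρinj (congrArg Subtype.val h), by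
      rw [hL.card, card_M24]⟩)⟩

end CfsgLib.MTwentyFourUnique
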