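import Mathlib

/-!
Sums of roots of unity of order seven and five fixed by part of the Galois group.
-/

set_option autoImplicit false

noncomputable section

namespace CfsgLib.MTwentyFourUnique

open scoped ComplexConjugate

/-- A primitive root of unity of order `p`. -/
def zeta (p : ℕ) : ℂ := Complex.exp (2 * Real.pi * Complex.I / p)

theorem zeta_prim (p : ℕ) [NeZero p] : IsPrimitiveRoot (zeta p) p :=
  Complex.isPrimitiveRoot_exp p (NeZero.ne p)

theorem zeta_pow (p : ℕ) [NeZero p] : zeta p ^ p = 1 := (zeta_prim p).pow_eq_one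

theorem conj_zeta_pow (p : ℕ) [NeZero p] {i j : ℕ} (h : i + j = p) : conj (zeta p ^ i) = zeta p ^ j := by
  have h1 : ‖zeta p ^ i‖ = 1 :=
    Complex.norm_eq_one_of_pow_eq_one (n := p) (by rw [← pow_mul, mul_comm, pow_mul, zeta_pow, one_pow]) (NeZero.ne p)
  rw [← Complex.inv_eq_conj h1]
  exact inv_eq_of_mul_eq_one_left (by rw [← pow_add, add_comm, h, zeta_pow])

/-- The powers below the degree are linearly independent. -/
theorem zeta_indep (p : ℕ) [Fact p.Prime] (a : Fin (p - 1) → ℤ)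
    (h : ∑ i, (a i : ℂ) * zeta p ^ (i : ℕ) = 0) : ∀ i, a i = 0 := by
  haveI : NeZero p := ⟨(Fact.out : p.Prime).ne_zero⟩
  have hdeg : (minpoly ℚ (zeta p)).natDegree = p - 1 := by
    rw [← Polynomial.cyclotomic_eq_minpoly_rat (zeta_prim p) (Fact.out : p.Prime).pos,
      Polynomial.natDegree_cyclotomic, Nat.totient_prime Fact.out]
  have hli := linearIndependent_pow (K := ℚ) (zeta p)
  rw [Fintype.linearIndependent_iff] at hli
  intro i
  have h2 := hli (fun j => ((a (Fin.cast hdeg j) : ℤ) : ℚ)) (by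
    rw [← h]
    refine Fintype.sum_equiv (finCongr hdeg) _ _ fun j => ?_
    simp [Algebra.smul_def]) (Fin.cast hdeg.symm i)
  simpa using h2

/-- Roots of unity of order dividing `p` counted by their exponents. -/
theorem exists_counts (p : ℕ) [NeZero p] {m : ℕ} (z : Fin m → ℂ) (hz : ∀ i, z i ^ p = 1) :
    ∃ c : Fin p → ℕ, (∑ j, c j = m) ∧
      ∀ k : ℕ, ∑ i, z i ^ k = ∑ j : Fin p, (c j : ℂ) * zeta p ^ ((j : ℕ) * k) := by
  classical
  choose e he hz' using fun i => (zeta_prim p).eq_pow_of_pow_eq_one (hz i)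
  refine ⟨fun j => (Finset.univ.filter fun i => (⟨e i, he i⟩ : Fin p) = j).card, ?_, fun k => ?_⟩
  · rw [← Finset.card_eq_sum_card_fiberwise (fun i _ => Finset.mem_univ _), Finset.card_univ, Fintype.card_fin]
  · rw [← Finset.sum_fiberwise Finset.univ (fun i => (⟨e i, he i⟩ : Fin p))]
    refine Finset.sum_congr rfl fun j _ => ?_
    rw [Finset.sum_congr rfl (g := fun _ => zeta p ^ ((j : ℕ) * k)) fun i hi => by
      rw [← (Finset.mem_filter.1 hi).2, ← hz' i, ← pow_mul]]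
    simp

/-- The period of length three. -/
def eta : ℂ := zeta 7 + zeta 7 ^ 2 + zeta 7 ^ 4

theorem seven_sum : 1 + zeta 7 + zeta 7 ^ 2 + zeta 7 ^ 3 + zeta 7 ^ 4 + zeta 7 ^ 5 + zeta 7 ^ 6 = 0 := by
  have h := (zeta_prim 7).geom_sum_eq_zero (by norm_num : 1 < 7)
  simpa [Finset.sum_range_succ] using h

theorem conj_eta : conj eta = zeta 7 ^ 6 + zeta 7 ^ 5 + zeta 7 ^ 3 := by
  have h1 := conj_zeta_pow 7 (show 1 + 6 = 7 from rfl)
  rw [pow_one] at h1
  rw [eta, map_add, map_add, h1, conj_zeta_pow 7 (show 2 + 5 = 7 from rfl),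
    conj_zeta_pow 7 (show 4 + 3 = 7 from rfl)]

theorem eta_add : eta + conj eta = -1 := by
  rw [conj_eta, eta]
  linear_combination seven_sum

theorem eta_mul : eta * conj eta = 2 := by
  rw [conj_eta, eta]
  linear_combination seven_sum + (zeta 7 ^ 3 + zeta 7 ^ 2 + zeta 7 + 3) * zeta_pow 7

theorem eta_sq : eta * eta = -2 - eta := by
  linear_combination eta * eta_add - eta_mul

/-- An element of the ring of `η` by its two coordinates. -/
def cEta (U V : ℤ) : ℂ := -(U : ℂ) * eta - (V : ℂ) * conj eta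

theorem conj_cEta (U V : ℤ) : conj (cEta U V) = cEta V U := by
  simp [cEta]; ring

theorem cEta_self (U : ℤ) : cEta U U = U := by
  rw [cEta]; linear_combination -(U : ℂ) * eta_add

theorem cEta_inj {U V U' V' : ℤ} (h : cEta U V = cEta U' V') : U = U' ∧ V = V' := by
  set a := U - U' with ha
  set b := V - V' with hb
  have h0 : cEta a b = 0 := by
    simp only [cEta, ha, hb, Int.cast_sub] at h ⊢
    linear_combination h
  have h1 : ((2 * (a * a) + 2 * (b * b) - 3 * (a * b) : ℤ) : ℂ) = 0 := by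
    have h2 : cEta a b * conj (cEta a b) = 0 := by rw [h0, zero_mul]
    rw [conj_cEta] at h2
    simp only [cEta] at h2
    push_cast
    linear_combination h2 - ((a : ℂ) * b) * (eta + conj eta - 1) * eta_add -
      ((a : ℂ) ^ 2 + (b : ℂ) ^ 2 - 2 * ((a : ℂ) * b)) * eta_mul
  have h3 : 2 * (a * a) + 2 * (b * b) - 3 * (a * b) = 0 := by exact_mod_cast h1
  have h4 : a = 0 ∧ b = 0 := by
    constructor <;> nlinarith [mul_self_nonneg (4 * a - 3 * b), mul_self_nonneg (4 * b - 3 * a)]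
  omega

/-- A sum of seventh roots of unity fixed by squaring. -/
theorem exists_cEta {m : ℕ} (z : Fin m → ℂ) (hz : ∀ i, z i ^ 7 = 1) (h : ∑ i, z i ^ 2 = ∑ i, z i) :
    ∃ U V : ℤ, ∑ i, z i = cEta U V ∧ (7 : ℤ) ∣ (m : ℤ) + 3 * (U + V) := by
  haveI : Fact (Nat.Prime 7) := ⟨by norm_num⟩
  obtain ⟨c, hc, hk⟩ := exists_counts 7 z hz
  have e1 := hk 1
  simp only [pow_one, mul_one] at e1
  rw [hk 2, e1] at h
  simp only [Fin.sum_univ_seven, Fin.isValue] at h e1 hc
  norm_num at h e1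
  have hind := zeta_indep 7 ![(c 4 : ℤ) - c 1, (c 1 : ℤ) - c 2, (c 5 : ℤ) - c 3, (c 2 : ℤ) - c 4,
    (c 6 : ℤ) - c 5, (c 3 : ℤ) - c 6] (by
      simp [Fin.sum_univ_succ]
      have hne : zeta 7 ≠ 0 := (zeta_prim 7).ne_zero (by norm_num)
      refine mul_left_cancel₀ hne ?_
      linear_combination h - ((c 4 : ℂ) * zeta 7 + (c 5 : ℂ) * zeta 7 ^ 3 + (c 6 : ℂ) * zeta 7 ^ 5) * zeta_pow 7)
  have a0 := hind 0
  have a1 := hind 1
  have a2 := hind 2
  have a3 := hind 3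
  have a4 := hind 4
  simp at a0 a1 a2 a3 a4
  refine ⟨(c 0 : ℤ) - c 1, (c 0 : ℤ) - c 3, ?_, ⟨c 0, ?_⟩⟩
  · have q1 : (c 2 : ℂ) = c 1 := by exact_mod_cast (by omega : (c 2 : ℤ) = c 1)
    have q2 : (c 4 : ℂ) = c 1 := by exact_mod_cast (by omega : (c 4 : ℤ) = c 1)
    have q3 : (c 5 : ℂ) = c 3 := by exact_mod_cast (by omega : (c 5 : ℤ) = c 3)
    have q4 : (c 6 : ℂ) = c 3 := by exact_mod_cast (by omega : (c 6 : ℤ) = c 3)
    rw [e1, cEta, conj_eta, eta, q1, q2, q3, q4]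
    push_cast
    linear_combination (c 0 : ℂ) * seven_sum
  · rw [← hc]; push_cast; omega

/-- The first period of length two. -/
def alpha : ℂ := zeta 5 + zeta 5 ^ 4

/-- The second period of length two. -/
def beta : ℂ := zeta 5 ^ 2 + zeta 5 ^ 3

theorem five_sum : 1 + zeta 5 + zeta 5 ^ 2 + zeta 5 ^ 3 + zeta 5 ^ 4 = 0 := by
  have h := (zeta_prim 5).geom_sum_eq_zero (by norm_num : 1 < 5)
  simpa [Finset.sum_range_succ] using h

theorem alpha_add : alpha + beta = -1 := by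
  rw [alpha, beta]; linear_combination five_sum

theorem alpha_mul : alpha * beta = -1 := by
  rw [alpha, beta]
  linear_combination five_sum + (zeta 5 + zeta 5 ^ 2) * zeta_pow 5

theorem alpha_ne : alpha ≠ beta := fun h => by
  have h1 := alpha_add
  have h2 := alpha_mul
  rw [← h] at h1 h2
  have h3 : alpha = -(1 / 2) := by linear_combination h1 / 2
  rw [h3] at h2
  norm_num at h2

/-- The conjugate pair with coordinates `U`, `V`. -/
def cPhi (U V : ℤ) : ℂ := -(U : ℂ) * alpha - (V : ℂ) * beta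

theorem cPhi_self (U : ℤ) : cPhi U U = U := by
  rw [cPhi]; linear_combination -(U : ℂ) * alpha_add

/-- A sum of fifth roots of unity fixed by inversion, and its conjugate. -/
theorem exists_cPhi {m : ℕ} (z : Fin m → ℂ) (hz : ∀ i, z i ^ 5 = 1) (h : ∑ i, z i ^ 4 = ∑ i, z i) :
    ∃ U V : ℤ, ∑ i, z i = cPhi U V ∧ ∑ i, z i ^ 2 = cPhi V U ∧ (5 : ℤ) ∣ (m : ℤ) + 2 * (U + V) ∧
      (∑ i, z i ^ 2 = ∑ i, z i → U = V) := by
  haveI : Fact (Nat.Prime 5) := ⟨by norm_num⟩
  obtain ⟨c, hc, hk⟩ := exists_counts 5 z hz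
  have e1 := hk 1
  have e2 := hk 2
  simp only [pow_one, mul_one] at e1
  rw [hk 4, e1] at h
  simp only [Fin.sum_univ_five, Fin.isValue] at h e1 e2 hc
  norm_num at h e1 e2
  have hind := zeta_indep 5 ![(c 4 : ℤ) - c 1, (c 3 : ℤ) - c 2, (c 2 : ℤ) - c 3, (c 1 : ℤ) - c 4] (by
      simp [Fin.sum_univ_succ]
      have hne : zeta 5 ≠ 0 := (zeta_prim 5).ne_zero (by norm_num)
      refine mul_left_cancel₀ hne ?_
      linear_combination h - ((c 2 : ℂ) * zeta 5 ^ 3 + (c 3 : ℂ) * (zeta 5 ^ 7 + zeta 5 ^ 2) +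
        (c 4 : ℂ) * (zeta 5 ^ 11 + zeta 5 ^ 6 + zeta 5)) * zeta_pow 5)
  have a0 := hind 0
  have a1 := hind 1
  simp at a0 a1
  have q1 : (c 4 : ℂ) = c 1 := by exact_mod_cast (by omega : (c 4 : ℤ) = c 1)
  have q2 : (c 3 : ℂ) = c 2 := by exact_mod_cast (by omega : (c 3 : ℤ) = c 2)
  have h1 : ∑ i, z i = cPhi ((c 0 : ℤ) - c 1) ((c 0 : ℤ) - c 2) := by
    rw [e1, cPhi, alpha, beta, q1, q2]
    push_cast
    linear_combination (c 0 : ℂ) * five_sum
  have h2 : ∑ i, z i ^ 2 = cPhi ((c 0 : ℤ) - c 2) ((c 0 : ℤ) - c 1) := by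
    rw [e2, cPhi, alpha, beta, q1, q2]
    push_cast
    linear_combination (c 0 : ℂ) * five_sum + ((c 2 : ℂ) * zeta 5 + (c 1 : ℂ) * zeta 5 ^ 3) * zeta_pow 5
  refine ⟨_, _, h1, h2, ⟨c 0, by rw [← hc]; push_cast; omega⟩, fun he => ?_⟩
  rw [h1, h2, cPhi, cPhi] at he
  push_cast at he
  have h3 : (((c 1 : ℤ) - c 2 : ℤ) : ℂ) * (alpha - beta) = 0 := by
    push_cast; linear_combination -he
  rcases mul_eq_zero.1 h3 with h4 | h4
  · have : (c 1 : ℤ) - c 2 = 0 := by exact_mod_cast h4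
    omega
  · exact absurd (sub_eq_zero.1 h4) alpha_ne

end CfsgLib.MTwentyFourUnique
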