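import Cfsg.Agent.Lib.MTwentyFourUnique.Proj
import Cfsg.Agent.Lib.MTwentyFourUnique.Roots
import Mathlib

/-!
Averages over cyclic subgroups.
-/

set_option autoImplicit false
set_option linter.style.haveILetI false

noncomputable section

namespace CfsgLib.MTwentyFourUnique

open Subgroup Cfsg
open scoped ComplexConjugate

variable {G : Type*} [Group G] [Fintype G]

/-- A sum over a cyclic subgroup as a sum over exponents. -/
theorem sum_zpowers_range (s : G) [Fintype (zpowers s)] (F : zpowers s → ℂ) :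
    ∑ h, F h = ∑ i ∈ Finset.range (orderOf s), F ⟨s ^ i, npow_mem_zpowers s i⟩ := by
  rw [Finset.sum_range fun i => F ⟨s ^ i, npow_mem_zpowers s i⟩]
  exact (Fintype.sum_equiv (finEquivZPowers (isOfFinOrder_of_finite s)) _ _ fun i => rfl).symm

/-- A linear character of `⟨s⟩` taking a given root of unity at `s`. -/
theorem exists_hom (s : G) {w : ℂ} (hw : w ^ orderOf s = 1) :
    ∃ μ : zpowers s →* ℂ, ∀ i : ℕ, μ ⟨s ^ i, npow_mem_zpowers s i⟩ = w ^ i := by
  have hne : w ≠ 0 := by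
    rintro rfl
    rw [zero_pow (orderOf_pos s).ne'] at hw
    exact zero_ne_one hw
  have hgen : ∀ h : zpowers s, h ∈ zpowers (⟨s, mem_zpowers s⟩ : zpowers s) := fun h => by
    obtain ⟨i, hi⟩ := mem_zpowers_iff.1 h.2
    exact mem_zpowers_iff.2 ⟨i, Subtype.ext (by simpa using hi)⟩
  let g' : ℂˣ := Units.mk0 w hne
  have hd : orderOf g' ∣ orderOf (⟨s, mem_zpowers s⟩ : zpowers s) := by
    rw [Subgroup.orderOf_mk]
    exact orderOf_dvd_of_pow_eq_one (Units.ext (by simpa [g'] using hw))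
  refine ⟨(Units.coeHom ℂ).comp (monoidHomOfForallMemZpowers hgen hd), fun i => ?_⟩
  have e : (⟨s ^ i, npow_mem_zpowers s i⟩ : zpowers s) = (⟨s, mem_zpowers s⟩ : zpowers s) ^ i :=
    Subtype.ext (by simp)
  rw [e, map_pow, MonoidHom.comp_apply, monoidHomOfForallMemZpowers_apply_gen]
  rfl

/-- The averages over `⟨s⟩` with `μ s = w`, at the powers of a commuting element. -/
theorem exists_roots_cyclic {χ : G → ℂ} (hχ : IsCharacter G χ) (g s : G) (hgs : Commute g s) {w : ℂ}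
    (hw : w ^ orderOf s = 1) :
    ∃ (m : ℕ) (z : Fin m → ℂ), (∀ i, z i ^ orderOf g = 1) ∧ ∀ k : ℕ,
      (orderOf s : ℂ) * ∑ i, z i ^ k =
        ∑ i ∈ Finset.range (orderOf s), χ (g ^ k * s ^ i) * (w ^ i)⁻¹ := by
  haveI := Fintype.ofFinite (zpowers s)
  obtain ⟨μ, hμ⟩ := exists_hom s hw
  obtain ⟨m, z, hz, h⟩ := exists_roots_avg hχ (zpowers s) μ g fun u => by
    obtain ⟨i, hi⟩ := mem_zpowers_iff.1 u.2
    rw [← hi]
    exact hgs.zpow_right i
  refine ⟨m, z, hz, fun k => ?_⟩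
  have hc : (Fintype.card (zpowers s) : ℂ) = (orderOf s : ℂ) := by
    rw [← Nat.card_eq_fintype_card, Nat.card_zpowers]
  rw [← h k, avg, hc, ← mul_assoc, mul_inv_cancel₀ (by exact_mod_cast (orderOf_pos s).ne'), one_mul,
    sum_zpowers_range]
  refine Finset.sum_congr rfl fun i _ => ?_
  congr 1
  have h1 : μ (⟨s ^ i, npow_mem_zpowers s i⟩ : zpowers s) * μ (⟨s ^ i, npow_mem_zpowers s i⟩ : zpowers s)⁻¹ = 1 := by
    rw [← map_mul, mul_inv_cancel, map_one]
  rw [eq_inv_of_mul_eq_one_right h1, hμ]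

end CfsgLib.MTwentyFourUnique
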