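import Cfsg.Agent.Lib.MTwentyFourUnique.SearchData
import Mathlib

/-!
The search: no choice of row sets at five and seven compatible with the two class multiplication
congruences avoids the degree twenty-three.
-/

set_option autoImplicit false

namespace CfsgLib.MTwentyFourUnique.Search

/-- The order. -/
def G0 : ℕ := 244823040

/-- `f` holds at every non-empty suffix. -/
noncomputable def allTails (f : List ℕ → Bool) (L : List ℕ) : Bool :=
  List.rec true (fun a L ih => cond (f (a :: L)) ih false) L

/-- `P` holds at every list of `k` members of `L`, repetitions allowed. -/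
noncomputable def allPicks (P : List ℕ → Bool) (k : ℕ) : List ℕ → List ℕ → Bool :=
  Nat.rec (motive := fun _ => List ℕ → List ℕ → Bool) (fun _ acc => P acc)
    (fun _ ih L acc => allTails (fun T => ih T (T.headI :: acc)) L) k

theorem allTails_cons (f : List ℕ → Bool) (a : ℕ) (L : List ℕ) :
    allTails f (a :: L) = (f (a :: L) && allTails f L) := by
  show cond _ _ _ = _
  rw [Bool.cond_false_right]
  rfl

theorem allPicks_spec (P : List ℕ → Bool) : ∀ (k : ℕ) (L acc : List ℕ), allPicks P k L acc = true →
    ∀ m : Multiset ℕ, Multiset.card m = k → (∀ d ∈ m, d ∈ L) →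
      ∃ l : List ℕ, (l : Multiset ℕ) = m + (acc : Multiset ℕ) ∧ P l = true
  | 0, _, acc, h, m, hm, _ => ⟨acc, by simp [Multiset.card_eq_zero.1 hm], h⟩
  | k + 1, L, acc, h, m, hm, hL => by
    replace h : allTails (fun T => allPicks P k T (T.headI :: acc)) L = true := h
    induction L with
    | nil =>
      obtain ⟨d, hd⟩ := Multiset.card_pos_iff_exists_mem.1 (by omega : 0 < Multiset.card m)
      exact absurd (hL d hd) List.not_mem_nil
    | cons a L ih =>
      rw [allTails_cons, Bool.and_eq_true] at h
      by_cases ha : a ∈ m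
      · obtain ⟨m', rfl⟩ := Multiset.exists_cons_of_mem ha
        rw [Multiset.card_cons] at hm
        obtain ⟨l, hl, hP⟩ := allPicks_spec P k (a :: L) (a :: acc) h.1 m' (by omega) fun d hd =>
          hL d (Multiset.mem_cons_of_mem hd)
        exact ⟨l, by rw [hl, ← Multiset.cons_coe, Multiset.add_cons, Multiset.cons_add], hP⟩
      · exact ih (fun d hd => (List.mem_cons.1 (hL d hd)).resolve_left fun e => ha (e ▸ hd)) h.2

/-- Candidates congruent to `±r` modulo `p`. -/
def pool (p r : ℕ) : List ℕ := cand.filter fun d => decide (d % p = r % p ∨ (d + r) % p = 0)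

/-- The weight of a degree in a key. -/
noncomputable def wt (L : List ℕ) (d : ℕ) : ℕ :=
  List.rec 0 (fun a _ ih => cond (Nat.beq a d) 1 (32 * ih)) L

/-- The key of a list. -/
noncomputable def keyOf (L l : List ℕ) : ℕ := (l.map (wt L)).sum

/-- The bit of a degree. -/
noncomputable def bit (L : List ℕ) (d : ℕ) : ℕ :=
  List.rec 0 (fun a _ ih => cond (Nat.beq a d) 1 (2 * ih)) L

/-- The mask of a list. -/
noncomputable def maskOf (L l : List ℕ) : ℕ := (l.map (bit L)).foldr (· ||| ·) 0

/-- Squares of the multiples of seven. -/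
def sq7 (l : List ℕ) : ℕ := (l.map fun d => if d % 7 = 0 then d * d else 0).sum

/-- The sign of a degree congruent to `±φ`. -/
def sg (p φ d : ℕ) : ℤ := if d % p = φ % p then 1 else -1

/-- The signed sum. -/
def tot (p φ : ℕ) (l : List ℕ) : ℤ := (l.map fun d => sg p φ d * (d : ℤ)).sum

/-- The sum of `sign · φ³ · |G| / d`. -/
def sum3 (φ : ℕ) (l : List ℕ) : ℤ :=
  (l.map fun d => sg 7 φ d * (φ : ℤ) ^ 3 * ((G0 / d : ℕ) : ℤ)).sum

/-- The summary of a row set at seven with exceptional degree `f` and sign `e`. -/
noncomputable def sum7 (φ : ℕ) (l : List ℕ) (f : ℕ) (e : ℤ) : S7 :=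
  (((sum3 φ l - 5 * e * (φ : ℤ) ^ 3 * ((G0 / f : ℕ) : ℤ)) % 1764).toNat,
   ((sum3 φ l + 2 * e * (φ : ℤ) ^ 3 * ((G0 / f : ℕ) : ℤ)) % 1764).toNat,
   (l.map fun d => d * d).sum + 2 * (f * f),
   maskOf ndA (l ++ [f, f]), keyOf ndA (l ++ [f, f]), keyOf ndB (l ++ [f, f]))

/-- The conditions on a row set at seven. -/
def ok7 (φ : ℕ) (l : List ℕ) : Bool :=
  let T := tot 7 φ l
  decide (T ≠ 0 ∧ T.natAbs ∈ pool 7 (3 * φ) ∧
    T.natAbs % 7 = (if 0 < T then 3 * φ % 7 else 4 * φ % 7))

/-- Every row set at seven is in the table, or has the degree 23 when that is excluded. -/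
noncomputable def chk7 (φ : ℕ) (first : List ℕ) (skip : Bool) (t : List S7) : Bool :=
  allPicks (fun l =>
    let T := tot 7 φ l
    !ok7 φ l || (skip && decide (23 ∈ l ∨ T.natAbs = 23)) ||
      decide (sum7 φ l T.natAbs (if 0 < T then -1 else 1) ∈ t)) (3 - first.length) (pool 7 φ) first

/-- Membership, for fast evaluation. -/
noncomputable def memB (L : List ℕ) (n : ℕ) : Bool :=
  List.rec false (fun a _ ih => cond (Nat.beq a n) true ih) L

theorem memB_iff (L : List ℕ) (n : ℕ) : memB L n = true ↔ n ∈ L := by
  induction L with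
  | nil => simp [memB]
  | cons a l ih =>
    rw [List.mem_cons, ← ih]
    show cond (Nat.beq a n) true (memB l n) = true ↔ _
    cases h : Nat.beq a n with
    | true => simp [(Nat.eq_of_beq_eq_true h).symm]
    | false =>
      have : n ≠ a := fun e => Nat.ne_of_beq_eq_false h e.symm
      simp [this]

/-- The test at the fifth degree `f`. -/
noncomputable def fifth (r : ℕ) (L : List ℕ) (P : List ℕ → Bool) (l : List ℕ) (neg : Bool) (f : ℕ) : Bool :=
  cond (Nat.beq (G0 % f) 0) (cond (Nat.beq (f % 5) r == neg) (cond (memB L f) (P (f :: l)) true) true) true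

/-- The sums of the degrees congruent to `r` and of the others, and the test at the missing degree. -/
noncomputable def close5 (r : ℕ) (L : List ℕ) (P : List ℕ → Bool) (l : List ℕ) (ds : List ℕ) : ℕ → ℕ → Bool :=
  List.rec (motive := fun _ => ℕ → ℕ → Bool)
    (fun a b => cond (Nat.blt a b) (fifth r L P l true (b - a))
      (cond (Nat.blt b a) (fifth r L P l false (a - b)) true))
    (fun d _ ih a b => cond (Nat.beq (d % 5) r) (ih (a + d) b) (ih a (b + d))) ds

/-- Every five-element row set at five satisfies `P`. -/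
noncomputable def chk5 (r : ℕ) (L : List ℕ) (first : List ℕ) (k : ℕ) (P : List ℕ → Bool) : Bool :=
  allPicks (fun l => close5 r L P l l 0 0) k L first

/-- Every two-element row set at five satisfies `P`. -/
noncomputable def chk5two (φ : ℕ) (P : List ℕ → Bool) : Bool :=
  (pool 5 (2 * φ)).all fun d => !decide (2 * d ∈ pool 5 φ) || P [d, 2 * d]

/-- The lookup. -/
noncomputable def lookup (t : WT) (n : ℕ) : List (ℕ × ℕ) :=
  WT.rec [] (fun k es _ _ l r => cond (Nat.blt n k) l (cond (Nat.blt k n) r es)) t

/-- Membership in a list of pairs. -/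
noncomputable def memPair (L : List (ℕ × ℕ)) (a b : ℕ) : Bool :=
  List.rec false (fun e _ ih => cond (Nat.beq e.1 a) (cond (Nat.beq e.2 b) true ih) ih) L

/-- Membership in the tables. -/
noncomputable def inP (l : List ℕ) : Bool := decide ((maskOf ndA l, keyOf ndA l, sq7 l) ∈ tabP)

/-- Membership in the tables. -/
noncomputable def inF (l : List ℕ) : Bool := memPair tabF (keyOf ndB l) (sq7 l)

/-- Membership in the tables. -/
noncomputable def inW (l : List ℕ) : Bool := memPair (lookup tabW (keyOf ndA l)) (keyOf ndB l) (sq7 l)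

/-- Every row set of the mixed shape at five satisfies `P`. -/
noncomputable def chkW (P : List ℕ → Bool) : Bool :=
  allPicks (fun r =>
    let T := tot 5 2 r
    !decide (T ≠ 0 ∧ T.natAbs ∈ pool 5 1 ∧ (T.natAbs % 5 = 1 ↔ T < 0)) || P (r ++ [T.natAbs, T.natAbs]))
    2 (pool 5 2) []

/-- No compatible row sets at five. -/
noncomputable def noFive (q ma ka kb : ℕ) : Bool :=
  tabP.all fun p => cond (Nat.beq (p.1 ||| ma) ma && Nat.ble (q + p.2.2) G0 && Nat.ble p.2.1 ka)
    ((lookup tabW (ka - p.2.1)).all fun w => cond (Nat.ble w.1 kb && Nat.ble (q + p.2.2 + w.2) G0)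
      (tabF.all fun f => cond (Nat.beq f.1 (kb - w.1)) (Nat.blt G0 (q + p.2.2 + w.2 + f.2)) true) true) true

/-- No compatible row sets beside two sums: the needed residues, the squares, the mask and the keys. -/
noncomputable def noSolC (r₁ r₂ q m ka kb : ℕ) (L : List S7) : Bool :=
  List.rec true (fun c _ ih =>
    cond (Nat.beq c.1 r₁ && Nat.beq c.2.1 r₂ && Nat.ble (q + c.2.2.1) G0)
      (cond (noFive (q + c.2.2.1) (m ||| c.2.2.2.1) (ka + c.2.2.2.2.1) (kb + c.2.2.2.2.2)) ih false) ih) L

/-- No compatible row sets beside one of the table at the trivial character. -/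
noncomputable def noSolAt (a : S7) : Bool :=
  tabB.all fun b =>
    noSolC ((3528 - (a.1 + b.1)) % 1764) ((3528 - (a.2.1 + b.2.1)) % 1764) (a.2.2.1 + b.2.2.1)
      (a.2.2.2.1 ||| b.2.2.2.1) (a.2.2.2.2.1 + b.2.2.2.2.1) (a.2.2.2.2.2 + b.2.2.2.2.2) tabC

/-- The residue conditions select the candidates. -/
def candOk (d : ℕ) : Bool :=
  !(decide (2 ≤ d) && decide (G0 % d = 0) && decide (d % 11 ∈ [0, 1, 10]) &&
      decide (d % 23 ∈ [0, 1, 22, 11, 12])) || decide (d ∈ cand)

set_option maxRecDepth 100000

theorem candOk_all : (List.range 15647).all candOk = true := by decide +kernel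

theorem chk_A : chk7 1 [1] false tabA = true := by decide +kernel

theorem chk_B : chk7 1 [] false tabB = true := by decide +kernel

theorem chk_C : chk7 2 [] true tabC = true := by decide +kernel

theorem pools : pool 5 1 = poolFiveA ∧ pool 5 3 = poolFiveB := by decide +kernel

theorem chk_P : chk5 1 poolFiveA [1] 3 inP = true := by decide +kernel

theorem chk_F : chk5 3 poolFiveB [] 4 inF = true := by decide +kernel

theorem chk_F_two : chk5two 3 inF = true := by decide +kernel

theorem chk_W : chkW inW = true := by decide +kernel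

theorem chk_W_two : chk5 1 poolFiveA [] 4 (fun l => inW (l ++ l)) = true := by decide +kernel

theorem chk_W_pair : chk5two 1 (fun l => inW (l ++ l)) = true := by decide +kernel

theorem noSol_first : (tabA.take 4).all noSolAt = true := by decide +kernel

theorem noSol_last : (tabA.drop 4).all noSolAt = true := by decide +kernel

theorem pool_dvd : (∀ d ∈ poolFiveA, G0 % d = 0) ∧ ∀ d ∈ poolFiveB, G0 % d = 0 := by decide +kernel

end CfsgLib.MTwentyFourUnique.Search
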