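import Cfsg.Agent.Lib.MTwentyFourUnique.Hyp
import Cfsg.Agent.Lib.MTwentyFourUnique.Search
import Cfsg.Agent.Lib.MTwentyThreeUnique.Hyp
import Mathlib

/-!
The degrees of the characters: candidates from the residues at eleven and twenty-three.
-/

set_option autoImplicit false
set_option linter.style.haveILetI false

noncomputable section

namespace CfsgLib.MTwentyFourUnique

open Subgroup CfsgLib.InvolChar Cfsg
attribute [local instance] Classical.propDecidable

variable {G : Type*} [Group G] [Fintype G] (hL : Local G)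

include hL

omit [Fintype G] in
theorem not_comm : ¬ IsMulCommutative G := by
  haveI : Finite G := Nat.finite_of_card_ne_zero (by rw [hL.card]; norm_num)
  haveI := hL.simple
  exact CfsgLib.SmallGroups.not_isMulCommutative_of_not_prime (by rw [hL.card]; norm_num)

theorem deg_dvd (χ : IrrCharacter G) : deg χ ∣ 244823040 :=
  hL.card ▸ CfsgLib.Char.degree_dvd_card χ.2 (deg_spec χ)

theorem sum_sq_deg : ∑ χ : IrrCharacter G, deg χ * deg χ = 244823040 := by
  have h := CfsgLib.Char.sum_degree_sq (G := G)
  simp only [deg_spec, hL.card, ← pow_two] at h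
  simp only [← pow_two]
  exact_mod_cast h

theorem deg_ne_one {χ : IrrCharacter G} (hχ : χ ≠ CfsgLib.Char.irrOne) : deg χ ≠ 1 := by
  haveI := hL.simple
  exact fun h => hχ (CfsgLib.SmallGroups.MElevenDegrees.eq_irrOne_of_deg_one (not_comm hL) χ h)

theorem sylow_data {p c N : ℕ} [Fact p.Prime] (hp : p ^ 1 * (244823040 / p) = 244823040)
    (hp' : ¬ p ∣ 244823040 / p)
    (hloc : ∀ x : G, orderOf x = p → Nat.card (centralizer ({x} : Set G)) = c ∧
      Nat.card (normalizer ((zpowers x : Subgroup G) : Set G)) = N) (P : Sylow p G) :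
    Nat.card (P : Subgroup G) = p ∧ Nat.card (centralizer ((P : Subgroup G) : Set G)) = c ∧
      c * (centralizer ((P : Subgroup G) : Set G)).relIndex (normalizer ((P : Subgroup G) : Set G)) = N := by
  have hP : Nat.card (P : Subgroup G) = p := by
    simpa using CfsgLib.SmallGroups.card_sylow_eq (hL.card.trans hp.symm) hp' P
  have hz := CfsgLib.Blocks.PrimeSylow.zpowers_gen P hP
  obtain ⟨h1, h2⟩ := hloc _ (CfsgLib.Blocks.PrimeSylow.orderOf_gen P hP)
  rw [← centralizer_closure, ← zpowers_eq_closure, hz] at h1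
  rw [hz] at h2
  refine ⟨hP, h1, ?_⟩
  rw [← h2, ← h1]
  exact CfsgLib.SmallGroups.Order459648.card_centralizer_mul_relIndex _

open CfsgLib.MTwentyTwoUnique in
/-- The principal 11-block. -/
theorem exists_blk11 : Nonempty (SC G 11 10) := by
  haveI : Fact (Nat.Prime 11) := ⟨by norm_num⟩
  obtain ⟨P⟩ : Nonempty (Sylow 11 G) := inferInstance
  obtain ⟨hP, hC, he⟩ := sylow_data hL (c := 11) (N := 110) (by norm_num) (by norm_num) hL.eleven P
  exact exists_sc P hP hC 10 (by omega)

open CfsgLib.MTwentyTwoUnique in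
/-- The principal 23-block. -/
theorem exists_blk23 : Nonempty (SC G 23 11) := by
  haveI : Fact (Nat.Prime 23) := ⟨by norm_num⟩
  obtain ⟨P⟩ : Nonempty (Sylow 23 G) := inferInstance
  obtain ⟨hP, hC, he⟩ := sylow_data hL (c := 23) (N := 253) (by norm_num) (by norm_num) hL.twentyThree P
  exact exists_sc P hP hC 11 (by omega)

/-- A non-trivial degree is a candidate. -/
theorem deg_cand (χ : IrrCharacter G) (hχ : χ ≠ CfsgLib.Char.irrOne) : deg χ ∈ Search.cand := by
  have h2 : 2 ≤ deg χ := by have := deg_ne_one hL hχ; have := deg_pos χ; omega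
  have hd := deg_dvd hL χ
  have hlt : deg χ < 15647 := by
    have h := Finset.single_le_sum (fun j _ => Nat.zero_le (deg j * deg j)) (Finset.mem_univ χ)
    rw [sum_sq_deg hL] at h
    nlinarith
  obtain ⟨B⟩ := exists_blk11 hL
  obtain ⟨C⟩ := exists_blk23 hL
  have h11 : deg χ % 11 ∈ [0, 1, 10] := by
    simp only [List.mem_cons, List.not_mem_nil, or_false]
    by_cases hX : χ ∈ B.X
    · have := B.deg_X χ hX; have := B.s_sq χ hX; omega
    by_cases hY : χ ∈ B.Y
    · have := B.deg_Y χ hY; have := B.deg_f; have := B.ε_sq; omega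
    have := B.out_dvd χ hX hY; omega
  have h23 : deg χ % 23 ∈ [0, 1, 22, 11, 12] := by
    simp only [List.mem_cons, List.not_mem_nil, or_false]
    by_cases hX : χ ∈ C.X
    · have := C.deg_X χ hX; have := C.s_sq χ hX; omega
    by_cases hY : χ ∈ C.Y
    · have := C.deg_Y χ hY; have := C.deg_f; have := C.ε_sq; omega
    have := C.out_dvd χ hX hY; omega
  have h := List.all_eq_true.1 Search.candOk_all (deg χ) (List.mem_range.2 hlt)
  simp only [Search.candOk, Bool.or_eq_true, Bool.not_eq_true', decide_eq_true_eq] at h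
  refine h.resolve_left ?_
  have hG : Search.G0 % deg χ = 0 := Nat.mod_eq_zero_of_dvd hd
  simp [h2, hG, h11, h23]

end CfsgLib.MTwentyFourUnique
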