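import Cfsg.Agent.Lib.MTwentyFourUnique.CentData
import Cfsg.Agent.Lib.MathieuBlocks.Five
import Cfsg.Agent.Lib.M24Cert.QuartetStab
import Mathlib

/-!
Numbers of elements of given order in a centraliser of M24 listed element by element.
-/

set_option autoImplicit false

noncomputable section

namespace CfsgLib.MTwentyFourUnique

open Subgroup Cfsg CfsgLib.Golay CfsgLib.M24Cert

/-- The list has exactly the stated order. -/
def ordB (L : List ℕ) (o : ℕ) : Bool :=
  decide (0 < o) && powQL L o == List.range 24 &&
    (List.range o).all fun d => d == 0 || powQL L d != List.range 24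

/-- A list of elements of M24 centralising `X`, with their orders. -/
def centB (X : List ℕ) (l : List (List ℕ)) (os : List ℕ) : Bool :=
  m24Test X && decide l.Nodup && decide (os.length = l.length) &&
    (List.range l.length).all fun i =>
      m24Test (l.getD i []) && compL (l.getD i []) X == compL X (l.getD i []) && ordB (l.getD i []) (os.getD i 0)

theorem orderOf_of_ordB {L : List ℕ} {o : ℕ} (hv : validL 24 L = true) (h : ordB L o = true) :
    orderOf (pL L) = o := by
  simp only [ordB, Bool.and_eq_true, decide_eq_true_eq, List.all_eq_true, List.mem_range, Bool.or_eq_true,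
    beq_iff_eq, bne_iff_ne] at h
  obtain ⟨⟨ho, h1⟩, hd⟩ := h
  refine (orderOf_eq_iff ho).2 ⟨by rw [← (pL_powQL hv o).2, h1, pL_range], fun m hm hm0 e => ?_⟩
  rcases hd m hm with h | h
  · omega
  · exact h (pL_inj (pL_powQL hv m).1 (by decide) (((pL_powQL hv m).2.trans e).trans pL_range.symm))

theorem count_of_cert {X : List ℕ} {l : List (List ℕ)} {os : List ℕ} (h : centB X l os = true)
    {x : ↥M24} (hx : (x : Equiv.Perm GolayPt) = pL X)
    (hle : Nat.card (centralizer ({x} : Set ↥M24)) ≤ l.length) :
    Nat.card (centralizer ({x} : Set ↥M24)) = l.length ∧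
      ∀ k, Nat.card {g : centralizer ({x} : Set ↥M24) // orderOf g = k} =
        (Finset.univ.filter fun i : Fin l.length => os.getD i 0 = k).card := by
  classical
  simp only [centB, Bool.and_eq_true, decide_eq_true_eq, List.all_eq_true, List.mem_range, beq_iff_eq] at h
  obtain ⟨⟨⟨hX, hnd⟩, -⟩, hall⟩ := h
  have hv : ∀ i : Fin l.length, validL 24 (l.getD i []) = true := fun i => valid_of_m24Test (hall i i.2).1.1
  have hc : ∀ i : Fin l.length, (⟨pL (l.getD i []), mem_M24_of_test (hall i i.2).1.1⟩ : ↥M24) ∈
      centralizer ({x} : Set ↥M24) := fun i => mem_centralizer_singleton_iff.2 (Subtype.ext (by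
    simp only [Subgroup.coe_mul, hx]
    rw [← pL_compL (hv i) (valid_of_m24Test hX), (hall i i.2).1.2, pL_compL (valid_of_m24Test hX) (hv i)]))
  let f : Fin l.length → centralizer ({x} : Set ↥M24) := fun i => ⟨_, hc i⟩
  have hf : Function.Injective f := fun i j e => by
    have e' := pL_inj (hv i) (hv j)
      (congrArg (fun g : centralizer ({x} : Set ↥M24) => ((g : ↥M24) : Equiv.Perm GolayPt)) e)
    rw [List.getD_eq_getElem _ _ i.2, List.getD_eq_getElem _ _ j.2] at e'
    exact Fin.ext ((hnd.getElem_inj_iff).1 e')
  have hcard : Nat.card (centralizer ({x} : Set ↥M24)) = l.length :=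
    le_antisymm hle (by simpa using Nat.card_le_card_of_injective f hf)
  refine ⟨hcard, fun k => ?_⟩
  have hb : Function.Bijective f := hf.bijective_of_nat_card_le (by rw [hcard]; simp)
  rw [← Fintype.card_subtype, ← Nat.card_eq_fintype_card]
  refine (Nat.card_congr ((Equiv.ofBijective f hb).subtypeEquiv fun i => ?_)).symm
  show os.getD i 0 = k ↔ orderOf (f i) = k
  rw [← Subgroup.orderOf_coe, ← Subgroup.orderOf_coe]
  show _ ↔ orderOf (pL (l.getD i [])) = k
  rw [orderOf_of_ordB (hv i) (hall i i.2).2]

theorem cert_five : centB CfsgLib.MathieuBlocks.x5L cent5L ord5L = true := by decide +kernel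

theorem cert_seven : centB x7L cent7L ord7L = true := by decide +kernel

theorem x7_facts : powQL x7L 7 = List.range 24 ∧ x7L ≠ List.range 24 := by
  refine ⟨?_, ?_⟩ <;> decide +kernel

end CfsgLib.MTwentyFourUnique
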