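import Cfsg.Agent.Lib.MTwentyFourUnique.Hyp
import Cfsg.Agent.Lib.MTwentyFourUnique.CentList
import Cfsg.Agent.Lib.MTwentyThreeUnique.Concrete
import Cfsg.Agent.Lib.M24Cert.Cent
import Cfsg.Agent.S5604

/-!
The Mathieu group of degree 24 has the local facts at 5, 7, 11 and 23.
-/

set_option autoImplicit false
set_option linter.style.haveILetI false

noncomputable section

namespace CfsgLib.MTwentyFourUnique

open Subgroup Cfsg CfsgLib.Golay CfsgLib.MathieuBlocks CfsgLib.M24Cert CfsgLib.MTwentyTwoUnique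

theorem factorization_m24 {p m : ℕ} (hp : p.Prime) (h : 244823040 = p ^ 1 * m) (hm : ¬ p ∣ m) :
    (Nat.card ↥M24).factorization p = 1 :=
  factorization_one hp (card_M24.trans h) hm

/-- The representative of order five in M24. -/
def xM5 : ↥M24 := ⟨pL x5L, mem_M24_of_test lists_m24.2.1⟩

/-- The representative of order seven in M24. -/
def xM7 : ↥M24 := ⟨pL x7L, mem_M24_of_test (by decide +kernel)⟩

theorem orderOf_xM5 : orderOf xM5 = 5 := by
  rw [xM5, Subgroup.orderOf_mk, ← xFive_eq, orderOf_xFive]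

theorem orderOf_xM7 : orderOf xM7 = 7 := by
  haveI : Fact (Nat.Prime 7) := ⟨by norm_num⟩
  have hv : validL 24 x7L = true := valid_of_m24Test (by decide +kernel)
  rw [xM7, Subgroup.orderOf_mk]
  refine orderOf_eq_prime (by rw [← (pL_powQL hv 7).2, x7_facts.1, pL_range]) fun e => x7_facts.2 ?_
  exact pL_inj hv (by decide) (e.trans pL_range.symm)

theorem card_zpowers_centralizer {x : ↥M24} (hx : orderOf x = 7) :
    Nat.card (centralizer ({x} : Set ↥M24)) = 42 ∧
      Nat.card (normalizer ((zpowers x : Subgroup ↥M24) : Set ↥M24)) = 126 := by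
  obtain ⟨hN, hC, -⟩ := Cfsg.Agent.S5604.result (zpowers x) (by rw [Nat.card_zpowers, hx])
  refine ⟨?_, hN⟩
  rwa [zpowers_eq_closure, centralizer_closure] at hC

theorem five_count : Nat.card (centralizer ({xM5} : Set ↥M24)) = 60 ∧
    ∀ k, Nat.card {g : centralizer ({xM5} : Set ↥M24) // orderOf g = k} =
      (Finset.univ.filter fun i : Fin cent5L.length => ord5L.getD i 0 = k).card := by
  have h := count_of_cert cert_five (x := xM5) rfl (le_trans (Nat.card_le_card_of_injective
    (fun g : centralizer ({xM5} : Set ↥M24) => (⟨((g : ↥M24) : Equiv.Perm GolayPt), mem_centFive.2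
      ⟨(g : ↥M24).2, by rw [xFive_eq]; exact congrArg Subtype.val (mem_centralizer_singleton_iff.1 g.2)⟩⟩ :
        ↥centFive))
    fun a b e => Subtype.ext (Subtype.ext (congrArg (fun u : ↥centFive => (u : Equiv.Perm GolayPt)) e)))
      (centFive_M24.trans (by decide)))
  exact ⟨h.1.trans (by decide), h.2⟩

theorem seven_count : ∀ k, Nat.card {g : centralizer ({xM7} : Set ↥M24) // orderOf g = k} =
      (Finset.univ.filter fun i : Fin cent7L.length => ord7L.getD i 0 = k).card :=
  (count_of_cert cert_seven (x := xM7) rfl (by rw [(card_zpowers_centralizer orderOf_xM7).1]; decide)).2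

/-- The part fixing the last point. -/
theorem mem_stab_none {g : ↥M24} (h : (g : Equiv.Perm GolayPt) none = none) :
    (g : Equiv.Perm GolayPt) ∈ Cfsg.Spor.M23 :=
  CfsgLib.MTwentyThreeUnique.mem_M23_iff.2 ⟨g.2, h⟩

theorem eleven_fixed {σ : Equiv.Perm GolayPt} (hm : σ ∈ M24) (hσ : orderOf σ = 11) :
    (Finset.univ.filter fun q => σ q = q).card = 2 := by
  classical
  haveI : Fact (Nat.Prime 11) := ⟨by norm_num⟩
  have hσ1 : σ ≠ 1 := fun h => by rw [h, orderOf_one] at hσ; norm_num at hσ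
  have h8 := fixed_le_eight hm hσ1
  have h := Equiv.Perm.card_compl_support_modEq (n := 1) (σ := σ) (p := 11)
    (by rw [pow_one]; exact orderOf_dvd_iff_pow_eq_one.1 (dvd_of_eq hσ))
  rw [CfsgLib.MathieuNSE.card_points] at h
  have he : σ.supportᶜ = Finset.univ.filter fun q => σ q = q := by ext q; simp
  rw [he, Nat.ModEq] at h
  omega

theorem fixed_mod {p : ℕ} [Fact p.Prime] {σ τ : Equiv.Perm GolayPt} (hσ : σ ^ p = 1) (hc : τ * σ = σ * τ) :
    (Finset.univ.filter fun q => τ q = q).card % p =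
      (Finset.univ.filter fun q => τ q = q ∧ σ q = q).card % p := by
  classical
  have hp : ∀ q : GolayPt, τ (σ q) = σ q ↔ τ q = q := fun q => by
    rw [← Equiv.Perm.mul_apply, hc, Equiv.Perm.mul_apply, σ.injective.eq_iff]
  let ρ : Equiv.Perm {q : GolayPt // τ q = q} := σ.subtypePerm hp
  have hρ : ρ ^ p ^ 1 = 1 := by
    rw [pow_one, Equiv.Perm.subtypePerm_pow]
    ext q
    simp only [Equiv.Perm.subtypePerm_apply, hσ, Equiv.Perm.one_apply]
  have h := Equiv.Perm.card_compl_support_modEq hρ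
  rw [Nat.ModEq, Fintype.card_subtype] at h
  rw [← h]
  congr 1
  refine Finset.card_bij (fun q _ => q.1) (fun q hq => ?_) (fun a _ b _ e => Subtype.ext e) fun q hq => ?_
  · simp only [Finset.mem_compl, Equiv.Perm.mem_support, not_not, ρ, Equiv.Perm.subtypePerm_apply,
      Subtype.ext_iff] at hq
    exact Finset.mem_filter.2 ⟨Finset.mem_univ _, q.2, hq⟩
  · obtain ⟨-, h1, h2⟩ := Finset.mem_filter.1 hq
    exact ⟨⟨q, h1⟩, by simpa [ρ, Equiv.Perm.subtypePerm_apply, Subtype.ext_iff] using h2, rfl⟩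

/-- No involution commutes with an element of order eleven. -/
theorem no_involution_eleven {x t : Equiv.Perm GolayPt} (hx : x ∈ M24) (ht : t ∈ M24) (h11 : orderOf x = 11)
    (h2 : orderOf t = 2) : t * x ≠ x * t := by
  intro hc
  haveI : Fact (Nat.Prime 11) := ⟨by norm_num⟩
  obtain ⟨u, hu, ⟨e, -⟩ | ⟨-, h8⟩⟩ := inv_cases ht h2
  · have hm : u⁻¹ * x * u ∈ centT := mem_centT.2 ⟨mul_mem (mul_mem (inv_mem hu) hx) hu, by
      rw [e] at hc
      calc _ = u⁻¹ * (x * (u * pL elT.L * u⁻¹)) * u := by group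
        _ = _ := by rw [← hc]; group⟩
    have hd := Subgroup.orderOf_dvd_natCard centT hm
    rw [card_centT, show orderOf (u⁻¹ * x * u) = orderOf x from MulEquiv.orderOf_eq (MulAut.conj u⁻¹) x ▸ by
      simp [MulAut.conj_apply], h11] at hd
    norm_num at hd
  · have h := fixed_mod (τ := t) (orderOf_dvd_iff_pow_eq_one.1 (dvd_of_eq h11)) hc
    have hb : (Finset.univ.filter fun q => t q = q ∧ x q = q).card ≤ 2 :=
      eleven_fixed hx h11 ▸ Finset.card_le_card fun q hq => by
        simp only [Finset.mem_filter, Finset.mem_univ, true_and] at hq ⊢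
        exact hq.2
    omega

theorem m24_eleven {x : ↥M24} (hx : orderOf x = 11) : Nat.card (centralizer ({x} : Set ↥M24)) = 11 := by
  classical
  haveI : Fact (Nat.Prime 11) := ⟨by norm_num⟩
  haveI : Fact (Nat.Prime 2) := ⟨Nat.prime_two⟩
  obtain ⟨y, hy⟩ := exists_prime_orderOf_dvd_card' (G := ↥Cfsg.Spor.M22) 11 (by rw [card_sporM22]; norm_num)
  rw [CfsgLib.MTwentyThreeUnique.card_centralizer_eq
    (factorization_m24 (p := 11) (m := 22256640) (by norm_num) (by norm_num) (by norm_num))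
    (x := (⟨y, m22_le y.2⟩ : ↥M24)) (by rw [Subgroup.orderOf_mk, Subgroup.orderOf_coe, hy]) hx]
  set σ : Equiv.Perm GolayPt := (y : Equiv.Perm GolayPt)
  set C := centralizer ({(⟨σ, m22_le y.2⟩ : ↥M24)} : Set ↥M24) with hC
  have hσ : orderOf σ = 11 := (Subgroup.orderOf_coe y).trans hy
  have hcomm : ∀ g : C, ((g : ↥M24) : Equiv.Perm GolayPt) * σ = σ * ((g : ↥M24) : Equiv.Perm GolayPt) := fun g =>
    congrArg Subtype.val (mem_centralizer_singleton_iff.1 g.2)
  have h11 : 11 ∣ Nat.card C := by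
    have h := Subgroup.orderOf_dvd_natCard C (x := (⟨σ, m22_le y.2⟩ : ↥M24)) (mem_centralizer_singleton_iff.2 rfl)
    rwa [Subgroup.orderOf_mk, hσ] at h
  have h2 : ¬ 2 ∣ Nat.card C := fun h => by
    obtain ⟨t, ht⟩ := exists_prime_orderOf_dvd_card' (G := C) 2 h
    exact no_involution_eleven (m22_le y.2) (t : ↥M24).2 hσ
      (by rw [Subgroup.orderOf_coe, Subgroup.orderOf_coe, ht]) (hcomm t)
  obtain ⟨-, yn, -⟩ := mem_M22_iff.1 y.2
  have horb : Nat.card (MulAction.orbit C (none : GolayPt)) ≤ 2 := by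
    have hsub : MulAction.orbit C (none : GolayPt) ⊆
        ((Finset.univ.filter fun q => σ q = q : Finset GolayPt) : Set GolayPt) := by
      rintro _ ⟨g, rfl⟩
      show ((g : ↥M24) : Equiv.Perm GolayPt) none ∈ _
      rw [Finset.mem_coe, Finset.mem_filter]
      exact ⟨Finset.mem_univ _, by rw [← Equiv.Perm.mul_apply, ← hcomm, Equiv.Perm.mul_apply, yn]⟩
    refine le_trans (Nat.card_mono (Finset.finite_toSet _) hsub) ?_
    rw [Nat.card_coe_set_eq, Set.ncard_coe_finset, eleven_fixed (m22_le y.2) hσ]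
  have hstab : Nat.card (MulAction.stabilizer C (none : GolayPt)) ≤ 11 := by
    have hy' : orderOf (⟨σ, CfsgLib.MTwentyThreeUnique.m22_le_m23 y.2⟩ : ↥Cfsg.Spor.M23) = 11 :=
      (Subgroup.orderOf_mk _ _).trans hσ
    rw [← CfsgLib.MTwentyThreeUnique.m23_eleven hy']
    refine Nat.card_le_card_of_injective
      (fun g => ⟨⟨((g.1 : ↥M24) : Equiv.Perm GolayPt), mem_stab_none (MulAction.mem_stabilizer_iff.1 g.2)⟩,
        mem_centralizer_singleton_iff.2 (Subtype.ext (hcomm g.1))⟩) fun a b h => ?_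
    exact Subtype.ext (Subtype.ext (Subtype.ext (congrArg (fun u :
      centralizer ({(⟨σ, CfsgLib.MTwentyThreeUnique.m22_le_m23 y.2⟩ : ↥Cfsg.Spor.M23)} : Set ↥Cfsg.Spor.M23) =>
        ((u : ↥Cfsg.Spor.M23) : Equiv.Perm GolayPt)) h)))
  have hle : Nat.card C ≤ 2 * 11 := by
    rw [← Nat.card_congr (MulAction.orbitProdStabilizerEquivGroup C (none : GolayPt)), Nat.card_prod]
    exact Nat.mul_le_mul horb hstab
  obtain ⟨k, hk⟩ := h11
  have hk2 : k ≤ 2 := by omega
  have hk0 : 0 < k := Nat.pos_of_ne_zero fun h => Nat.card_pos.ne' (by rw [hk, h, mul_zero])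
  interval_cases k
  · rw [hk]
  · exact absurd ⟨11, by rw [hk]⟩ h2

theorem m24_twentyThree {x : ↥M24} (hx : orderOf x = 23) : Nat.card (centralizer ({x} : Set ↥M24)) = 23 := by
  classical
  haveI : Fact (Nat.Prime 23) := ⟨by norm_num⟩
  refine le_antisymm ?_ (by simpa [hx] using CfsgLib.MTwentyThreeUnique.le_card_centralizer (g := x) 1)
  have h := CfsgLib.SmallGroups.card_centralizer_of_orderOf_eq (p := 23) (α := GolayPt)
    (by rw [CfsgLib.MathieuNSE.card_points]; norm_num) (σ := (x : Equiv.Perm GolayPt))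
    (by rw [Subgroup.orderOf_coe, hx])
  rw [CfsgLib.MathieuNSE.card_points] at h
  refine le_trans (Nat.card_le_card_of_injective
    (fun g : centralizer ({x} : Set ↥M24) =>
      (⟨((g : ↥M24) : Equiv.Perm GolayPt), mem_centralizer_singleton_iff.2
        (congrArg Subtype.val (mem_centralizer_singleton_iff.1 g.2))⟩ :
        centralizer ({(x : Equiv.Perm GolayPt)} : Set (Equiv.Perm GolayPt))))
    fun a b e => Subtype.ext (Subtype.ext (congrArg
      (fun u : centralizer ({(x : Equiv.Perm GolayPt)} : Set (Equiv.Perm GolayPt)) => (u : Equiv.Perm GolayPt)) e)))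
    (le_of_eq ?_)
  rw [h]
  rfl

/-- The normalizer of a Sylow subgroup of M24 of prime order. -/
theorem m24_normalizer {p m c N : ℕ} (hp : p.Prime) (hm : 244823040 = p ^ 1 * m) (hpm : ¬ p ∣ m)
    {x : ↥M24} (hx : orderOf x = p) (hc : Nat.card (centralizer ({x} : Set ↥M24)) = c)
    (key : ∀ d ∈ Nat.divisors ((p - 1) * c), c ∣ d → d ∣ 244823040 → (244823040 / d) % p = 1 → d = N) :
    Nat.card (normalizer ((zpowers x : Subgroup ↥M24) : Set ↥M24)) = N := by
  haveI := Fact.mk hp
  refine card_normalizer_of_centralizer (factorization_m24 hp hm hpm) hx hc ?_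
  rw [card_M24]
  intro d hd hcd n _ hnd hn
  refine key d hd hcd (Dvd.intro_left n hnd) ?_
  rw [← hnd, Nat.mul_div_cancel _ (Nat.pos_of_mem_divisors hd)]
  exact hn

theorem m24_five {x : ↥M24} (hx : orderOf x = 5) : Nat.card (centralizer ({x} : Set ↥M24)) = 60 := by
  haveI : Fact (Nat.Prime 5) := ⟨by norm_num⟩
  rw [CfsgLib.MTwentyThreeUnique.card_centralizer_eq
    (factorization_m24 (p := 5) (m := 48964608) (by norm_num) (by norm_num) (by norm_num)) orderOf_xM5 hx,
    five_count.1]

theorem m24_simple : IsSimpleGroup ↥M24 :=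
  M24_simple

/-- The concrete group satisfies the local hypotheses. -/
theorem local_M24 : Local ↥M24 where
  card := card_M24
  simple := m24_simple
  twentyThree _ hx := ⟨m24_twentyThree hx, m24_normalizer (m := 10644480) (by norm_num) (by norm_num) (by norm_num) hx
    (m24_twentyThree hx) (by decide +kernel)⟩
  eleven _ hx := ⟨m24_eleven hx, m24_normalizer (m := 22256640) (by norm_num) (by norm_num) (by norm_num) hx
    (m24_eleven hx) (by decide +kernel)⟩
  seven _ hx := card_zpowers_centralizer hx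
  five _ hx := ⟨m24_five hx, m24_normalizer (m := 48964608) (by norm_num) (by norm_num) (by norm_num) hx
    (m24_five hx) (by decide +kernel)⟩

end CfsgLib.MTwentyFourUnique
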