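import Cfsg.Agent.Lib.MTwentyFourUnique.SearchTwo
import Cfsg.Agent.Lib.MTwentyFourUnique.Roots
import Mathlib

/-!
Integral vectors with the norms of the row sets at five, and the resulting lists of degrees.
-/

set_option autoImplicit false

noncomputable section

namespace CfsgLib.MTwentyFourUnique

open Search
attribute [local instance] Classical.propDecidable

variable {ι : Type*}

/-- The degrees of a set. -/
def dlist (D : ι → ℕ) (X : Finset ι) : List ℕ := X.toList.map D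

theorem sum_dlist {A : Type*} [AddCommMonoid A] (D : ι → ℕ) (f : ℕ → A) (X : Finset ι) :
    ((dlist D X).map f).sum = ∑ i ∈ X, f (D i) := by
  rw [dlist, List.map_map, Finset.sum_map_toList]
  rfl

theorem mem_dlist {D : ι → ℕ} {X : Finset ι} {d : ℕ} : d ∈ dlist D X ↔ ∃ i ∈ X, D i = d := by
  simp [dlist]

theorem dlist_length (D : ι → ℕ) (X : Finset ι) : (dlist D X).length = X.card := by
  simp [dlist]

theorem dlist_insert [DecidableEq ι] (D : ι → ℕ) {a : ι} {X : Finset ι} (h : a ∉ X) :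
    (dlist D (insert a X)).Perm (D a :: dlist D X) :=
  ((Finset.toList_insert h).map D).trans (by simp [dlist])

theorem dlist_union [DecidableEq ι] (D : ι → ℕ) {X Y : Finset ι} (h : Disjoint X Y) :
    (dlist D (X ∪ Y)).Perm (dlist D X ++ dlist D Y) := by
  refine Multiset.coe_eq_coe.1 ?_
  simp only [dlist, ← Multiset.coe_add, ← Multiset.map_coe, Finset.coe_toList]
  rw [← Finset.disjUnion_eq_union X Y h, Finset.disjUnion_val, Multiset.map_add]

theorem dlist_pair [DecidableEq ι] (D : ι → ℕ) {a b : ι} (h : a ≠ b) :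
    (dlist D {a, b}).Perm [D a, D b] :=
  (dlist_insert D (by simpa using h)).trans (by simp [dlist])

theorem maskOf_mem {L l : List ℕ} {d : ℕ} (h : d ∈ l) : bit L d ||| maskOf L l = maskOf L l := by
  induction l with
  | nil => simp at h
  | cons a l ih =>
    have e : maskOf L (a :: l) = bit L a ||| maskOf L l := rfl
    rw [e]
    rcases List.mem_cons.1 h with rfl | h
    · rw [← Nat.or_assoc, Nat.or_self]
    · rw [← Nat.or_assoc, Nat.or_comm (bit L d), Nat.or_assoc, ih h]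

theorem maskOf_le {L l : List ℕ} {m : ℕ} (h : ∀ d ∈ l, bit L d ||| m = m) : maskOf L l ||| m = m := by
  induction l with
  | nil => simp [maskOf]
  | cons a l ih =>
    have e : maskOf L (a :: l) = bit L a ||| maskOf L l := rfl
    rw [e, Nat.or_assoc, ih fun d hd => h d (List.mem_cons_of_mem a hd)]
    exact h a List.mem_cons_self

/-- A vector of norm five. -/
theorem shape_five [Fintype ι] [DecidableEq ι] (U : ι → ℤ) (h : ∑ i, U i * U i = 5) :
    (∃ X : Finset ι, X.card = 5 ∧ (∀ i, i ∈ X ↔ U i ≠ 0) ∧ ∀ i ∈ X, U i = 1 ∨ U i = -1) ∨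
      ∃ p q, p ≠ q ∧ (U p = 2 ∨ U p = -2) ∧ (U q = 1 ∨ U q = -1) ∧ ∀ i, U i ≠ 0 ↔ i = p ∨ i = q := by
  have hb : ∀ i, U i * U i ≤ 5 := fun i =>
    h ▸ Finset.single_le_sum (fun j _ => mul_self_nonneg (U j)) (Finset.mem_univ i)
  by_cases hall : ∀ i, U i = 0 ∨ U i = 1 ∨ U i = -1
  · refine Or.inl ⟨Finset.univ.filter fun i => U i ≠ 0, ?_, fun i => by simp,
      fun i hi => (hall i).resolve_left (Finset.mem_filter.1 hi).2⟩
    have e : ∑ i, U i * U i = ∑ i ∈ Finset.univ.filter (fun i => U i ≠ 0), (1 : ℤ) := by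
      rw [Finset.sum_filter]
      exact Finset.sum_congr rfl fun i _ => by rcases hall i with h | h | h <;> simp [h]
    rw [h] at e
    simp at e ⊢
    omega
  · push_neg at hall
    obtain ⟨p, hp0, hp1, hp2⟩ := hall
    have hp : U p = 2 ∨ U p = -2 := by
      have : -2 ≤ U p ∧ U p ≤ 2 := by constructor <;> nlinarith [hb p]
      omega
    have hr : ∑ i ∈ Finset.univ.erase p, U i * U i = 1 := by
      have e := Finset.add_sum_erase _ (fun i => U i * U i) (Finset.mem_univ p)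
      rw [h] at e
      rcases hp with hp | hp <;> rw [hp] at e <;> linarith
    obtain ⟨q, hq, hq0⟩ := Finset.exists_ne_zero_of_sum_ne_zero (by rw [hr]; norm_num :
      ∑ i ∈ Finset.univ.erase p, U i * U i ≠ 0)
    have hq' : U q ≠ 0 := fun e => hq0 (by simp [e])
    have hle := hr ▸ Finset.single_le_sum (fun j _ => mul_self_nonneg (U j)) hq
    have hq1 : U q = 1 ∨ U q = -1 := by
      have : -1 ≤ U q ∧ U q ≤ 1 := by constructor <;> nlinarith
      omega
    refine Or.inr ⟨p, q, (Finset.ne_of_mem_erase hq).symm, hp, hq1, fun i => ⟨fun hi => ?_, ?_⟩⟩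
    · by_contra hc
      push_neg at hc
      have hmem : i ∈ (Finset.univ.erase p).erase q := by simp [hc.1, hc.2]
      have h2 := Finset.add_sum_erase _ (fun i => U i * U i) hq
      have h3 := Finset.single_le_sum (fun j _ => mul_self_nonneg (U j)) hmem
      have h4 : 1 ≤ U i * U i := by nlinarith [mul_self_pos.2 hi]
      rw [hr] at h2
      rcases hq1 with e | e <;> rw [e] at h2 <;> linarith
    · rintro (rfl | rfl) <;> omega

/-- The shape of a pair of integral vectors swapped by an involution, with the norms at five. -/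
theorem shape_pair [Fintype ι] [DecidableEq ι] (σ : ι → ι) (hσ : ∀ i, σ (σ i) = i)
    (U V : ι → ℤ) (hUV : ∀ i, V i = U (σ i)) (hS : ∑ i, U i * U i = 3) (hT : ∑ i, U i * V i = 2) :
    ∃ (X : Finset ι) (θ : ι) (e : ℤ), X.card = 2 ∧ θ ∉ X ∧ σ θ ∉ X ∧ σ θ ≠ θ ∧
      (∀ i ∈ X, (U i = 1 ∨ U i = -1) ∧ V i = U i) ∧ (e = 1 ∨ e = -1) ∧ U θ = e ∧ V θ = 0 ∧
      U (σ θ) = 0 ∧ V (σ θ) = e ∧ ∀ i, i ∉ X → i ≠ θ → i ≠ σ θ → U i = 0 ∧ V i = 0 := by
  have hS' : ∑ i, V i * V i = 3 := by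
    rw [← hS]
    exact Fintype.sum_bijective σ (Function.Involutive.bijective hσ) _ _ fun i => by rw [hUV]
  have hD : ∑ i, (U i - V i) * (U i - V i) = 2 := by
    have e : ∀ i, (U i - V i) * (U i - V i) = U i * U i + V i * V i - 2 * (U i * V i) := fun i => by ring
    rw [Finset.sum_congr rfl fun i _ => e i, Finset.sum_sub_distrib, Finset.sum_add_distrib,
      ← Finset.mul_sum, hS, hS', hT]
    norm_num
  obtain ⟨p, hp⟩ : ∃ p, U p ≠ V p := by
    by_contra h
    push_neg at h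
    rw [Finset.sum_eq_zero fun i _ => by rw [h i]; ring] at hD
    norm_num at hD
  have hσV : ∀ i, V (σ i) = U i := fun i => by rw [hUV, hσ]
  have hne : σ p ≠ p := fun e => hp (by rw [hUV p, e])
  have hDσ : (U (σ p) - V (σ p)) * (U (σ p) - V (σ p)) = (U p - V p) * (U p - V p) := by
    rw [← hUV p, hσV p]; ring
  have hsplit : ∀ F : ι → ℤ, ∑ i, F i = F p + F (σ p) + ∑ i ∈ (Finset.univ.erase p).erase (σ p), F i := by
    intro F
    rw [← Finset.add_sum_erase _ F (Finset.mem_univ p),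
      ← Finset.add_sum_erase (Finset.univ.erase p) F (Finset.mem_erase.2 ⟨hne, Finset.mem_univ _⟩), add_assoc]
  set R := (Finset.univ.erase p).erase (σ p) with hR
  have h1 : 1 ≤ (U p - V p) * (U p - V p) := by nlinarith [mul_self_pos.2 (sub_ne_zero.2 hp)]
  rw [hsplit, hDσ] at hD
  have hR0 : ∀ i ∈ R, U i = V i := fun i hi => by
    have h0 : ∑ j ∈ R, (U j - V j) * (U j - V j) = 0 := by
      have := Finset.sum_nonneg (s := R) fun j _ => mul_self_nonneg (U j - V j)
      omega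
    have := (Finset.sum_eq_zero_iff_of_nonneg fun j _ => mul_self_nonneg (U j - V j)).1 h0 i hi
    exact sub_eq_zero.1 (mul_self_eq_zero.1 this)
  rw [hsplit] at hS hT
  rw [Finset.sum_congr rfl (g := fun i => U i * U i) fun i hi => by rw [hR0 i hi]] at hT
  rw [← hUV p, hσV p] at hT
  rw [← hUV p] at hS
  have hnn := Finset.sum_nonneg (s := R) fun j (_ : j ∈ R) => mul_self_nonneg (U j)
  have hd1 : U p - V p = 1 ∨ U p - V p = -1 := by
    have h2 : (U p - V p) * (U p - V p) = 1 := by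
      have := Finset.sum_nonneg (s := R) fun j _ => mul_self_nonneg (U j - V j)
      omega
    exact mul_self_eq_one_iff.1 h2
  have hb : -1 ≤ U p ∧ U p ≤ 1 := by constructor <;> nlinarith [mul_self_nonneg (V p)]
  have hcases : (U p = 0 ∧ (V p = 1 ∨ V p = -1)) ∨ (V p = 0 ∧ (U p = 1 ∨ U p = -1)) := by
    obtain ⟨b1, b2⟩ := hb
    rcases hd1 with h | h
    · have hv : V p = U p - 1 := by omega
      rw [hv] at hS hT ⊢
      interval_cases hu : U p <;> omega
    · have hv : V p = U p + 1 := by omega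
      rw [hv] at hS hT ⊢
      interval_cases hu : U p <;> omega
  have hUVp : U p * V p = 0 := by rcases hcases with h | h <;> simp [h.1]
  have hr : ∑ i ∈ R, U i * U i = 2 := by
    have := hUVp
    rw [mul_comm (V p) (U p), this] at hT
    omega
  have hsmall : ∀ i ∈ R, U i = 0 ∨ U i = 1 ∨ U i = -1 := fun i hi => by
    have := Finset.single_le_sum (fun j (_ : j ∈ R) => mul_self_nonneg (U j)) hi
    rw [hr] at this
    have : -1 ≤ U i ∧ U i ≤ 1 := by constructor <;> nlinarith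
    omega
  set X := R.filter fun i => U i ≠ 0 with hX
  have hXc : X.card = 2 := by
    have e : ∑ i ∈ R, U i * U i = ∑ i ∈ X, (1 : ℤ) := by
      rw [hX, Finset.sum_filter]
      exact Finset.sum_congr rfl fun i hi => by rcases hsmall i hi with h | h | h <;> simp [h]
    rw [hr] at e
    simp at e
    omega
  have hXR : ∀ i ∈ X, i ≠ p ∧ i ≠ σ p := fun i hi => by
    have := (Finset.mem_filter.1 hi).1
    simp only [hR, Finset.mem_erase] at this
    exact ⟨this.2.1, this.1⟩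
  have hXv : ∀ i ∈ X, (U i = 1 ∨ U i = -1) ∧ V i = U i := fun i hi => by
    obtain ⟨h, h'⟩ := Finset.mem_filter.1 hi
    exact ⟨(hsmall i h).resolve_left h', (hR0 i h).symm⟩
  have hout : ∀ i, i ∉ X → i ≠ p → i ≠ σ p → U i = 0 ∧ V i = 0 := fun i h h' h'' => by
    have hi : i ∈ R := by simp [hR, h', h'']
    have : U i = 0 := by
      by_contra hc
      exact h (Finset.mem_filter.2 ⟨hi, hc⟩)
    exact ⟨this, (hR0 i hi).symm.trans this⟩
  rcases hcases with ⟨h0, h⟩ | ⟨h0, h⟩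
  · refine ⟨X, σ p, V p, hXc, fun h => (hXR _ h).2 rfl, by rw [hσ]; exact fun h => (hXR _ h).1 rfl,
      by rw [hσ]; exact hne.symm, hXv, h, (hUV p).symm, by rw [hσV, h0], by rw [hσ]; exact h0,
      by rw [hσ], fun i a b c => ?_⟩
    rw [hσ] at c
    exact hout i a c b
  · refine ⟨X, p, U p, hXc, fun h => (hXR _ h).1 rfl, fun h => (hXR _ h).2 rfl, hne, hXv, h, rfl, h0,
      by rw [← hUV]; exact h0, hσV p, hout⟩

theorem mem_pool {p r d : ℕ} {c : ℤ} (hc : d ∈ cand) (h : (p : ℤ) ∣ (d : ℤ) - c)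
    (hr : c = r ∨ c = -(r : ℤ)) : d ∈ pool p r := by
  simp only [pool, List.mem_filter, decide_eq_true_eq]
  refine ⟨hc, ?_⟩
  rcases hr with rfl | rfl
  · left
    have h2 : r ≡ d [MOD p] := Nat.modEq_iff_dvd.2 h
    exact h2.symm
  · right
    rw [sub_neg_eq_add] at h
    exact Nat.mod_eq_zero_of_dvd (by exact_mod_cast h)

theorem sg_eq {r d : ℕ} {u : ℤ} (hr : 0 < r ∧ r < 5) (hu : u = 1 ∨ u = -1)
    (h : (5 : ℤ) ∣ (d : ℤ) - u * r) : sg 5 r d = u := by
  rw [sg]
  rcases hu with rfl | rfl <;> split_ifs <;> omega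

/-- The lists of a vector of norm five. -/
theorem five_lists [Fintype ι] [DecidableEq ι] (U : ι → ℤ) (D : ι → ℕ) {r : ℕ} (hr : r = 1 ∨ r = 3)
    (hS : ∑ i, U i * U i = 5) (hrel : ∑ i, (D i : ℤ) * U i = 0)
    (hdeg : ∀ i, U i ≠ 0 → (5 : ℤ) ∣ (D i : ℤ) - U i * r) (hpos : ∀ i, 0 < D i) :
    ∃ X : Finset ι, (∀ i, i ∈ X ↔ U i ≠ 0) ∧
      ((X.card = 5 ∧ (∀ i ∈ X, U i = 1 ∨ U i = -1) ∧ tot 5 r (dlist D X) = 0) ∨
        ∃ p q, p ≠ q ∧ X = {p, q} ∧ (U p = 2 ∨ U p = -2) ∧ (U q = 1 ∨ U q = -1) ∧ D q = 2 * D p) := by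
  rcases shape_five U hS with ⟨X, hc, hm, hv⟩ | ⟨p, q, hpq, hp, hq, hm⟩
  · refine ⟨X, hm, Or.inl ⟨hc, hv, ?_⟩⟩
    rw [tot, sum_dlist D (fun d => sg 5 r d * (d : ℤ)), ← hrel,
      ← Finset.sum_subset (Finset.subset_univ X) fun i _ hi => by
        rw [show U i = 0 from not_not.1 fun h => hi ((hm i).2 h), mul_zero]]
    refine Finset.sum_congr rfl fun i hi => ?_
    rw [sg_eq (by rcases hr with rfl | rfl <;> omega) (hv i hi) (hdeg i ((hm i).1 hi)), mul_comm]
  · refine ⟨{p, q}, fun i => by simp [hm i], Or.inr ⟨p, q, hpq, rfl, hp, hq, ?_⟩⟩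
    have e : ∑ i, (D i : ℤ) * U i = ∑ i ∈ ({p, q} : Finset ι), (D i : ℤ) * U i :=
      (Finset.sum_subset (Finset.subset_univ _) fun i _ hi => by
        rw [show U i = 0 from not_not.1 fun h => hi (by simpa using (hm i).1 h), mul_zero]).symm
    rw [hrel, Finset.sum_pair hpq] at e
    have := hpos p
    have := hpos q
    rcases hp with hp | hp <;> rcases hq with hq | hq <;> rw [hp, hq] at e <;> omega

/-- The lists of the mixed shape. -/
theorem mixed_list [DecidableEq ι] (D : ι → ℕ) (U : ι → ℤ) {X : Finset ι} {θ θ' : ι} {e : ℤ}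
    (hX : X.card = 2) (hθ : θ ∉ X) (hθ' : θ' ∉ X) (hne : θ' ≠ θ) (hU : ∀ i ∈ X, U i = 1 ∨ U i = -1)
    (he : e = 1 ∨ e = -1) (hdX : ∀ i ∈ X, (5 : ℤ) ∣ (D i : ℤ) - 2 * U i) (hdθ : (5 : ℤ) ∣ (D θ : ℤ) - e)
    (hD : D θ' = D θ) (hrel : ∑ i ∈ X, U i * (D i : ℤ) + e * (D θ : ℤ) = 0)
    (hc : ∀ i ∈ insert θ X, D i ∈ cand) (hpos : 0 < D θ) :
    inW (dlist D (insert θ (insert θ' X))) = true := by
  have hp : (dlist D (insert θ (insert θ' X))).Perm (dlist D X ++ [D θ, D θ]) := by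
    refine (dlist_insert D (by simp [hθ, hne.symm])).trans ?_
    refine ((dlist_insert D hθ').cons (D θ)).trans ?_
    rw [hD]
    exact (List.perm_append_comm (l₁ := [D θ, D θ]) (l₂ := dlist D X))
  rw [inW_perm hp]
  refine chkW_spec _ (by rw [dlist_length, hX]) (fun d hd => ?_)
    (mem_pool (c := e) (hc θ (Finset.mem_insert_self _ _)) hdθ (by simpa using he))
    hpos rfl ?_
  · obtain ⟨i, hi, rfl⟩ := mem_dlist.1 hd
    exact mem_pool (c := 2 * U i) (hc i (Finset.mem_insert_of_mem hi)) (hdX i hi)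
      (by rcases hU i hi with h | h <;> simp [h])
  · have hv : (if D θ % 5 = 1 then (1 : ℤ) else -1) = e := by
      rcases he with rfl | rfl <;> split_ifs <;> omega
    rw [hv, tot, sum_dlist D (fun d => sg 5 2 d * (d : ℤ)), ← hrel]
    congr 1
    refine Finset.sum_congr rfl fun i hi => ?_
    rw [sg_eq (r := 2) ⟨by norm_num, by norm_num⟩ (hU i hi) (by rw [mul_comm]; exact hdX i hi)]

/-- The degrees of the row set of the trivial character of `A₄`. -/
theorem list_P [Fintype ι] [DecidableEq ι] (U : ι → ℤ) (D : ι → ℕ) (o : ι) (ho : U o = 1) (hD : D o = 1)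
    (hS : ∑ i, U i * U i = 5) (hrel : ∑ i, (D i : ℤ) * U i = 0)
    (hdeg : ∀ i, U i ≠ 0 → (5 : ℤ) ∣ (D i : ℤ) - U i) (hpos : ∀ i, 0 < D i)
    (hc : ∀ i, i ≠ o → D i ∈ cand) :
    ∃ X : Finset ι, (∀ i, i ∈ X ↔ U i ≠ 0) ∧ inP (dlist D X) = true := by
  obtain ⟨X, hm, h⟩ := five_lists U D (r := 1) (Or.inl rfl) hS hrel (by simpa using hdeg) hpos
  refine ⟨X, hm, ?_⟩
  have hoX : o ∈ X := (hm o).2 (by omega)
  rcases h with ⟨hcard, hv, ht⟩ | ⟨p, q, hpq, rfl, hp, hq, hDq⟩
  · obtain ⟨f, hf⟩ : (X.erase o).Nonempty := by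
      rw [← Finset.card_pos, Finset.card_erase_of_mem hoX, hcard]; norm_num
    have hperm : (dlist D X).Perm (D f :: (dlist D ((X.erase o).erase f) ++ [1])) := by
      conv_lhs => rw [← Finset.insert_erase hoX, ← Finset.insert_erase hf]
      refine (dlist_insert D (by simp [(Finset.ne_of_mem_erase hf).symm])).trans ?_
      refine ((dlist_insert D (by simp)).cons _).trans ?_
      rw [hD]
      exact (List.Perm.swap _ _ _).trans ((List.perm_append_singleton 1 _).symm.cons (D f))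
    rw [inP_perm hperm]
    have hL : ∀ i ∈ X.erase o, D i ∈ poolFiveA := fun i hi => by
      rw [← pools.1]
      obtain ⟨hio, hiX⟩ := Finset.mem_erase.1 hi
      exact mem_pool (hc i hio) (hdeg i ((hm i).1 hiX)) (by simpa using hv i hiX)
    refine chk5_spec (by norm_num : (1 : ℕ) < 5) pool_dvd.1 (fun _ _ h => inP_perm h) chk_P _ ?_ ?_ (hL f hf)
      (hpos f) (by rw [← tot_perm 5 1 hperm]; exact ht)
    · rw [dlist_length, Finset.card_erase_of_mem hf, Finset.card_erase_of_mem hoX, hcard]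
    · intro d hd
      obtain ⟨i, hi, rfl⟩ := mem_dlist.1 hd
      exact hL i (Finset.mem_of_mem_erase hi)
  · exfalso
    simp only [Finset.mem_insert, Finset.mem_singleton] at hoX
    rcases hoX with rfl | rfl
    · omega
    · omega

/-- The degrees of the row set of the character of degree three of `A₄`. -/
theorem list_F [Fintype ι] [DecidableEq ι] (U : ι → ℤ) (D : ι → ℕ)
    (hS : ∑ i, U i * U i = 5) (hrel : ∑ i, (D i : ℤ) * U i = 0)
    (hdeg : ∀ i, U i ≠ 0 → (5 : ℤ) ∣ (D i : ℤ) - 3 * U i) (hpos : ∀ i, 0 < D i)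
    (hc : ∀ i, U i ≠ 0 → D i ∈ cand) :
    ∃ X : Finset ι, (∀ i, i ∈ X ↔ U i ≠ 0) ∧
      ((inF (dlist D X) = true ∧ ∀ d ∈ dlist D X, d ∈ poolFiveB) ∨
        (maskOf ndA (dlist D X), keyOf ndA (dlist D X), keyOf ndB (dlist D X), sq7 (dlist D X)) ∈ tabTwo) := by
  have hdeg' : ∀ i, U i ≠ 0 → (5 : ℤ) ∣ (D i : ℤ) - U i * (3 : ℕ) := fun i hi => by
    rw [mul_comm]; exact hdeg i hi
  obtain ⟨X, hm, h⟩ := five_lists U D (r := 3) (Or.inr rfl) hS hrel hdeg' hpos
  refine ⟨X, hm, ?_⟩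
  rcases h with ⟨hcard, hv, ht⟩ | ⟨p, q, hpq, rfl, hp, hq, hDq⟩
  · left
    obtain ⟨f, hf⟩ : X.Nonempty := by rw [← Finset.card_pos, hcard]; norm_num
    have hperm : (dlist D X).Perm (D f :: (dlist D (X.erase f) ++ [])) := by
      conv_lhs => rw [← Finset.insert_erase hf]
      rw [List.append_nil]
      exact dlist_insert D (by simp)
    have hL : ∀ i ∈ X, D i ∈ poolFiveB := fun i hi => by
      rw [← pools.2]
      exact mem_pool (c := 3 * U i) (hc i ((hm i).1 hi)) (hdeg i ((hm i).1 hi))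
        (by rcases hv i hi with h | h <;> simp [h])
    refine ⟨?_, fun d hd => by obtain ⟨i, hi, rfl⟩ := mem_dlist.1 hd; exact hL i hi⟩
    rw [inF_perm hperm]
    refine chk5_spec (by norm_num : (3 : ℕ) < 5) pool_dvd.2 (fun _ _ h => inF_perm h) chk_F _ ?_ ?_ (hL f hf)
      (hpos f) (by rw [← tot_perm 5 3 hperm]; exact ht)
    · rw [dlist_length, Finset.card_erase_of_mem hf, hcard]
    · intro d hd
      obtain ⟨i, hi, rfl⟩ := mem_dlist.1 hd
      exact hL i (Finset.mem_of_mem_erase hi)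
  · right
    have hperm := dlist_pair D hpq
    rw [maskOf_perm ndA hperm, keyOf_perm ndA hperm, keyOf_perm ndB hperm, sq7_perm hperm, hDq]
    refine pool_two _ (mem_pool (c := 3 * U p) (hc p (by omega)) (hdeg p (by omega))
      (by rcases hp with h | h <;> simp [h])) ?_
    rw [← hDq]
    exact mem_pool (c := 3 * U q) (hc q (by omega)) (hdeg q (by omega))
      (by rcases hq with h | h <;> simp [h])

/-- The degrees of two conjugate row sets of non-trivial linear characters of `A₄`. -/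
theorem list_W [Fintype ι] [DecidableEq ι] (U : ι → ℤ) (D : ι → ℕ) (σ : ι → ι) (hσ : ∀ i, σ (σ i) = i)
    (hDσ : ∀ i, D (σ i) = D i) (hdis : ∀ i, U i ≠ 0 → U (σ i) = 0)
    (hS : ∑ i, U i * U i = 5) (hrel : ∑ i, (D i : ℤ) * U i = 0)
    (hdeg : ∀ i, U i ≠ 0 → (5 : ℤ) ∣ (D i : ℤ) - U i) (hpos : ∀ i, 0 < D i)
    (hc : ∀ i, U i ≠ 0 → D i ∈ cand) :
    ∃ X : Finset ι, (∀ i, i ∈ X ↔ U i ≠ 0 ∨ U (σ i) ≠ 0) ∧ inW (dlist D X) = true := by
  obtain ⟨X, hm, h⟩ := five_lists U D (r := 1) (Or.inl rfl) hS hrel (by simpa using hdeg) hpos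
  have hinj : Function.Injective σ := (Function.Involutive.bijective hσ).1
  set Y := X.image σ with hY
  have hmY : ∀ i, i ∈ Y ↔ U (σ i) ≠ 0 := fun i => by
    simp only [hY, Finset.mem_image]
    exact ⟨fun ⟨j, hj, e⟩ => by rw [← e, hσ]; exact (hm j).1 hj, fun h => ⟨σ i, (hm _).2 h, hσ i⟩⟩
  have hXY : Disjoint X Y := Finset.disjoint_left.2 fun i hi hi' => (hmY i).1 hi' (hdis i ((hm i).1 hi))
  refine ⟨X ∪ Y, fun i => by rw [Finset.mem_union, hm, hmY], ?_⟩
  have hYl : (dlist D Y).Perm (dlist D X) := by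
    refine Multiset.coe_eq_coe.1 ?_
    simp only [dlist, ← Multiset.map_coe, Finset.coe_toList, hY, Finset.image_val_of_injOn hinj.injOn,
      Multiset.map_map]
    exact Multiset.map_congr rfl fun i _ => hDσ i
  rw [inW_perm ((dlist_union D hXY).trans (hYl.append_left _))]
  rcases h with ⟨hcard, hv, ht⟩ | ⟨p, q, hpq, rfl, hp, hq, hDq⟩
  · obtain ⟨f, hf⟩ : X.Nonempty := by rw [← Finset.card_pos, hcard]; norm_num
    have hperm : (dlist D X).Perm (D f :: (dlist D (X.erase f) ++ [])) := by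
      conv_lhs => rw [← Finset.insert_erase hf]
      rw [List.append_nil]
      exact dlist_insert D (by simp)
    have hL : ∀ i ∈ X, D i ∈ poolFiveA := fun i hi => by
      rw [← pools.1]
      exact mem_pool (hc i ((hm i).1 hi)) (hdeg i ((hm i).1 hi)) (by simpa using hv i hi)
    rw [inW_perm (hperm.append hperm)]
    refine chk5_spec (by norm_num : (1 : ℕ) < 5) pool_dvd.1 (P := fun l => inW (l ++ l))
      (fun _ _ h => inW_perm (h.append h)) chk_W_two _ ?_ ?_ (hL f hf)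
      (hpos f) (by rw [← tot_perm 5 1 hperm]; exact ht)
    · rw [dlist_length, Finset.card_erase_of_mem hf, hcard]
    · intro d hd
      obtain ⟨i, hi, rfl⟩ := mem_dlist.1 hd
      exact hL i (Finset.mem_of_mem_erase hi)
  · have hperm := dlist_pair D hpq
    rw [inW_perm (hperm.append hperm), hDq]
    refine chk5two_spec (P := fun l => inW (l ++ l)) chk_W_pair
      (mem_pool (c := U p) (hc p (by omega)) (hdeg p (by omega)) (by simpa using hp)) ?_
    rw [← hDq]
    exact mem_pool (c := U q) (hc q (by omega)) (hdeg q (by omega)) (by simpa using hq)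

end CfsgLib.MTwentyFourUnique
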