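import Cfsg.Agent.Lib.MTwentyFourUnique.FiveAvg
import Cfsg.Agent.Lib.MTwentyFourUnique.FiveLists
import Cfsg.Agent.Lib.MTwentyThreeUnique.Three
import Mathlib

/-!
The rows at an element of order five: three sets of degrees, for the trivial character, the character of
degree three and the other linear characters of the alternating group of degree four.
-/

set_option autoImplicit false
set_option linter.style.haveILetI false

noncomputable section

namespace CfsgLib.MTwentyFourUnique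

open Subgroup Cfsg CfsgLib.InvolChar Search
open scoped ComplexConjugate
attribute [local instance] Classical.propDecidable

variable {G : Type*} [Group G] [Fintype G]

theorem cPhi_sub (U V U' V' : ℤ) : cPhi U V - cPhi U' V' = cPhi (U - U') (V - V') := by
  simp [cPhi]; ring

theorem cPhi_sum {ι : Type*} (s : Finset ι) (U V : ι → ℤ) (w : ι → ℤ) :
    ∑ i ∈ s, (w i : ℂ) * cPhi (U i) (V i) = cPhi (∑ i ∈ s, w i * U i) (∑ i ∈ s, w i * V i) := by
  simp only [cPhi, Int.cast_sum, Int.cast_mul, Finset.sum_mul, neg_mul, ← Finset.sum_sub_distrib,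
    ← Finset.sum_neg_distrib]
  exact Finset.sum_congr rfl fun i _ => by ring

theorem cPhi_inj {U V U' V' : ℤ} (h : cPhi U V = cPhi U' V') : U = U' ∧ V = V' := by
  have a1 := alpha_add
  have a2 := alpha_mul
  have hq : alpha * alpha = 1 - alpha := by linear_combination alpha * a1 - a2
  -- `p + q α = 0` with integers forces both to vanish
  set p : ℤ := V - V' with hp
  set q : ℤ := V - V' - (U - U') with hq'
  have h0 : (p : ℂ) + (q : ℂ) * alpha = 0 := by
    simp only [cPhi] at h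
    push_cast [hp, hq']
    linear_combination h + ((V : ℂ) - V') * a1
  have h1 : p * p - p * q - q * q = 0 := by
    have e : ((p * p - p * q - q * q : ℤ) : ℂ) = 0 := by
      push_cast
      linear_combination ((p : ℂ) - q - (q : ℂ) * alpha) * h0 + ((q : ℂ) * q) * hq
    exact_mod_cast e
  have h5 : q = 0 := by
    by_contra hne
    have e : (2 * p - q) * (2 * p - q) = 5 * (q * q) := by linarith
    have hqq : (q : ℚ) ≠ 0 := by exact_mod_cast hne
    have e' : (((2 * p - q : ℤ) : ℚ) / q) * (((2 * p - q : ℤ) : ℚ) / q) = 5 := by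
      field_simp
      have : (((2 * p - q) * (2 * p - q) : ℤ) : ℚ) = ((5 * (q * q) : ℤ) : ℚ) := by rw [e]
      push_cast at this ⊢
      linarith
    have hirr : Irrational (Real.sqrt ((5 : ℕ) : ℝ)) := Nat.Prime.irrational_sqrt (by norm_num)
    set r : ℚ := ((2 * p - q : ℤ) : ℚ) / q
    refine hirr ⟨|r|, ?_⟩
    rw [eq_comm, Real.sqrt_eq_iff_mul_self_eq (by norm_num) (by exact_mod_cast abs_nonneg r)]
    have : ((r * r : ℚ) : ℝ) = (5 : ℝ) := by rw [e']; norm_num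
    rw [← Rat.cast_mul, ← abs_mul_self r, abs_mul] at *
    push_cast at this ⊢
    linarith
  have h6 : p = 0 := by
    rw [h5] at h1
    simpa using h1
  omega

/-- The norms of a pair of conjugate vectors in the coordinates. -/
theorem norms_five {ι : Type*} [Fintype ι] (σ : ι → ι) (hσ : ∀ i, σ (σ i) = i) (U V : ι → ℤ)
    (hUV : ∀ i, V i = U (σ i)) (h1 : ∑ i, cPhi (U i) (V i) * cPhi (U i) (V i) = 5)
    (h2 : ∑ i, cPhi (U i) (V i) * cPhi (V i) (U i) = 0) :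
    ∑ i, U i * U i = 3 ∧ ∑ i, U i * V i = 2 := by
  set S := ∑ i, U i * U i with hS
  set S' := ∑ i, V i * V i with hS'
  set T := ∑ i, U i * V i with hT
  have hSS : S' = S :=
    Fintype.sum_bijective σ (Function.Involutive.bijective hσ) _ _ fun i => by rw [hUV]
  have a1 := alpha_add
  have a2 := alpha_mul
  have hq : alpha * alpha = 1 - alpha := by linear_combination alpha * a1 - a2
  have hb : beta * beta = 1 - beta := by linear_combination beta * a1 - a2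
  have e1 : ∑ i, cPhi (U i) (V i) * cPhi (U i) (V i) =
      (S : ℂ) * (1 - alpha) + (S' : ℂ) * (1 - beta) - 2 * (T : ℂ) := by
    rw [hS, hS', hT]
    push_cast
    simp only [Finset.mul_sum, Finset.sum_mul, ← Finset.sum_add_distrib, ← Finset.sum_sub_distrib]
    refine Finset.sum_congr rfl fun i _ => ?_
    rw [cPhi]
    linear_combination ((U i : ℂ) * U i) * hq + ((V i : ℂ) * V i) * hb + 2 * ((U i : ℂ) * V i) * a2
  have e2 : ∑ i, cPhi (U i) (V i) * cPhi (V i) (U i) = -(S : ℂ) - (S' : ℂ) + 3 * (T : ℂ) := by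
    rw [hS, hS', hT]
    push_cast
    simp only [Finset.mul_sum, ← Finset.sum_add_distrib, ← Finset.sum_sub_distrib, ← Finset.sum_neg_distrib]
    refine Finset.sum_congr rfl fun i _ => ?_
    rw [cPhi, cPhi]
    linear_combination ((U i : ℂ) * V i) * (hq + hb) + ((U i : ℂ) * U i + (V i : ℂ) * V i) * a2 -
      ((U i : ℂ) * V i) * a1
  rw [e1, hSS] at h1
  rw [e2, hSS] at h2
  have c1 : 3 * S - 2 * T = 5 := by
    have : ((3 * S - 2 * T : ℤ) : ℂ) = ((5 : ℤ) : ℂ) := by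
      push_cast; linear_combination h1 + (S : ℂ) * a1
    exact_mod_cast this
  have c2 : 3 * T - 2 * S = 0 := by
    have : ((3 * T - 2 * S : ℤ) : ℂ) = ((0 : ℤ) : ℂ) := by push_cast; linear_combination h2
    exact_mod_cast this
  omega

/-- The three sets of rows at five. -/
structure FiveRows (G : Type*) [Group G] [Fintype G] where
  /-- of the trivial character -/
  P : Finset (IrrCharacter G)
  /-- of the character of degree three -/
  F : Finset (IrrCharacter G)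
  /-- of the other linear characters -/
  W : Finset (IrrCharacter G)
  one_mem : CfsgLib.Char.irrOne ∈ P
  disjPF : Disjoint P F
  disjPW : Disjoint P W
  disjFW : Disjoint F W
  out : ∀ χ, χ ∉ P ∪ F ∪ W → 5 ∣ deg χ
  P_res : ∀ χ ∈ P, deg χ % 5 = 1 ∨ deg χ % 5 = 4
  inP : Search.inP (dlist deg P) = true
  F_spec : (Search.inF (dlist deg F) = true ∧ ∀ d ∈ dlist deg F, d ∈ poolFiveB) ∨
    (maskOf ndA (dlist deg F), keyOf ndA (dlist deg F), keyOf ndB (dlist deg F), sq7 (dlist deg F)) ∈ tabTwo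
  inW : Search.inW (dlist deg W) = true

/-- The rows exist. -/
theorem exists_fiveRows (D : FiveData G)
    (hcand : ∀ χ : IrrCharacter G, χ ≠ CfsgLib.Char.irrOne → deg χ ∈ cand) : Nonempty (FiveRows G) := by
  classical
  haveI : Fact (Nat.Prime 5) := ⟨by norm_num⟩
  obtain ⟨M, hM⟩ := CfsgLib.Blocks.exists_isPModular (p := 5) (by norm_num)
  have hy := D.hy
  have hy5 := D.y5
  have hv := D.alt.hv
  have hs := D.alt.hs
  have yv := D.yv
  have ys := D.ys
  have hs3 := D.alt.s3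
  have hvv := D.alt.vv
  have hsi : D.s⁻¹ = D.s * D.s :=
    (eq_inv_of_mul_eq_one_left (by rw [← pow_two, ← pow_succ, hs3])).symm
  have hcl : ∀ (χ : IrrCharacter G) {a b : G}, IsConj a b → (χ : G → ℂ) a = (χ : G → ℂ) b :=
    fun χ _ _ h => CfsgLib.MTwelveUnique.eq_of_isConj χ h
  have hi : ∀ (χ : IrrCharacter G) (g : G), (χ : G → ℂ) g⁻¹ = conj ((χ : G → ℂ) g) :=
    fun χ g => CfsgLib.Char.char_inv (CfsgLib.Char.isCharacter_of_isIrr χ.2) g
  -- fusion
  have n2 : ∀ k : G, IsConj k (D.n * k * D.n⁻¹) := fun k => isConj_iff.2 ⟨D.n, rfl⟩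
  have nmul : ∀ (i : ℕ) (a : G), D.n * (D.y ^ i * a) * D.n⁻¹ = D.y ^ (2 * i % 5) * (D.n * a * D.n⁻¹) :=
    fun i a => by rw [← D.n_pow]; group
  have hy2 : IsConj D.y (D.y ^ 2) := by have := n2 D.y; rwa [D.ny] at this
  have hy4 : IsConj D.y (D.y ^ 4) := hy2.trans (by
    have := n2 (D.y ^ 2); rwa [D.n_pow] at this)
  have hyv2 : IsConj (D.y * D.v) (D.y ^ 2 * D.v) := by
    have := n2 (D.y ^ 1 * D.v); rwa [nmul, D.nv, pow_one] at this
  have hyv4 : IsConj (D.y * D.v) (D.y ^ 4 * D.v) := hyv2.trans (by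
    have := n2 (D.y ^ 2 * D.v); rwa [nmul, D.nv] at this)
  have hys2 : IsConj (D.y * D.s) (D.y ^ 2 * D.t) := by
    have := n2 (D.y ^ 1 * D.s); rwa [nmul, pow_one] at this
  have hys4 : IsConj (D.y * D.s) (D.y ^ 4 * D.s) := hys2.trans (by
    have := n2 (D.y ^ 2 * D.t); rwa [nmul, D.n_t] at this)
  have hti : D.n * D.s⁻¹ * D.n⁻¹ = D.t⁻¹ := by rw [FiveData.t]; group
  have hys2' : IsConj (D.y * D.s⁻¹) (D.y ^ 2 * D.t⁻¹) := by
    have := n2 (D.y ^ 1 * D.s⁻¹); rwa [nmul, hti, pow_one] at this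
  have hys4' : IsConj (D.y * D.s⁻¹) (D.y ^ 4 * D.s⁻¹) := hys2'.trans (by
    have := n2 (D.y ^ 2 * D.t⁻¹)
    rwa [nmul, show D.n * D.t⁻¹ * D.n⁻¹ = (D.n * D.t * D.n⁻¹)⁻¹ by group, D.n_t] at this)
  have hy4i : D.y ^ 4 = D.y⁻¹ := eq_inv_of_mul_eq_one_left (by rw [← pow_succ, hy5])
  have ci1 : IsConj D.y D.y⁻¹ := hy4i ▸ hy4
  have ci2 : IsConj (D.y * D.v) (D.y * D.v)⁻¹ := by
    rw [yv.eq, mul_inv_rev, ← hy4i, inv_eq_of_mul_eq_one_left hvv, ← yv.eq]; exact hyv4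
  have ci3 : IsConj (D.y * D.s⁻¹) (D.y * D.s)⁻¹ := by
    rw [ys.eq, mul_inv_rev, ← hy4i]; exact hys4'
  have oyv : orderOf (D.y * D.v) = 10 := by
    rw [yv.orderOf_mul_eq_mul_orderOf_of_coprime (by rw [hy, hv]; norm_num), hy, hv]
  have oys : orderOf (D.y * D.s) = 15 := by
    rw [ys.orderOf_mul_eq_mul_orderOf_of_coprime (by rw [hy, hs]; norm_num), hy, hs]
  have oys' : orderOf (D.y * D.s⁻¹) = 15 := by
    rw [ys.inv_right.orderOf_mul_eq_mul_orderOf_of_coprime (by rw [hy, orderOf_inv, hs]; norm_num), hy,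
      orderOf_inv, hs]
  have hne : ∀ {a b : G}, orderOf a ≠ orderOf b → ¬ IsConj a b := fun {a b} hab h => by
    obtain ⟨g, hg⟩ := isConj_iff.1 h
    exact hab (by rw [← hg]; exact (orderOf_injective (MulAut.conj g).toMonoidHom (MulAut.conj g).injective a).symm)
  have hss' : ¬ IsConj (D.y * D.s) (D.y * D.s⁻¹) := fun h => by
    obtain ⟨g, hg⟩ := isConj_iff.1 h
    have h6 := congrArg (· ^ 6) hg
    simp only [conj_pow, ys.mul_pow, ys.inv_right.mul_pow, inv_pow,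
      show D.s ^ 6 = 1 by rw [show (6 : ℕ) = 3 * 2 from rfl, pow_mul, hs3, one_pow], inv_one, mul_one,
      show D.y ^ 6 = D.y by rw [pow_succ, hy5, one_mul]] at h6
    have hgy : Commute D.y g := (mul_inv_eq_iff_eq_mul.1 h6).symm
    obtain ⟨k, hk⟩ := D.cent_conj hgy
    rw [show g * (D.y * D.s) * g⁻¹ = (g * D.y * g⁻¹) * (g * D.s * g⁻¹) by group, h6, hk] at hg
    have e := mul_left_cancel hg
    have e2 : four D.v D.s k = D.s := by
      rw [← eq_mul_inv_iff_mul_eq, hsi, show D.s * D.s * (D.s * D.s) = D.s ^ 3 * D.s by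
        simp only [pow_succ, pow_zero, one_mul, mul_assoc], hs3, one_mul] at e
      exact e
    have e3 := D.alt.four_sq k
    rw [e2, ← pow_two] at e3
    have := orderOf_dvd_of_pow_eq_one e3
    rw [hs] at this
    norm_num at this
  -- the products
  have orth : ∀ a b : G, ∑ χ : IrrCharacter G, (χ : G → ℂ) a * (χ : G → ℂ) b =
      if IsConj a b⁻¹ then (Nat.card (centralizer ({a} : Set G)) : ℂ) else 0 := fun a b => by
    rw [← CfsgLib.Char.second_orthogonality a b⁻¹]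
    exact Finset.sum_congr rfl fun χ _ => by rw [hi, Complex.conj_conj]
  have q11 : ∑ χ : IrrCharacter G, (χ : G → ℂ) D.y * (χ : G → ℂ) D.y = 60 := by
    rw [orth, if_pos ci1, D.cy]; norm_num
  have q22 : ∑ χ : IrrCharacter G, (χ : G → ℂ) (D.y * D.v) * (χ : G → ℂ) (D.y * D.v) = 20 := by
    rw [orth, if_pos ci2, D.cyv]; norm_num
  have q34 : ∑ χ : IrrCharacter G, (χ : G → ℂ) (D.y * D.s) * (χ : G → ℂ) (D.y * D.s⁻¹) = 15 := by
    rw [orth, if_pos ?_, D.cys]
    · norm_num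
    · obtain ⟨g, hg⟩ := isConj_iff.1 ci3.symm
      refine isConj_iff.2 ⟨g, ?_⟩
      rw [← hg]
      group
  have q43 : ∑ χ : IrrCharacter G, (χ : G → ℂ) (D.y * D.s⁻¹) * (χ : G → ℂ) (D.y * D.s) = 15 := by
    rw [← q34]; exact Finset.sum_congr rfl fun χ _ => mul_comm _ _
  have z : ∀ a b : G, ¬ IsConj a b⁻¹ → ∑ χ : IrrCharacter G, (χ : G → ℂ) a * (χ : G → ℂ) b = 0 :=
    fun a b h => by rw [orth, if_neg h]
  have q12 := z D.y (D.y * D.v) (hne (by rw [orderOf_inv, hy, oyv]; norm_num))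
  have q13 := z D.y (D.y * D.s) (hne (by rw [orderOf_inv, hy, oys]; norm_num))
  have q14 := z D.y (D.y * D.s⁻¹) (hne (by rw [orderOf_inv, hy, oys']; norm_num))
  have q21 := z (D.y * D.v) D.y (hne (by rw [orderOf_inv, hy, oyv]; norm_num))
  have q23 := z (D.y * D.v) (D.y * D.s) (hne (by rw [orderOf_inv, oyv, oys]; norm_num))
  have q24 := z (D.y * D.v) (D.y * D.s⁻¹) (hne (by rw [orderOf_inv, oyv, oys']; norm_num))
  have q31 := z (D.y * D.s) D.y (hne (by rw [orderOf_inv, hy, oys]; norm_num))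
  have q32 := z (D.y * D.s) (D.y * D.v) (hne (by rw [orderOf_inv, oyv, oys]; norm_num))
  have q41 := z (D.y * D.s⁻¹) D.y (hne (by rw [orderOf_inv, hy, oys']; norm_num))
  have q42 := z (D.y * D.s⁻¹) (D.y * D.v) (hne (by rw [orderOf_inv, oyv, oys']; norm_num))
  have q33 := z (D.y * D.s) (D.y * D.s) fun h => hss' (h.trans ci3.symm)
  have q44 : ∑ χ : IrrCharacter G, (χ : G → ℂ) (D.y * D.s⁻¹) * (χ : G → ℂ) (D.y * D.s⁻¹) = 0 := by
    have e : ∀ χ : IrrCharacter G, (χ : G → ℂ) (D.y * D.s⁻¹) = conj ((χ : G → ℂ) (D.y * D.s)) := fun χ => by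
      rw [← hi, hcl χ ci3]
    simp only [e, ← map_mul, ← map_sum, q33, map_zero]
  set L : ℂ → ℂ → ℂ → ℂ → IrrCharacter G → ℂ := fun α β γ δ χ =>
    α * (χ : G → ℂ) D.y + β * (χ : G → ℂ) (D.y * D.v) + γ * (χ : G → ℂ) (D.y * D.s) +
      δ * (χ : G → ℂ) (D.y * D.s⁻¹) with hL
  have key : ∀ α β γ δ α' β' γ' δ', ∑ χ, L α β γ δ χ * L α' β' γ' δ' χ =
      60 * α * α' + 20 * β * β' + 15 * (γ * δ' + δ * γ') := fun α β γ δ α' β' γ' δ' => by
    simp only [hL, mul_add, add_mul, Finset.sum_add_distrib, mul_mul_mul_comm α, mul_mul_mul_comm β,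
      mul_mul_mul_comm γ, mul_mul_mul_comm δ, ← Finset.mul_sum, q11, q12, q13, q14, q21, q22, q23, q24, q31,
      q32, q33, q34, q41, q42, q43, q44]
    ring
  have key1 : ∀ α β γ δ, ∑ χ, (deg χ : ℂ) * L α β γ δ χ = 0 := fun α β γ δ => by
    have z : ∀ g : G, g ≠ 1 → ∑ χ : IrrCharacter G, (deg χ : ℂ) * (χ : G → ℂ) g = 0 := fun g hg => by
      have e := CfsgLib.Char.sum_degree_mul_apply g
      rw [if_neg hg] at e
      simpa [deg_spec] using e
    have hone : ∀ {g : G} {k : ℕ}, orderOf g = k → 1 < k → g ≠ 1 := fun {g k} h hk e => by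
      rw [e, orderOf_one] at h; omega
    have e : ∀ χ : IrrCharacter G, (deg χ : ℂ) * L α β γ δ χ = α * ((deg χ : ℂ) * (χ : G → ℂ) D.y) +
        β * ((deg χ : ℂ) * (χ : G → ℂ) (D.y * D.v)) + γ * ((deg χ : ℂ) * (χ : G → ℂ) (D.y * D.s)) +
        δ * ((deg χ : ℂ) * (χ : G → ℂ) (D.y * D.s⁻¹)) := fun χ => by simp only [hL]; ring
    simp only [e, Finset.sum_add_distrib, ← Finset.mul_sum, z _ (hone hy (by norm_num)),
      z _ (hone oyv (by norm_num)), z _ (hone oys (by norm_num)), z _ (hone oys' (by norm_num))]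
    ring
  -- cube roots of unity
  set ω := zeta 3 with hωdef
  have hw : IsPrimitiveRoot ω 3 := zeta_prim 3
  have hw3 : ω ^ 3 = 1 := hw.pow_eq_one
  have hw1 : 1 + ω + ω ^ 2 = 0 := by
    have h := hw.geom_sum_eq_zero (by norm_num : 1 < 3)
    simpa [Finset.sum_range_succ] using h
  have hwi : ω⁻¹ = ω ^ 2 := inv_eq_of_mul_eq_one_right (by rw [← pow_succ', hw3])
  have he : (ω ^ 2)⁻¹ = ω := inv_eq_of_mul_eq_one_right (by rw [← pow_succ, hw3])
  -- values on the four group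
  have hvj : ∀ (χ : IrrCharacter G) (k : ℕ),
      (χ : G → ℂ) (D.y ^ k * four D.v D.s 2) = (χ : G → ℂ) (D.y ^ k * D.v) ∧
      (χ : G → ℂ) (D.y ^ k * four D.v D.s 3) = (χ : G → ℂ) (D.y ^ k * D.v) := fun χ k => by
    have e : ∀ a, IsConj (D.y ^ k * a) (D.y ^ k * (D.s * a * D.s⁻¹)) := fun a => isConj_iff.2 ⟨D.s, by
      rw [show D.s * (D.y ^ k * a) * D.s⁻¹ = (D.s * D.y ^ k * D.s⁻¹) * (D.s * a * D.s⁻¹) by group,
        (ys.symm.pow_right k).eq, mul_inv_cancel_right]⟩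
    have e2 : D.s * four D.v D.s 2 * D.s⁻¹ = four D.v D.s 3 := D.alt.four_conj 2
    refine ⟨(hcl χ (e _)).symm, ?_⟩
    rw [← e2]
    exact (hcl χ ((e D.v).trans (e _))).symm
  have hpw : ∀ (k : ℕ) (a : G), D.y ^ k * a ^ 1 = D.y ^ k * a := fun k a => by rw [pow_one]
  -- the coordinates
  have h0 : ∀ χ : IrrCharacter G, ∃ (U : ℤ) (m : ℕ),
      3 * (U : ℂ) = (χ : G → ℂ) D.y + (χ : G → ℂ) (D.y * D.s) + (χ : G → ℂ) (D.y * D.s⁻¹) ∧
      3 * (m : ℂ) = (deg χ : ℂ) + (χ : G → ℂ) D.s + (χ : G → ℂ) D.s⁻¹ ∧ (5 : ℤ) ∣ (m : ℤ) + 4 * U := fun χ => by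
    obtain ⟨m, z, hz, hk⟩ := exists_roots_cyclic (CfsgLib.Char.isCharacter_of_isIrr χ.2) D.y D.s ys
      (w := 1) (by rw [one_pow])
    rw [hy] at hz
    have k0 := hk 0
    have k1 := hk 1
    have k2 := hk 2
    have k4 := hk 4
    rw [hs] at k0 k1 k2 k4
    simp [Finset.sum_range_succ, pow_two D.s, ← hsi] at k0 k1 k2 k4
    rw [deg_spec] at k0
    rw [← hcl χ hy4, ← hcl χ hys4, ← hcl χ hys4'] at k4
    have e2 : (χ : G → ℂ) (D.y ^ 2 * D.s) + (χ : G → ℂ) (D.y ^ 2 * D.s⁻¹) =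
        (χ : G → ℂ) (D.y * D.s) + (χ : G → ℂ) (D.y * D.s⁻¹) := by
      rcases D.t_cases with h | h
      · rw [h] at hys2 hys2'; rw [← hcl χ hys2, ← hcl χ hys2']
      · rw [h] at hys2 hys2'; rw [inv_inv] at hys2'; rw [← hcl χ hys2, ← hcl χ hys2', add_comm]
    obtain ⟨U, V, hU, -, h5, hUV⟩ :=
      exists_cPhi z hz (mul_left_cancel₀ (three_ne_zero' ℂ) (by rw [k1, k4]))
    obtain rfl : U = V := hUV (mul_left_cancel₀ (three_ne_zero' ℂ) (by
      rw [k1, k2, ← hcl χ hy2, add_assoc, e2, add_assoc]))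
    exact ⟨U, m, by rw [← cPhi_self U, ← hU, k1], k0, by omega⟩
  have hω : ∀ χ : IrrCharacter G, ∃ (U V : ℤ) (m : ℕ),
      3 * cPhi U V = (χ : G → ℂ) D.y + ω ^ 2 * (χ : G → ℂ) (D.y * D.s) + ω * (χ : G → ℂ) (D.y * D.s⁻¹) ∧
      3 * cPhi V U = (χ : G → ℂ) D.y + ω ^ 2 * (χ : G → ℂ) (D.y ^ 2 * D.s) + ω * (χ : G → ℂ) (D.y ^ 2 * D.s⁻¹) ∧
      3 * (m : ℂ) = (deg χ : ℂ) + ω ^ 2 * (χ : G → ℂ) D.s + ω * (χ : G → ℂ) D.s⁻¹ ∧
      (5 : ℤ) ∣ (m : ℤ) + 2 * (U + V) := fun χ => by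
    obtain ⟨m, z, hz, hk⟩ := exists_roots_cyclic (CfsgLib.Char.isCharacter_of_isIrr χ.2) D.y D.s ys
      (w := ω) (by rw [hs]; exact hw3)
    rw [hy] at hz
    have k0 := hk 0
    have k1 := hk 1
    have k2 := hk 2
    have k4 := hk 4
    rw [hs] at k0 k1 k2 k4
    simp [Finset.sum_range_succ, pow_two D.s, ← hsi, hwi] at k0 k1 k2 k4
    rw [deg_spec] at k0
    rw [← hcl χ hy4, ← hcl χ hys4, ← hcl χ hys4'] at k4
    rw [← hcl χ hy2] at k2
    rw [he] at k0 k1 k2 k4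
    obtain ⟨U, V, hU, hV, h5, -⟩ :=
      exists_cPhi z hz (mul_left_cancel₀ (three_ne_zero' ℂ) (by rw [k1, k4]))
    exact ⟨U, V, m, by rw [← hU, k1]; ring, by rw [← hV, k2]; ring, by rw [k0]; ring, h5⟩
  have h3 : ∀ χ : IrrCharacter G, ∃ (U : ℤ) (m : ℕ),
      4 * (U : ℂ) = (χ : G → ℂ) D.y - (χ : G → ℂ) (D.y * D.v) ∧
      4 * (m : ℂ) = (deg χ : ℂ) - (χ : G → ℂ) D.v ∧ (5 : ℤ) ∣ (m : ℤ) + 4 * U := fun χ => by
    obtain ⟨m, z, hz, hk⟩ := exists_roots_four (CfsgLib.Char.isCharacter_of_isIrr χ.2) D.alt D.y yv ys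
    rw [hy] at hz
    have h1 : four D.v D.s 1 = D.v := rfl
    have k : ∀ j, 4 * ∑ i, z i ^ j = (χ : G → ℂ) (D.y ^ j) - (χ : G → ℂ) (D.y ^ j * D.v) := fun j => by
      rw [hk j, (hvj χ j).1, (hvj χ j).2, h1]; ring
    have k0 := k 0
    have k1 := k 1
    have k2 := k 2
    have k4 := k 4
    simp at k0 k1
    rw [deg_spec] at k0
    rw [← hcl χ hy4, ← hcl χ hyv4] at k4
    rw [← hcl χ hy2, ← hcl χ hyv2] at k2
    obtain ⟨U, V, hU, -, h5, hUV⟩ :=
      exists_cPhi z hz (mul_left_cancel₀ (by norm_num : (4 : ℂ) ≠ 0) (by rw [k1, k4]))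
    obtain rfl : U = V := hUV (mul_left_cancel₀ (by norm_num : (4 : ℂ) ≠ 0) (by rw [k1, k2]))
    exact ⟨U, m, by rw [← cPhi_self U, ← hU, k1], k0, by omega⟩
  choose U₀ m₀ hc0 hm0 h50 using h0
  choose Uω Vω mω hcω hcω2 hmω h5ω using hω
  choose U₃ m₃ hc3 hm3 h53 using h3
  set u₁ : IrrCharacter G → ℤ := fun χ => U₀ χ - U₃ χ with hu1def
  set uw : IrrCharacter G → ℤ := fun χ => Uω χ - U₃ χ with huwdef
  set vw : IrrCharacter G → ℤ := fun χ => Vω χ - U₃ χ with hvwdef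
  set σ := (CfsgLib.Char.irrConj : IrrCharacter G → IrrCharacter G) with hσdef
  have hσ : ∀ χ, σ (σ χ) = χ := CfsgLib.Char.irrConj_irrConj
  have hσd : ∀ χ, deg (σ χ) = deg χ := CfsgLib.MTwentyThreeUnique.irrConj_deg
  set N1 : IrrCharacter G → ℤ := fun χ => (m₀ χ : ℤ) - m₃ χ with hN1def
  set N3 : IrrCharacter G → ℤ := fun χ => (m₃ χ : ℤ) with hN3def
  set Nw : IrrCharacter G → ℤ := fun χ => (mω χ : ℤ) - m₃ χ with hNwdef
  set Nw' : IrrCharacter G → ℤ := fun χ => Nw (σ χ) with hNw'def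
  have hσv : ∀ χ (g : G), (σ χ : G → ℂ) g = (χ : G → ℂ) g⁻¹ := fun χ g => by
    rw [hσdef, CfsgLib.Char.irrConj_apply, hi]
  have hsinv : ∀ (χ : IrrCharacter G), (σ χ : G → ℂ) D.s = (χ : G → ℂ) D.s⁻¹ ∧
      (σ χ : G → ℂ) D.s⁻¹ = (χ : G → ℂ) D.s ∧ (σ χ : G → ℂ) D.v = (χ : G → ℂ) D.v := fun χ => by
    refine ⟨hσv χ _, by rw [hσv, inv_inv], ?_⟩
    rw [hσv, inv_eq_of_mul_eq_one_left hvv]
  have hN : ∀ χ, 12 * (N1 χ : ℂ) = (deg χ : ℂ) + 3 * (χ : G → ℂ) D.v + 4 * (χ : G → ℂ) D.s +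
        4 * (χ : G → ℂ) D.s⁻¹ ∧
      4 * (N3 χ : ℂ) = (deg χ : ℂ) - (χ : G → ℂ) D.v ∧
      12 * (Nw χ : ℂ) = (deg χ : ℂ) + 3 * (χ : G → ℂ) D.v + 4 * ω ^ 2 * (χ : G → ℂ) D.s +
        4 * ω * (χ : G → ℂ) D.s⁻¹ ∧
      12 * (Nw' χ : ℂ) = (deg χ : ℂ) + 3 * (χ : G → ℂ) D.v + 4 * ω * (χ : G → ℂ) D.s +
        4 * ω ^ 2 * (χ : G → ℂ) D.s⁻¹ := fun χ => by
    refine ⟨?_, ?_, ?_, ?_⟩
    · simp only [hN1def]; push_cast; linear_combination 4 * hm0 χ - 3 * hm3 χ
    · simp only [hN3def]; push_cast; linear_combination hm3 χ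
    · simp only [hNwdef]; push_cast; linear_combination 4 * hmω χ - 3 * hm3 χ
    · obtain ⟨a, b, c⟩ := hsinv χ
      have h1 := hmω (σ χ)
      have h2 := hm3 (σ χ)
      rw [hσd, a, b] at h1
      rw [hσd, c] at h2
      simp only [hNw'def, hNwdef]; push_cast; linear_combination 4 * h1 - 3 * h2
  have hdeg : ∀ χ, (deg χ : ℤ) = N1 χ + Nw χ + Nw' χ + 3 * N3 χ := fun χ => by
    obtain ⟨a, b, c, d⟩ := hN χ
    have h : ((deg χ : ℤ) : ℂ) = ((N1 χ + Nw χ + Nw' χ + 3 * N3 χ : ℤ) : ℂ) := by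
      push_cast
      linear_combination (-(1 / 12) : ℂ) * a - (3 / 4 : ℂ) * b - (1 / 12 : ℂ) * c - (1 / 12 : ℂ) * d -
        ((χ : G → ℂ) D.s + (χ : G → ℂ) D.s⁻¹) / 3 * hw1
    exact_mod_cast h
  have h51 : ∀ χ, (5 : ℤ) ∣ N1 χ + 4 * u₁ χ := fun χ => by
    have := h50 χ; have := h53 χ; simp only [hN1def, hu1def]; omega
  have h5w : ∀ χ, (5 : ℤ) ∣ Nw χ + 2 * (uw χ + vw χ) := fun χ => by
    have := h5ω χ; have := h53 χ; simp only [hNwdef, huwdef, hvwdef]; omega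
  -- in the form `L`
  have f1 : ∀ χ, (u₁ χ : ℂ) = L (1 / 12) (1 / 4) (1 / 3) (1 / 3) χ := fun χ => by
    simp only [hu1def, hL]; push_cast; linear_combination hc0 χ / 3 - hc3 χ / 4
  have f3 : ∀ χ, (U₃ χ : ℂ) = L (1 / 4) (-1 / 4) 0 0 χ := fun χ => by
    simp only [hL]; linear_combination hc3 χ / 4
  have fw : ∀ χ, cPhi (uw χ) (vw χ) = L (1 / 12) (1 / 4) (ω ^ 2 / 3) (ω / 3) χ := fun χ => by
    simp only [huwdef, hvwdef, hL]
    rw [← cPhi_sub, cPhi_self]
    linear_combination hcω χ / 3 - hc3 χ / 4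
  have fwσ : ∀ χ, cPhi (uw (σ χ)) (vw (σ χ)) = L (1 / 12) (1 / 4) (ω / 3) (ω ^ 2 / 3) χ := fun χ => by
    rw [fw]
    simp only [hL, hσv]
    rw [← hcl χ ci1, ← hcl χ ci2, ← hcl χ ci3, show (χ : G → ℂ) (D.y * D.s⁻¹)⁻¹ = (χ : G → ℂ) (D.y * D.s) by
      rw [hi, hcl χ ci3, hi, Complex.conj_conj]]
    ring
  have n1 : ∑ χ, u₁ χ * u₁ χ = 5 := by
    have h : ((∑ χ, u₁ χ * u₁ χ : ℤ) : ℂ) = ((5 : ℤ) : ℂ) := by
      push_cast; simp only [f1]; rw [key]; norm_num
    exact_mod_cast h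
  have n3 : ∑ χ, U₃ χ * U₃ χ = 5 := by
    have h : ((∑ χ, U₃ χ * U₃ χ : ℤ) : ℂ) = ((5 : ℤ) : ℂ) := by
      push_cast; simp only [f3]; rw [key]; norm_num
    exact_mod_cast h
  have nw1 : ∑ χ, cPhi (uw χ) (vw χ) * cPhi (uw χ) (vw χ) = 5 := by
    simp only [fw]; rw [key]; linear_combination (10 / 3 : ℂ) * hw3
  have nw2 : ∑ χ, cPhi (uw χ) (vw χ) * cPhi (uw (σ χ)) (vw (σ χ)) = 0 := by
    simp only [fwσ]; simp only [fw]; rw [key]
    linear_combination (5 / 3 : ℂ) * (hw1 + ω * hw3)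
  have r1 : ∑ χ, (deg χ : ℤ) * u₁ χ = 0 := by
    have h : ((∑ χ, (deg χ : ℤ) * u₁ χ : ℤ) : ℂ) = ((0 : ℤ) : ℂ) := by
      push_cast; simp only [f1]; exact key1 _ _ _ _
    exact_mod_cast h
  have r3 : ∑ χ, (deg χ : ℤ) * U₃ χ = 0 := by
    have h : ((∑ χ, (deg χ : ℤ) * U₃ χ : ℤ) : ℂ) = ((0 : ℤ) : ℂ) := by
      push_cast; simp only [f3]; exact key1 _ _ _ _
    exact_mod_cast h
  have rw0 : ∑ χ, (deg χ : ℤ) * uw χ = 0 := by
    have h : ∑ χ, ((deg χ : ℤ) : ℂ) * cPhi (uw χ) (vw χ) = cPhi 0 0 := by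
      simp only [fw, Int.cast_natCast]; rw [key1]; simp [cPhi]
    rw [cPhi_sum] at h
    exact (cPhi_inj h).1
  -- congruences of the class sum
  have hclass : ∀ χ : IrrCharacter G, ∀ h : G, (h = 1 ∨ h = D.v ∨ h = D.s ∨ h = D.s⁻¹) →
      Cg M (omega χ (D.y * D.s) * (χ : G → ℂ) h)
        (2 * ∑ j : Fin 4, (χ : G → ℂ) (four D.v D.s j * D.s * h) +
          2 * ∑ j : Fin 4, (χ : G → ℂ) (four D.v D.s j * D.t * h)) := fun χ h hh => by
    have hyh : Commute D.y h := by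
      rcases hh with rfl | rfl | rfl | rfl
      exacts [Commute.one_right _, yv, ys, ys.inv_right]
    have g1 := class_cg hM χ hy5 _ _ D.mem_cls hyh
    have hinjc : Function.Injective (fun p : Fin 4 × Fin 4 =>
        D.y ^ (D.rep p.1).1 * (four D.v D.s p.2 * (D.rep p.1).2)) := by
      have hQ : ∀ i, ∃ b : ℕ, (D.rep i).2 = D.s ^ b := fun i => by
        fin_cases i <;> simp [FiveData.rep] <;>
          first | exact ⟨1, (pow_one _).symm⟩ | (rcases D.t_cases with h | h <;> rw [h]; exacts [⟨1, (pow_one _).symm⟩, ⟨2, by rw [hsi, pow_two]⟩])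
      rintro ⟨i, j⟩ ⟨i', j'⟩ e
      simp only at e
      obtain ⟨b, hb⟩ := hQ i
      obtain ⟨b', hb'⟩ := hQ i'
      rw [hb, hb'] at e
      have e6 := congrArg (· ^ 6) e
      simp only [(((D.yfour _).mul_right (ys.pow_right _)).pow_left _).mul_pow, D.six, mul_one, ← pow_mul] at e6
      rw [pow_inj_mod, hy] at e6
      have hi' : i = i' := by
        fin_cases i <;> fin_cases i' <;> simp [FiveData.rep] at e6 ⊢
      subst hi'
      rw [← hb] at e
      rw [← hb'] at e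
      exact Prod.ext rfl (D.alt.four_inj (mul_right_cancel (mul_left_cancel e)))
    rw [FiveData.cls, Finset.sum_image hinjc.injOn, Fintype.sum_prod_type, Fin.sum_univ_four] at g1
    have hterm : ∀ (i : Fin 4) (j : Fin 4), Cg M
        ((χ : G → ℂ) (D.y ^ (D.rep i).1 * (four D.v D.s j * (D.rep i).2) * h))
        ((χ : G → ℂ) (four D.v D.s j * (D.rep i).2 * h)) := fun i j => by
      obtain ⟨k, b, hkb⟩ : ∃ (k : Fin 4) (b : ℕ), four D.v D.s j * (D.rep i).2 * h = four D.v D.s k * D.s ^ b := by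
        have hQ : (D.rep i).2 = D.s ∨ (D.rep i).2 = D.s * D.s := by
          rw [← hsi]
          fin_cases i <;> simp [FiveData.rep] <;> exact D.t_cases
        rcases hQ with e | e <;> rw [e] <;> rcases hh with rfl | rfl | rfl | rfl
        · exact ⟨j, 1, by simp⟩
        · obtain ⟨k, hk⟩ := D.alt.four_mul j (![0, 2, 3, 1] 1)
          refine ⟨k, 1, ?_⟩
          rw [← hk, ← D.alt.four_conj, pow_one]
          show four D.v D.s j * D.s * four D.v D.s 1 = _
          group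
        · exact ⟨j, 2, by rw [pow_two, mul_assoc]⟩
        · exact ⟨j, 0, by simp⟩
        · exact ⟨j, 2, by rw [pow_two, mul_one]⟩
        · obtain ⟨k, hk⟩ := D.alt.four_mul j (![0, 3, 1, 2] 1)
          refine ⟨k, 2, ?_⟩
          rw [← hk, ← D.alt.four_conj_sq, pow_two]
          show four D.v D.s j * (D.s * D.s) * four D.v D.s 1 = _
          group
        · exact ⟨j, 0, by rw [mul_assoc, mul_assoc, ← mul_assoc D.s, ← pow_two, ← pow_succ, hs3]; simp⟩
        · exact ⟨j, 1, by simp [mul_assoc]⟩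
      rw [mul_assoc (D.y ^ (D.rep i).1), hkb]
      refine char_cg hM (CfsgLib.Char.isCharacter_of_isIrr χ.2) ?_
        (((D.yfour k).mul_right (ys.pow_right b)).pow_left _) fun h5 => ?_
      · rw [← pow_mul, mul_comm, pow_mul, hy5, one_pow]
      · have := h5.trans (orderOf_dvd_of_pow_eq_one (D.six k b))
        norm_num at this
    have g2 := ((Cg.sum Finset.univ fun j _ => hterm 0 j).add (Cg.sum Finset.univ fun j _ => hterm 1 j)).add
      (Cg.sum Finset.univ fun j _ => hterm 2 j)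
    have g3 := g1.trans (g2.add (Cg.sum Finset.univ fun j _ => hterm 3 j))
    simp [FiveData.rep] at g3
    convert g3 using 1
    simp only [mul_assoc]
    ring
  have hR : ∀ (χ : IrrCharacter G),
      ∑ j : Fin 4, (χ : G → ℂ) (four D.v D.s j * D.s) = 4 * (χ : G → ℂ) D.s ∧
      ∑ j : Fin 4, (χ : G → ℂ) (four D.v D.s j * D.s⁻¹) = 4 * (χ : G → ℂ) D.s⁻¹ ∧
      ∑ j : Fin 4, (χ : G → ℂ) (four D.v D.s j * D.s * D.v) = 4 * (χ : G → ℂ) D.s ∧
      ∑ j : Fin 4, (χ : G → ℂ) (four D.v D.s j * D.s⁻¹ * D.v) = 4 * (χ : G → ℂ) D.s⁻¹ ∧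
      ∑ j : Fin 4, (χ : G → ℂ) (four D.v D.s j) = (deg χ : ℂ) + 3 * (χ : G → ℂ) D.v := fun χ => by
    have c1 : ∀ j, (χ : G → ℂ) (four D.v D.s j * D.s) = (χ : G → ℂ) D.s := fun j => by
      obtain ⟨w, hw⟩ := D.alt.coset_conj j
      exact (hcl χ (isConj_iff.2 ⟨_, hw⟩)).symm
    have c2 : ∀ j, (χ : G → ℂ) (four D.v D.s j * D.s⁻¹) = (χ : G → ℂ) D.s⁻¹ := fun j => by
      rw [← Complex.conj_conj ((χ : G → ℂ) (four D.v D.s j * D.s⁻¹)), ← hi, hi χ D.s]
      congr 1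
      rw [mul_inv_rev, inv_inv, inv_eq_of_mul_eq_one_left (D.alt.four_sq j),
        show D.s * four D.v D.s j = D.s * four D.v D.s j * D.s⁻¹ * D.s by group, D.alt.four_conj, c1]
    have cv : ∀ j b, (χ : G → ℂ) (four D.v D.s j * b * D.v) =
        (χ : G → ℂ) (four D.v D.s (![1, 0, 3, 2] j) * b) := fun j b => by
      rw [← D.alt.four_mul_v,
        show four D.v D.s j * D.v = D.v * four D.v D.s j from (D.alt.four_comm j 1).eq]
      exact hcl χ (isConj_iff.2 ⟨D.v, by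
        show D.v * (four D.v D.s j * b * D.v) * D.v⁻¹ = D.v * four D.v D.s j * b
        group⟩)
    refine ⟨?_, ?_, ?_, ?_, ?_⟩
    · simp [c1]
    · simp [c2]
    · simp [cv, c1]
    · simp [cv, c2]
    · rw [Fin.sum_univ_four, show four D.v D.s 0 = 1 from rfl, deg_spec]
      have a := hvj χ 0
      simp only [pow_zero, one_mul] at a
      rw [a.1, a.2, show four D.v D.s 1 = D.v from rfl]
      ring
  have ic : ∀ r : ℤ, IsIntegral ℤ (r : ℂ) := fun r => isIntegral_algebraMap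
  have iω : IsIntegral ℤ ω := isIntegral_root (by norm_num) hw3
  have iw := fun χ : IrrCharacter G => isIntegral_omega χ (D.y * D.s)
  have d5 : ∀ r : ℤ, Cg M ((r : ℂ)) 0 ↔ (5 : ℤ) ∣ r := fun r => by
    have := cg_int_iff hM r 0
    simpa using this
  -- separation
  have hsep : ∃ lam lam' : ℂ, IsIntegral ℤ lam ∧ IsIntegral ℤ lam' ∧
      ((D.t = D.s⁻¹ ∧ lam = -8 ∧ lam' = -8) ∨ (D.t = D.s ∧ lam = 16 * ω ∧ lam' = 16 * ω ^ 2)) ∧
      ∀ χ, Cg M ((omega χ (D.y * D.s) - 16) * (N1 χ : ℂ)) 0 ∧ Cg M (omega χ (D.y * D.s) * (N3 χ : ℂ)) 0 ∧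
        Cg M ((omega χ (D.y * D.s) - lam) * (Nw χ : ℂ)) 0 ∧
        Cg M ((omega χ (D.y * D.s) - lam') * (Nw' χ : ℂ)) 0 := by
    have fin : ∀ (w l : ℂ) (N : ℤ) (X : ℂ), IsIntegral ℤ w → IsIntegral ℤ l → 12 * (N : ℂ) = X →
        Cg M (w * X) (l * X) → Cg M ((w - l) * (N : ℂ)) 0 := fun w l N X hw hl hX h => by
      have h12 : Cg M (((12 : ℤ) : ℂ) * ((w - l) * (N : ℂ))) 0 := by
        have := h.sub (Cg.refl (M := M) (l * X))
        rw [sub_self] at this
        convert this using 1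
        rw [← hX]; push_cast; ring
      refine (Cg.mul_eq_zero hM (ic 12) ((hw.sub hl).mul (ic N)) h12).resolve_left fun h => ?_
      have := (d5 12).1 h
      norm_num at this
    have i16 : IsIntegral ℤ (16 : ℂ) := by simpa using ic 16
    rcases D.t_cases with ht | ht
    · refine ⟨16 * ω, 16 * ω ^ 2, i16.mul iω, i16.mul (iω.pow 2), Or.inr ⟨ht, rfl, rfl⟩, fun χ => ?_⟩
      obtain ⟨s1, s2, s3, s4, s5⟩ := hR χ
      have gA := hclass χ 1 (Or.inl rfl)
      have gB := hclass χ D.v (Or.inr (Or.inl rfl))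
      have gC := hclass χ D.s (Or.inr (Or.inr (Or.inl rfl)))
      have gD := hclass χ D.s⁻¹ (Or.inr (Or.inr (Or.inr rfl)))
      have e2 : ∀ j, four D.v D.s j * D.s * D.s = four D.v D.s j * D.s⁻¹ := fun j => by rw [hsi, mul_assoc]
      simp only [ht, mul_one, e2, mul_inv_cancel_right, s1, s2, s3, s5, deg_spec] at gA gB gC gD
      obtain ⟨a, b, c, d⟩ := hN χ
      refine ⟨fin _ _ _ _ (iw χ) i16 a ?_, ?_, fin _ _ _ _ (iw χ) (i16.mul iω) c ?_,
        fin _ _ _ _ (iw χ) (i16.mul (iω.pow 2)) d ?_⟩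
      · convert ((gA.add (gB.mul_left (z := ((3 : ℤ) : ℂ)) (ic _))).add
          ((gC.mul_left (z := ((4 : ℤ) : ℂ)) (ic _)).add (gD.mul_left (z := ((4 : ℤ) : ℂ)) (ic _)))) using 1
        · push_cast; ring
        · push_cast; ring
      · have := fin (omega χ (D.y * D.s)) 0 (N3 χ) (3 * ((deg χ : ℂ) - (χ : G → ℂ) D.v)) (iw χ) (by simpa using ic 0)
          (by linear_combination 3 * b) ?_
        · simpa using this
        · convert (gA.mul_left (z := ((3 : ℤ) : ℂ)) (ic _)).add (gB.mul_left (z := ((-3 : ℤ) : ℂ)) (ic _)) using 1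
          · push_cast; ring
          · push_cast; ring
      · convert ((gA.add (gB.mul_left (z := ((3 : ℤ) : ℂ)) (ic _))).add
          ((gC.mul_left (z := ((4 : ℤ) : ℂ) * ω ^ 2) ((ic _).mul (iω.pow 2))).add
            (gD.mul_left (z := ((4 : ℤ) : ℂ) * ω) ((ic _).mul iω)))) using 1
        · push_cast; ring
        · push_cast; linear_combination 64 * (χ : G → ℂ) D.s * hw3
      · convert ((gA.add (gB.mul_left (z := ((3 : ℤ) : ℂ)) (ic _))).add
          ((gC.mul_left (z := ((4 : ℤ) : ℂ) * ω) ((ic _).mul iω)).add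
            (gD.mul_left (z := ((4 : ℤ) : ℂ) * ω ^ 2) ((ic _).mul (iω.pow 2))))) using 1
        · push_cast; ring
        · push_cast
          linear_combination (64 * (χ : G → ℂ) D.s + 64 * ω * (χ : G → ℂ) D.s⁻¹) * hw3
    · have i8 : IsIntegral ℤ (-8 : ℂ) := by simpa using ic (-8)
      refine ⟨-8, -8, i8, i8, Or.inl ⟨ht, rfl, rfl⟩, fun χ => ?_⟩
      obtain ⟨s1, s2, s3, s4, s5⟩ := hR χ
      have gA := hclass χ 1 (Or.inl rfl)
      have gB := hclass χ D.v (Or.inr (Or.inl rfl))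
      have gC := hclass χ D.s (Or.inr (Or.inr (Or.inl rfl)))
      have gD := hclass χ D.s⁻¹ (Or.inr (Or.inr (Or.inr rfl)))
      have e2 : ∀ j, four D.v D.s j * D.s * D.s = four D.v D.s j * D.s⁻¹ := fun j => by rw [hsi, mul_assoc]
      have e3 : ∀ j, four D.v D.s j * D.s⁻¹ * D.s⁻¹ = four D.v D.s j * D.s := fun j => by
        rw [mul_assoc, hsi, show D.s * D.s * (D.s * D.s) = D.s ^ 3 * D.s by
          simp only [pow_succ, pow_zero, one_mul, mul_assoc], hs3, one_mul]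
      simp only [ht, mul_one, e2, e3, mul_inv_cancel_right, inv_mul_cancel_right, s1, s2, s3, s4, s5,
        deg_spec] at gA gB gC gD
      obtain ⟨a, b, c, d⟩ := hN χ
      refine ⟨fin _ _ _ _ (iw χ) i16 a ?_, ?_, fin _ _ _ _ (iw χ) i8 c ?_, fin _ _ _ _ (iw χ) i8 d ?_⟩
      · convert ((gA.add (gB.mul_left (z := ((3 : ℤ) : ℂ)) (ic _))).add
          ((gC.mul_left (z := ((4 : ℤ) : ℂ)) (ic _)).add (gD.mul_left (z := ((4 : ℤ) : ℂ)) (ic _)))) using 1
        · push_cast; ring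
        · push_cast; ring
      · have := fin (omega χ (D.y * D.s)) 0 (N3 χ) (3 * ((deg χ : ℂ) - (χ : G → ℂ) D.v)) (iw χ) (by simpa using ic 0)
          (by linear_combination 3 * b) ?_
        · simpa using this
        · convert (gA.mul_left (z := ((3 : ℤ) : ℂ)) (ic _)).add (gB.mul_left (z := ((-3 : ℤ) : ℂ)) (ic _)) using 1
          · push_cast; ring
          · push_cast; ring
      · convert ((gA.add (gB.mul_left (z := ((3 : ℤ) : ℂ)) (ic _))).add
          ((gC.mul_left (z := ((4 : ℤ) : ℂ) * ω ^ 2) ((ic _).mul (iω.pow 2))).add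
            (gD.mul_left (z := ((4 : ℤ) : ℂ) * ω) ((ic _).mul iω)))) using 1
        · push_cast; ring
        · push_cast
          linear_combination (-(8 * (deg χ : ℂ) + 24 * (χ : G → ℂ) D.v) - 32 * (χ : G → ℂ) D.s -
            32 * (χ : G → ℂ) D.s⁻¹ + (-8) * 0) * hw1
      · convert ((gA.add (gB.mul_left (z := ((3 : ℤ) : ℂ)) (ic _))).add
          ((gC.mul_left (z := ((4 : ℤ) : ℂ) * ω) ((ic _).mul iω)).add
            (gD.mul_left (z := ((4 : ℤ) : ℂ) * ω ^ 2) ((ic _).mul (iω.pow 2))))) using 1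
        · push_cast; ring
        · push_cast
          linear_combination (-(8 * (deg χ : ℂ) + 24 * (χ : G → ℂ) D.v) - 32 * (χ : G → ℂ) D.s -
            32 * (χ : G → ℂ) D.s⁻¹) * hw1
  obtain ⟨lam, lam', il, il', hcase, hsep⟩ := hsep
  have hcancel : ∀ {χ : IrrCharacter G} {a b : ℂ} {Na Nb : ℤ}, IsIntegral ℤ a → IsIntegral ℤ b →
      Cg M ((omega χ (D.y * D.s) - a) * (Na : ℂ)) 0 → Cg M ((omega χ (D.y * D.s) - b) * (Nb : ℂ)) 0 →
      ¬ (5 : ℤ) ∣ Na → ¬ (5 : ℤ) ∣ Nb → Cg M (b - a) 0 := fun {χ a b Na Nb} ha hb h1 h2 n1 n2 => by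
    have c1 := (Cg.mul_eq_zero hM ((iw χ).sub ha) (ic _) h1).resolve_right fun h => n1 ((d5 _).1 h)
    have c2 := (Cg.mul_eq_zero hM ((iw χ).sub hb) (ic _) h2).resolve_right fun h => n2 ((d5 _).1 h)
    have h := c1.sub c2
    rwa [sub_self, show omega χ (D.y * D.s) - a - (omega χ (D.y * D.s) - b) = b - a by ring] at h
  have hlam : ¬ Cg M (lam - 16) 0 ∧ ¬ Cg M (lam - 0) 0 ∧ ¬ Cg M (lam' - 16) 0 ∧ ¬ Cg M (lam' - 0) 0 ∧
      (D.t = D.s → ¬ Cg M (lam' - lam) 0) := by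
    have bad : ∀ {a : ℂ} (z : ℂ) (r : ℤ), IsIntegral ℤ z → z * a = (r : ℂ) → ¬ (5 : ℤ) ∣ r → ¬ Cg M a 0 :=
      fun {a} z r hz e hr h => hr ((d5 r).1 (by have := h.mul_left hz; rwa [e, mul_zero] at this))
    have hsne : D.s ≠ D.s⁻¹ := fun e => by
      have h2 : D.s ^ 2 = 1 := by rw [pow_two]; nth_rewrite 2 [e]; exact mul_inv_cancel _
      have := orderOf_dvd_of_pow_eq_one h2
      rw [hs] at this
      norm_num at this
    rcases hcase with ⟨ht, rfl, rfl⟩ | ⟨ht, rfl, rfl⟩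
    · exact ⟨bad 1 (-24) (by simpa using ic 1) (by norm_num) (by norm_num),
        bad 1 (-8) (by simpa using ic 1) (by norm_num) (by norm_num),
        bad 1 (-24) (by simpa using ic 1) (by norm_num) (by norm_num),
        bad 1 (-8) (by simpa using ic 1) (by norm_num) (by norm_num),
        fun e => absurd (e.symm.trans ht) hsne⟩
    · refine ⟨bad (ω ^ 2 - 1) 48 ((iω.pow 2).sub (by simpa using ic 1)) ?_ (by norm_num),
        bad (ω ^ 2) 16 (iω.pow 2) ?_ (by norm_num),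
        bad (ω - 1) 48 (iω.sub (by simpa using ic 1)) ?_ (by norm_num), bad ω 16 iω ?_ (by norm_num),
        fun _ => bad (ω - ω ^ 2) 48 (iω.sub (iω.pow 2)) ?_ (by norm_num)⟩ <;> push_cast
      · linear_combination 16 * hw3 - 16 * hw1
      · linear_combination 16 * hw3
      · linear_combination 16 * hw3 - 16 * hw1
      · linear_combination 16 * hw3
      · linear_combination 32 * hw3 - 16 * hw1 - 16 * ω * hw3
  have i16 : IsIntegral ℤ (16 : ℂ) := by simpa using ic 16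
  have i0 : IsIntegral ℤ (0 : ℂ) := by simpa using ic 0
  have hs3' : ∀ χ, Cg M ((omega χ (D.y * D.s) - 0) * (N3 χ : ℂ)) 0 := fun χ => by
    rw [sub_zero]; exact (hsep χ).2.1
  have x13 : ∀ χ, ¬ (5 : ℤ) ∣ N1 χ → (5 : ℤ) ∣ N3 χ := fun χ h => by
    by_contra h'
    have := hcancel i16 i0 (hsep χ).1 (hs3' χ) h h'
    rw [zero_sub] at this
    have := (d5 (-16)).1 (by simpa using this)
    norm_num at this
  have xw1 : ∀ χ, ¬ (5 : ℤ) ∣ Nw χ → (5 : ℤ) ∣ N1 χ := fun χ h => by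
    by_contra h'; exact hlam.1 (hcancel i16 il (hsep χ).1 (hsep χ).2.2.1 h' h)
  have xw3 : ∀ χ, ¬ (5 : ℤ) ∣ Nw χ → (5 : ℤ) ∣ N3 χ := fun χ h => by
    by_contra h'; exact hlam.2.1 (hcancel i0 il (hs3' χ) (hsep χ).2.2.1 h' h)
  have xv1 : ∀ χ, ¬ (5 : ℤ) ∣ Nw' χ → (5 : ℤ) ∣ N1 χ := fun χ h => by
    by_contra h'; exact hlam.2.2.1 (hcancel i16 il' (hsep χ).1 (hsep χ).2.2.2 h' h)
  have xv3 : ∀ χ, ¬ (5 : ℤ) ∣ Nw' χ → (5 : ℤ) ∣ N3 χ := fun χ h => by
    by_contra h'; exact hlam.2.2.2.1 (hcancel i0 il' (hs3' χ) (hsep χ).2.2.2 h' h)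
  -- the sets
  have hu1b : ∀ χ, -2 ≤ u₁ χ ∧ u₁ χ ≤ 2 := fun χ => by
    have := n1 ▸ Finset.single_le_sum (fun j _ => mul_self_nonneg (u₁ j)) (Finset.mem_univ χ)
    constructor <;> nlinarith
  have hu3b : ∀ χ, -2 ≤ U₃ χ ∧ U₃ χ ≤ 2 := fun χ => by
    have := n3 ▸ Finset.single_le_sum (fun j _ => mul_self_nonneg (U₃ j)) (Finset.mem_univ χ)
    constructor <;> nlinarith
  have hP1 : ∀ χ, u₁ χ ≠ 0 ↔ ¬ (5 : ℤ) ∣ N1 χ := fun χ => by
    have := h51 χ; have := hu1b χ; omega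
  have hP3 : ∀ χ, U₃ χ ≠ 0 ↔ ¬ (5 : ℤ) ∣ N3 χ := fun χ => by
    have := h53 χ; have := hu3b χ; simp only [hN3def]; omega
  have hone : ∀ g : G, ((CfsgLib.Char.irrOne : IrrCharacter G) : G → ℂ) g = 1 := fun g => rfl
  have o1 : u₁ CfsgLib.Char.irrOne = 1 := by
    have := f1 CfsgLib.Char.irrOne
    simp only [hL, hone] at this
    norm_num at this
    exact_mod_cast this
  have o3 : U₃ CfsgLib.Char.irrOne = 0 := by
    have := f3 CfsgLib.Char.irrOne
    simp only [hL, hone] at this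
    norm_num at this
    exact_mod_cast this
  have ow : uw CfsgLib.Char.irrOne = 0 ∧ vw CfsgLib.Char.irrOne = 0 := by
    have h : cPhi (uw CfsgLib.Char.irrOne) (vw CfsgLib.Char.irrOne) = cPhi 0 0 := by
      rw [fw]; simp only [hL, hone]; rw [show cPhi 0 0 = 0 by simp [cPhi]]
      linear_combination hw1 / 3
    exact cPhi_inj h
  have hd1 : deg (CfsgLib.Char.irrOne : IrrCharacter G) = 1 := deg_irrOne
  obtain ⟨P, hPm, hPin⟩ := list_P u₁ deg CfsgLib.Char.irrOne o1 hd1 n1 r1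
    (fun χ hχ => by
      have h := (hP1 χ).1 hχ
      have := h51 χ
      have := hdeg χ
      have := x13 χ h
      have : (5 : ℤ) ∣ Nw χ := by by_contra h'; exact h (xw1 χ h')
      have : (5 : ℤ) ∣ Nw' χ := by by_contra h'; exact h (xv1 χ h')
      omega) deg_pos hcand
  obtain ⟨F, hFm, hFs⟩ := list_F U₃ deg n3 r3
    (fun χ hχ => by
      have h := (hP3 χ).1 hχ
      have h53' := h53 χ
      have := hdeg χ
      have : (5 : ℤ) ∣ N1 χ := by by_contra h'; exact h (x13 χ h')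
      have : (5 : ℤ) ∣ Nw χ := by by_contra h'; exact h (xw3 χ h')
      have : (5 : ℤ) ∣ Nw' χ := by by_contra h'; exact h (xv3 χ h')
      simp only [hN3def] at *
      omega) deg_pos (fun χ hχ => hcand χ fun e => hχ (e ▸ o3))
  obtain ⟨W, hWd, hW5, hWin⟩ : ∃ W : Finset (IrrCharacter G),
      (∀ χ ∈ W, ¬ (5 : ℤ) ∣ Nw χ ∨ ¬ (5 : ℤ) ∣ Nw' χ) ∧
      (∀ χ ∉ W, (5 : ℤ) ∣ Nw χ ∧ (5 : ℤ) ∣ Nw' χ) ∧ Search.inW (dlist deg W) = true := by
    have h5v : ∀ χ, (5 : ℤ) ∣ Nw' χ + 2 * (uw (σ χ) + vw (σ χ)) := fun χ => h5w (σ χ)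
    rcases hcase with ⟨ht, -, -⟩ | ⟨ht, -, -⟩
    · -- the normalizer inverts `s`
      rw [ht] at hys2 hys2'
      rw [inv_inv] at hys2'
      have hvu : ∀ χ, vw χ = uw (σ χ) ∧ uw χ = vw (σ χ) := fun χ => by
        have h : cPhi (vw χ) (uw χ) = cPhi (uw (σ χ)) (vw (σ χ)) := by
          rw [fwσ]
          simp only [huwdef, hvwdef, hL]
          rw [← cPhi_sub, cPhi_self]
          have h2 := hcω2 χ
          rw [← hcl χ hys2, ← hcl χ hys2'] at h2
          linear_combination h2 / 3 - hc3 χ / 4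
        exact cPhi_inj h
      have h2 : ∑ χ, cPhi (uw χ) (vw χ) * cPhi (vw χ) (uw χ) = 0 := by
        rw [← nw2]
        exact Finset.sum_congr rfl fun χ _ => by rw [← (hvu χ).1, ← (hvu χ).2]
      obtain ⟨hS, hT⟩ := norms_five σ hσ uw vw (fun χ => (hvu χ).1) nw1 h2
      obtain ⟨X, θ, e, hX, hθ, hθ', hθne, hXv, he1, hUθ, hVθ, hUc, hVc, hout⟩ :=
        shape_pair σ hσ uw vw (fun χ => (hvu χ).1) hS hT
      have hsum : ∀ χ, uw (σ χ) + vw (σ χ) = uw χ + vw χ := fun χ => by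
        rw [← (hvu χ).1, ← (hvu χ).2]; ring
      refine ⟨insert θ (insert (σ θ) X), fun χ hχ => Or.inl ?_, fun χ hχ => ?_, ?_⟩
      · have := h5w χ
        simp only [Finset.mem_insert] at hχ
        rcases hχ with rfl | rfl | hχ
        · rw [hUθ, hVθ] at this; omega
        · rw [hUc, hVc] at this; omega
        · obtain ⟨a, b⟩ := hXv χ hχ; rw [b] at this; omega
      · simp only [Finset.mem_insert, not_or] at hχ
        obtain ⟨a, b⟩ := hout χ hχ.2.2 hχ.1 hχ.2.1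
        have := h5w χ
        have := h5v χ
        rw [hsum χ] at this
        rw [a, b] at *
        omega
      · have hnw : ∀ χ, uw χ + vw χ ≠ 0 → -2 ≤ uw χ + vw χ → uw χ + vw χ ≤ 2 →
            (5 : ℤ) ∣ (deg χ : ℤ) - (uw χ + vw χ) := fun χ h0 h1 h2 => by
          have a := h5w χ
          have b := h5v χ
          rw [hsum χ] at b
          have := hdeg χ
          have hne : ¬ (5 : ℤ) ∣ Nw χ := by omega
          have := xw1 χ hne
          have := xw3 χ hne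
          omega
        refine mixed_list deg uw hX hθ hθ' hθne (fun χ h => (hXv χ h).1) he1 ?_ ?_ (hσd θ) ?_ ?_
          (deg_pos θ)
        · intro χ h
          obtain ⟨a, b⟩ := hXv χ h
          have := hnw χ (by omega) (by omega) (by omega)
          omega
        · have := hnw θ (by omega) (by omega) (by omega)
          omega
        · have h := rw0
          rw [← Finset.sum_subset (Finset.subset_univ (insert θ (insert (σ θ) X))) (fun χ _ hχ => by
              simp only [Finset.mem_insert, not_or] at hχ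
              rw [(hout χ hχ.2.2 hχ.1 hχ.2.1).1, mul_zero]),
            Finset.sum_insert (by simp [hθ, hθne.symm]), Finset.sum_insert hθ', hUθ, hUc] at h
          rw [Finset.sum_congr rfl (g := fun χ => (deg χ : ℤ) * uw χ) fun χ _ => mul_comm _ _]
          linarith
        · intro χ h
          refine hcand χ fun e' => ?_
          subst e'
          rcases Finset.mem_insert.1 h with h | h
          · rw [← h, ow.1] at hUθ; omega
          · have := (hXv _ h).1; rw [ow.1] at this; omega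
    · -- the normalizer fixes `s`
      rw [ht] at hys2 hys2'
      have huv : ∀ χ, vw χ = uw χ := fun χ => by
        have h : cPhi (vw χ) (uw χ) = cPhi (uw χ) (vw χ) := by
          rw [fw]
          simp only [huwdef, hvwdef, hL]
          rw [← cPhi_sub, cPhi_self]
          have h2 := hcω2 χ
          rw [← hcl χ hys2, ← hcl χ hys2'] at h2
          linear_combination h2 / 3 - hc3 χ / 4
        exact (cPhi_inj h).1
      have hS : ∑ χ, uw χ * uw χ = 5 := by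
        have h : ((∑ χ, uw χ * uw χ : ℤ) : ℂ) = ((5 : ℤ) : ℂ) := by
          push_cast
          rw [← nw1]
          exact Finset.sum_congr rfl fun χ _ => by rw [huv, cPhi_self]
        exact_mod_cast h
      have hb : ∀ χ, -2 ≤ uw χ ∧ uw χ ≤ 2 := fun χ => by
        have := hS ▸ Finset.single_le_sum (fun j _ => mul_self_nonneg (uw j)) (Finset.mem_univ χ)
        constructor <;> nlinarith
      have hiff : ∀ χ, (uw χ ≠ 0 ↔ ¬ (5 : ℤ) ∣ Nw χ) ∧ (uw (σ χ) ≠ 0 ↔ ¬ (5 : ℤ) ∣ Nw' χ) := fun χ => by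
        have a := h5w χ
        have b := h5v χ
        rw [huv] at a b
        have := hb χ
        have := hb (σ χ)
        omega
      have hex : ∀ χ, uw χ ≠ 0 → uw (σ χ) = 0 := fun χ h => by
        by_contra h'
        exact hlam.2.2.2.2 ht (hcancel il il' (hsep χ).2.2.1 (hsep χ).2.2.2 ((hiff χ).1.1 h) ((hiff χ).2.1 h'))
      obtain ⟨W, hWm, hWin⟩ := list_W uw deg σ hσ hσd hex hS rw0
        (fun χ hχ => by
          have h := (hiff χ).1.1 hχ
          have a := h5w χ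
          rw [huv] at a
          have := hdeg χ
          have := xw1 χ h
          have := xw3 χ h
          have : (5 : ℤ) ∣ Nw' χ := by by_contra h'; exact (hiff χ).2.2 h' (hex χ hχ)
          omega) deg_pos (fun χ hχ => hcand χ fun e => hχ (e ▸ ow.1))
      refine ⟨W, fun χ hχ => ((hWm χ).1 hχ).imp (hiff χ).1.1 (hiff χ).2.1, fun χ hχ => ?_, hWin⟩
      have h := fun h => hχ ((hWm χ).2 h)
      exact ⟨not_not.1 fun h' => h (Or.inl ((hiff χ).1.2 h')), not_not.1 fun h' => h (Or.inr ((hiff χ).2.2 h'))⟩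
  exact ⟨{
    P := P, F := F, W := W
    one_mem := (hPm _).2 (by omega)
    disjPF := Finset.disjoint_left.2 fun χ a b => (hP3 χ).1 ((hFm χ).1 b) (x13 χ ((hP1 χ).1 ((hPm χ).1 a)))
    disjPW := Finset.disjoint_left.2 fun χ a b =>
      (hWd χ b).elim (fun h => (hP1 χ).1 ((hPm χ).1 a) (xw1 χ h)) fun h => (hP1 χ).1 ((hPm χ).1 a) (xv1 χ h)
    disjFW := Finset.disjoint_left.2 fun χ a b =>
      (hWd χ b).elim (fun h => (hP3 χ).1 ((hFm χ).1 a) (xw3 χ h)) fun h => (hP3 χ).1 ((hFm χ).1 a) (xv3 χ h)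
    out := fun χ h => by
      rw [Finset.notMem_union, Finset.notMem_union, hPm, hFm] at h
      have := hdeg χ
      have := hW5 χ h.2
      have a : (5 : ℤ) ∣ N1 χ := not_not.1 fun e => h.1.1 ((hP1 χ).2 e)
      have b : (5 : ℤ) ∣ N3 χ := not_not.1 fun e => h.1.2 ((hP3 χ).2 e)
      omega
    P_res := fun χ hχ => by
      have h := (hP1 χ).1 ((hPm χ).1 hχ)
      have := h51 χ
      have := hdeg χ
      have := x13 χ h
      have : (5 : ℤ) ∣ Nw χ := by by_contra h'; exact h (xw1 χ h')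
      have : (5 : ℤ) ∣ Nw' χ := by by_contra h'; exact h (xv1 χ h')
      have hu : u₁ χ = 1 ∨ u₁ χ = -1 := by
        have hb := hu1b χ
        by_contra hc
        push_neg at hc
        have hne := (hPm χ).1 hχ
        have hne1 : χ ≠ CfsgLib.Char.irrOne := fun e => hc.1 (e ▸ o1)
        have h2 : u₁ χ * u₁ χ = 4 := by
          rcases (by omega : u₁ χ = 2 ∨ u₁ χ = -2) with e | e <;> rw [e] <;> norm_num
        have hsum := Finset.add_sum_erase _ (fun j => u₁ j * u₁ j) (Finset.mem_univ χ)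
        rw [n1] at hsum
        have he0 : ∀ j, j ≠ χ → j ≠ CfsgLib.Char.irrOne → u₁ j = 0 := fun j hj hj' => by
          have hsum2 := Finset.add_sum_erase (Finset.univ.erase χ) (fun j => u₁ j * u₁ j)
            (Finset.mem_erase.2 ⟨fun e => hne1 e.symm, Finset.mem_univ (CfsgLib.Char.irrOne : IrrCharacter G)⟩)
          have h3 := Finset.single_le_sum (fun j _ => mul_self_nonneg (u₁ j))
            (Finset.mem_erase.2 ⟨hj', Finset.mem_erase.2 ⟨hj, Finset.mem_univ j⟩⟩)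
          rw [o1] at hsum2
          have h4 : u₁ j * u₁ j = 0 := by nlinarith [mul_self_nonneg (u₁ j)]
          exact mul_self_eq_zero.1 h4
        have hr := r1
        rw [← Finset.sum_subset (Finset.subset_univ ({χ, CfsgLib.Char.irrOne} : Finset (IrrCharacter G)))
            (fun j _ hj => by
              simp only [Finset.mem_insert, Finset.mem_singleton, not_or] at hj
              rw [he0 j hj.1 hj.2, mul_zero]),
          Finset.sum_pair hne1, o1, hd1] at hr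
        have := deg_pos χ
        rcases (by omega : u₁ χ = 2 ∨ u₁ χ = -2) with e | e <;> rw [e] at hr <;> omega
      omega
    inP := hPin
    F_spec := hFs
    inW := hWin }⟩

end CfsgLib.MTwentyFourUnique
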