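import Cfsg.Agent.Lib.MTwentyFourUnique.SevenLocal
import Cfsg.Agent.Lib.MTwentyFourUnique.AvgCyclic
import Cfsg.Agent.Lib.MTwentyThreeUnique.Three
import Cfsg.Agent.Lib.MTwelveUnique.Common
import Mathlib

/-!
The rows at an element of order seven: three sets of five characters, one for each character of the
symmetric group of degree three.
-/

set_option autoImplicit false
set_option linter.style.haveILetI false

noncomputable section

namespace CfsgLib.MTwentyFourUnique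

open Subgroup Cfsg CfsgLib.InvolChar
open scoped ComplexConjugate
attribute [local instance] Classical.propDecidable

/-- The shape of an integral vector with the norms of a row at seven. -/
theorem shape_seven {ι : Type*} [Fintype ι] [DecidableEq ι] (σ : ι → ι) (hσ : ∀ i, σ (σ i) = i)
    (U V : ι → ℤ) (hUV : ∀ i, V i = U (σ i)) (hS : ∑ i, U i * U i = 4) (hT : ∑ i, U i * V i = 3) :
    ∃ (X : Finset ι) (θ : ι) (e : ℤ), X.card = 3 ∧ θ ∉ X ∧ σ θ ∉ X ∧ σ θ ≠ θ ∧
      (∀ i ∈ X, (U i = 1 ∨ U i = -1) ∧ V i = U i) ∧ (e = 1 ∨ e = -1) ∧ U θ = e ∧ V θ = 0 ∧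
      U (σ θ) = 0 ∧ V (σ θ) = e ∧ ∀ i, i ∉ X → i ≠ θ → i ≠ σ θ → U i = 0 ∧ V i = 0 := by
  have hS' : ∑ i, V i * V i = 4 := by
    rw [← hS]
    exact Fintype.sum_bijective σ (Function.Involutive.bijective hσ) _ _ fun i => by rw [hUV]
  have hD : ∑ i, (U i - V i) * (U i - V i) = 2 := by
    have e : ∀ i, (U i - V i) * (U i - V i) = U i * U i + V i * V i - 2 * (U i * V i) := fun i => by ring
    rw [Finset.sum_congr rfl fun i _ => e i, Finset.sum_sub_distrib, Finset.sum_add_distrib,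
      ← Finset.mul_sum, hS, hS', hT]
    norm_num
  obtain ⟨p, hp⟩ : ∃ p, U p ≠ V p := by
    by_contra h
    push_neg at h
    rw [Finset.sum_eq_zero fun i _ => by rw [h i]; ring] at hD
    norm_num at hD
  have hσV : ∀ i, V (σ i) = U i := fun i => by rw [hUV, hσ]
  have hne : σ p ≠ p := fun e => hp (by rw [hUV p, e])
  have hDσ : (U (σ p) - V (σ p)) * (U (σ p) - V (σ p)) = (U p - V p) * (U p - V p) := by
    rw [← hUV p, hσV p]; ring
  have hsplit : ∀ F : ι → ℤ, ∑ i, F i = F p + F (σ p) + ∑ i ∈ (Finset.univ.erase p).erase (σ p), F i := by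
    intro F
    rw [← Finset.add_sum_erase _ F (Finset.mem_univ p),
      ← Finset.add_sum_erase (Finset.univ.erase p) F (Finset.mem_erase.2 ⟨hne, Finset.mem_univ _⟩), add_assoc]
  set R := (Finset.univ.erase p).erase (σ p) with hR
  have h1 : 1 ≤ (U p - V p) * (U p - V p) := by nlinarith [mul_self_pos.2 (sub_ne_zero.2 hp)]
  rw [hsplit, hDσ] at hD
  have hR0 : ∀ i ∈ R, U i = V i := fun i hi => by
    have h0 : ∑ j ∈ R, (U j - V j) * (U j - V j) = 0 := by
      have := Finset.sum_nonneg (s := R) fun j _ => mul_self_nonneg (U j - V j)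
      omega
    have := (Finset.sum_eq_zero_iff_of_nonneg fun j _ => mul_self_nonneg (U j - V j)).1 h0 i hi
    exact sub_eq_zero.1 (mul_self_eq_zero.1 this)
  rw [hsplit] at hS hT
  rw [Finset.sum_congr rfl (g := fun i => U i * U i) fun i hi => by rw [hR0 i hi]] at hT
  rw [← hUV p, hσV p] at hT
  rw [← hUV p] at hS
  have hnn := Finset.sum_nonneg (s := R) fun j (_ : j ∈ R) => mul_self_nonneg (U j)
  have hd1 : U p - V p = 1 ∨ U p - V p = -1 := by
    have h2 : (U p - V p) * (U p - V p) = 1 := by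
      have := Finset.sum_nonneg (s := R) fun j _ => mul_self_nonneg (U j - V j)
      omega
    exact mul_self_eq_one_iff.1 h2
  have hb : -2 ≤ U p ∧ U p ≤ 2 := by constructor <;> nlinarith [mul_self_nonneg (V p)]
  have hcases : (U p = 0 ∧ (V p = 1 ∨ V p = -1)) ∨ (V p = 0 ∧ (U p = 1 ∨ U p = -1)) := by
    obtain ⟨b1, b2⟩ := hb
    rcases hd1 with h | h
    · have hv : V p = U p - 1 := by omega
      rw [hv] at hS hT ⊢
      interval_cases hu : U p <;> omega
    · have hv : V p = U p + 1 := by omega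
      rw [hv] at hS hT ⊢
      interval_cases hu : U p <;> omega
  have hUVp : U p * V p = 0 := by rcases hcases with h | h <;> simp [h.1]
  have hr : ∑ i ∈ R, U i * U i = 3 := by
    have := hUVp
    rw [mul_comm (V p) (U p), this] at hT
    omega
  have hsmall : ∀ i ∈ R, U i = 0 ∨ U i = 1 ∨ U i = -1 := fun i hi => by
    have := Finset.single_le_sum (fun j (_ : j ∈ R) => mul_self_nonneg (U j)) hi
    rw [hr] at this
    have : -1 ≤ U i ∧ U i ≤ 1 := by constructor <;> nlinarith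
    omega
  set X := R.filter fun i => U i ≠ 0 with hX
  have hXc : X.card = 3 := by
    have e : ∑ i ∈ R, U i * U i = ∑ i ∈ X, (1 : ℤ) := by
      rw [hX, Finset.sum_filter]
      exact Finset.sum_congr rfl fun i hi => by rcases hsmall i hi with h | h | h <;> simp [h]
    rw [hr] at e
    simp at e
    omega
  have hXR : ∀ i ∈ X, i ≠ p ∧ i ≠ σ p := fun i hi => by
    have := (Finset.mem_filter.1 hi).1
    simp only [hR, Finset.mem_erase] at this
    exact ⟨this.2.1, this.1⟩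
  have hXv : ∀ i ∈ X, (U i = 1 ∨ U i = -1) ∧ V i = U i := fun i hi => by
    obtain ⟨h, h'⟩ := Finset.mem_filter.1 hi
    exact ⟨(hsmall i h).resolve_left h', (hR0 i h).symm⟩
  have hout : ∀ i, i ∉ X → i ≠ p → i ≠ σ p → U i = 0 ∧ V i = 0 := fun i h h' h'' => by
    have hi : i ∈ R := by simp [hR, h', h'']
    have : U i = 0 := by
      by_contra hc
      exact h (Finset.mem_filter.2 ⟨hi, hc⟩)
    exact ⟨this, (hR0 i hi).symm.trans this⟩
  rcases hcases with ⟨h0, h⟩ | ⟨h0, h⟩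
  · refine ⟨X, σ p, V p, hXc, fun h => (hXR _ h).2 rfl, by rw [hσ]; exact fun h => (hXR _ h).1 rfl,
      by rw [hσ]; exact hne.symm, hXv, h, (hUV p).symm, by rw [hσV, h0], by rw [hσ]; exact h0,
      by rw [hσ], fun i a b c => ?_⟩
    rw [hσ] at c
    exact hout i a c b
  · refine ⟨X, p, U p, hXc, fun h => (hXR _ h).1 rfl, fun h => (hXR _ h).2 rfl, hne, hXv, h, rfl, h0,
      by rw [← hUV]; exact h0, hσV p, hout⟩

variable {G : Type*} [Group G] [Fintype G]

/-- A row set at seven for a character of degree `φ` of the symmetric group. -/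
structure Row (G : Type*) [Group G] [Fintype G] (φ : ℕ) where
  /-- non-exceptional -/
  X : Finset (IrrCharacter G)
  /-- exceptional -/
  θ : IrrCharacter G
  /-- signs -/
  u : IrrCharacter G → ℤ
  /-- the exceptional sign -/
  e : ℤ
  card_X : X.card = 3
  notMem : θ ∉ X
  conj_notMem : CfsgLib.Char.irrConj θ ∉ X
  conj_ne : CfsgLib.Char.irrConj θ ≠ θ
  u_sq : ∀ χ ∈ X, u χ = 1 ∨ u χ = -1
  e_sq : e = 1 ∨ e = -1
  deg_X : ∀ χ ∈ X, (7 : ℤ) ∣ (deg χ : ℤ) - u χ * φ
  deg_θ : (7 : ℤ) ∣ (deg θ : ℤ) + 3 * e * φ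
  rel : ∑ χ ∈ X, u χ * (deg χ : ℤ) + e * (deg θ : ℤ) = 0

/-- The five characters of a row set. -/
def Row.all {φ : ℕ} (R : Row G φ) : Finset (IrrCharacter G) :=
  insert R.θ (insert (CfsgLib.Char.irrConj R.θ) R.X)

theorem Row.sum_all {φ : ℕ} (R : Row G φ) {A : Type*} [AddCommMonoid A] (F : IrrCharacter G → A) :
    ∑ χ ∈ R.all, F χ = F R.θ + (F (CfsgLib.Char.irrConj R.θ) + ∑ χ ∈ R.X, F χ) := by
  rw [Row.all, Finset.sum_insert (by simp [R.notMem, R.conj_ne.symm]), Finset.sum_insert R.conj_notMem]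

/-- The three row sets, with the values at the element of order seven. -/
structure SevenRows (S : SevenData G) where
  /-- of the trivial character -/
  A : Row G 1
  /-- of the sign character -/
  B : Row G 1
  /-- of the character of degree two -/
  C : Row G 2
  one_mem : CfsgLib.Char.irrOne ∈ A.X
  disjAB : Disjoint A.all B.all
  disjAC : Disjoint A.all C.all
  disjBC : Disjoint B.all C.all
  out : ∀ χ, χ ∉ A.all ∪ B.all ∪ C.all → (χ : G → ℂ) S.x = 0 ∧ 7 ∣ deg χ
  not_dvd : ∀ χ ∈ A.all ∪ B.all ∪ C.all, ¬ 7 ∣ deg χ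
  val_A : ∀ χ ∈ A.X, (χ : G → ℂ) S.x = (A.u χ : ℂ)
  val_B : ∀ χ ∈ B.X, (χ : G → ℂ) S.x = (B.u χ : ℂ)
  val_C : ∀ χ ∈ C.X, (χ : G → ℂ) S.x = 2 * (C.u χ : ℂ)
  val_Aθ : (A.θ : G → ℂ) S.x = -(A.e : ℂ) * eta
  val_Bθ : (B.θ : G → ℂ) S.x = -(B.e : ℂ) * eta
  val_Cθ : (C.θ : G → ℂ) S.x = -2 * (C.e : ℂ) * eta

/-- The coordinates of a complex number. -/
theorem cEta_add (U V U' V' : ℤ) : cEta U V + cEta U' V' = cEta (U + U') (V + V') := by
  simp [cEta]; ring

theorem cEta_sub (U V U' V' : ℤ) : cEta U V - cEta U' V' = cEta (U - U') (V - V') := by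
  simp [cEta]; ring

theorem cEta_sum {ι : Type*} (s : Finset ι) (U V : ι → ℤ) (w : ι → ℤ) :
    ∑ i ∈ s, (w i : ℂ) * cEta (U i) (V i) = cEta (∑ i ∈ s, w i * U i) (∑ i ∈ s, w i * V i) := by
  simp only [cEta, Int.cast_sum, Int.cast_mul, Finset.sum_mul, neg_mul, ← Finset.sum_sub_distrib,
    ← Finset.sum_neg_distrib]
  exact Finset.sum_congr rfl fun i _ => by ring

/-- The two norms of a vector in the coordinates. -/
theorem norms_seven {ι : Type*} [Fintype ι] (U V : ι → ℤ)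
    (h1 : ∑ i, cEta (U i) (V i) * conj (cEta (U i) (V i)) = 7)
    (h2 : ∑ i, cEta (U i) (V i) * cEta (U i) (V i) = 0) :
    ∑ i, U i * U i = 4 ∧ ∑ i, U i * V i = 3 := by
  set S := ∑ i, U i * U i with hS
  set S' := ∑ i, V i * V i with hS'
  set T := ∑ i, U i * V i with hT
  have e1 : ∑ i, cEta (U i) (V i) * conj (cEta (U i) (V i)) =
      2 * (S : ℂ) + 2 * (S' : ℂ) - 3 * (T : ℂ) := by
    rw [hS, hS', hT]
    push_cast
    rw [Finset.mul_sum, Finset.mul_sum, Finset.mul_sum, ← Finset.sum_add_distrib, ← Finset.sum_sub_distrib]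
    refine Finset.sum_congr rfl fun i _ => ?_
    rw [conj_cEta, cEta, cEta]
    linear_combination ((U i : ℂ) * U i + (V i : ℂ) * V i - 2 * ((U i : ℂ) * V i)) * eta_mul +
      ((U i : ℂ) * V i) * (eta + conj eta - 1) * eta_add
  have e2 : ∑ i, cEta (U i) (V i) * cEta (U i) (V i) =
      -2 * (S : ℂ) - 2 * (S' : ℂ) + 4 * (T : ℂ) + cEta S S' := by
    rw [hS, hS', hT, cEta]
    push_cast
    simp only [Finset.mul_sum, Finset.sum_mul, neg_mul, ← Finset.sum_add_distrib, ← Finset.sum_sub_distrib,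
      ← Finset.sum_neg_distrib]
    refine Finset.sum_congr rfl fun i _ => ?_
    rw [cEta]
    have hc : conj eta * conj eta = -2 - conj eta := by linear_combination conj eta * eta_add - eta_mul
    linear_combination ((U i : ℂ) * U i) * eta_sq + ((V i : ℂ) * V i) * hc +
      (2 * ((U i : ℂ) * V i)) * eta_mul
  rw [e1] at h1
  rw [e2] at h2
  have h3 : cEta S S' = cEta (2 * S + 2 * S' - 4 * T) (2 * S + 2 * S' - 4 * T) := by
    rw [cEta_self]; push_cast; linear_combination h2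
  obtain ⟨a, b⟩ := cEta_inj h3
  have c : 2 * S + 2 * S' - 3 * T = 7 := by exact_mod_cast h1
  omega

/-- The rows exist. -/
theorem exists_sevenRows (S : SevenData G) : Nonempty (SevenRows S) := by
  classical
  obtain ⟨x, t, s, n, hx, ht, hs, xt, xs, tst, invs, cx, cxt, cxs, nx, nt, ns, hninv⟩ := S
  haveI : Fact (Nat.Prime 7) := ⟨by norm_num⟩
  obtain ⟨M, hM⟩ := CfsgLib.Blocks.exists_isPModular (p := 7) (by norm_num)
  have hx7 : x ^ 7 = 1 := hx ▸ pow_orderOf_eq_one x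
  have ht2 : t * t = 1 := by rw [← pow_two, ← ht]; exact pow_orderOf_eq_one t
  have hs3 : s ^ 3 = 1 := hs ▸ pow_orderOf_eq_one s
  have hss : s * s = s⁻¹ := (inv_eq_of_mul_eq_one_left (by rw [← pow_two, ← pow_succ, hs3])).symm
  have hcl : ∀ (χ : IrrCharacter G) {a b : G}, IsConj a b → (χ : G → ℂ) a = (χ : G → ℂ) b :=
    fun χ _ _ h => CfsgLib.MTwelveUnique.eq_of_isConj χ h
  have hsinv : ∀ (χ : IrrCharacter G), (χ : G → ℂ) s⁻¹ = (χ : G → ℂ) s :=
    fun χ => (hcl χ (isConj_iff.2 ⟨t, tst⟩)).symm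
  have hxsinv : ∀ (χ : IrrCharacter G), (χ : G → ℂ) (x * s⁻¹) = (χ : G → ℂ) (x * s) :=
    fun χ => (hcl χ (isConj_iff.2 ⟨t, by
      rw [← mul_assoc, ← xt.eq, mul_assoc x t s, mul_assoc, tst]⟩)).symm
  have hx2t : ∀ χ : IrrCharacter G, (χ : G → ℂ) (x ^ 2 * t) = (χ : G → ℂ) (x * t) :=
    fun χ => (hcl χ (isConj_iff.2 ⟨n, by
      rw [show n * (x * t) * n⁻¹ = (n * x * n⁻¹) * (n * t * n⁻¹) by group, nx, nt]⟩)).symm
  have hx2s : ∀ χ : IrrCharacter G, (χ : G → ℂ) (x ^ 2 * s) = (χ : G → ℂ) (x * s) ∧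
      (χ : G → ℂ) (x ^ 2 * s⁻¹) = (χ : G → ℂ) (x * s) := fun χ => by
    have e1 : IsConj (x * s) (x ^ 2 * (n * s * n⁻¹)) := isConj_iff.2 ⟨n, by
      rw [show n * (x * s) * n⁻¹ = (n * x * n⁻¹) * (n * s * n⁻¹) by group, nx]⟩
    have e2 : IsConj (x ^ 2 * s) (x ^ 2 * s⁻¹) := isConj_iff.2 ⟨t, by
      rw [← mul_assoc, ← (xt.pow_left 2).eq, mul_assoc (x ^ 2) t s, mul_assoc, tst]⟩
    rcases ns with h | h <;> rw [h] at e1
    · exact ⟨(hcl χ e1).symm, (hcl χ (e1.trans e2)).symm⟩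
    · exact ⟨(hcl χ (e1.trans e2.symm)).symm, (hcl χ e1).symm⟩
  have hw : IsPrimitiveRoot (zeta 3) 3 := zeta_prim 3
  have hw3 : zeta 3 ^ 3 = 1 := hw.pow_eq_one
  have hw1 : 1 + zeta 3 + zeta 3 ^ 2 = 0 := by
    have h := hw.geom_sum_eq_zero (by norm_num : 1 < 3)
    simpa [Finset.sum_range_succ] using h
  have hw0 : zeta 3 ≠ 0 := hw.ne_zero (by norm_num)
  have hwi : (zeta 3)⁻¹ = zeta 3 ^ 2 := inv_eq_of_mul_eq_one_right (by rw [← pow_succ', hw3])
  -- the three projections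
  have hT1 : ∀ χ : IrrCharacter G, ∃ (U V : ℤ) (m : ℕ), 3 * cEta U V = (χ : G → ℂ) x - (χ : G → ℂ) (x * s) ∧
      (3 : ℂ) * m = (deg χ : ℂ) - (χ : G → ℂ) s ∧ (7 : ℤ) ∣ (m : ℤ) + 3 * (U + V) := fun χ => by
    obtain ⟨m, z, hz, hk⟩ := exists_roots_cyclic (CfsgLib.Char.isCharacter_of_isIrr χ.2) x s xs
      (w := zeta 3) (by rw [hs]; exact hw3)
    rw [hx] at hz
    have k0 := hk 0
    have k1 := hk 1
    have k2 := hk 2
    rw [hs] at k0 k1 k2
    simp [Finset.sum_range_succ, pow_two s, hss, hwi] at k0 k1 k2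
    rw [hsinv χ, deg_spec] at k0
    rw [hxsinv χ] at k1
    rw [(hx2s χ).1, (hx2s χ).2, hcl χ (isConj_iff.2 ⟨n, nx⟩ : IsConj x (x ^ 2)).symm] at k2
    have he : (zeta 3 ^ 2)⁻¹ = zeta 3 := inv_eq_of_mul_eq_one_right (by rw [← pow_succ, hw3])
    rw [he] at k0 k1 k2
    obtain ⟨U, V, hU, h7⟩ := exists_cEta z hz (mul_left_cancel₀ (three_ne_zero' ℂ) (by rw [k1, k2]))
    exact ⟨U, V, m, by rw [← hU, k1]; linear_combination (χ : G → ℂ) (x * s) * hw1,
      by rw [k0]; linear_combination (χ : G → ℂ) s * hw1, h7⟩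
  have hTp : ∀ χ : IrrCharacter G, ∃ (U V : ℤ) (m : ℕ), 2 * cEta U V = (χ : G → ℂ) x + (χ : G → ℂ) (x * t) ∧
      (2 : ℂ) * m = (deg χ : ℂ) + (χ : G → ℂ) t ∧ (7 : ℤ) ∣ (m : ℤ) + 3 * (U + V) := fun χ => by
    obtain ⟨m, z, hz, hk⟩ := exists_roots_cyclic (CfsgLib.Char.isCharacter_of_isIrr χ.2) x t xt
      (w := 1) (by rw [one_pow])
    rw [hx] at hz
    have k0 := hk 0
    have k1 := hk 1
    have k2 := hk 2
    rw [ht] at k0 k1 k2
    simp [Finset.sum_range_succ] at k0 k1 k2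
    rw [deg_spec] at k0
    rw [hx2t χ, hcl χ (isConj_iff.2 ⟨n, nx⟩ : IsConj x (x ^ 2)).symm] at k2
    obtain ⟨U, V, hU, h7⟩ := exists_cEta z hz (mul_left_cancel₀ (two_ne_zero' ℂ) (by rw [k1, k2]))
    exact ⟨U, V, m, by rw [← hU, k1], k0, h7⟩
  have hTm : ∀ χ : IrrCharacter G, ∃ (U V : ℤ) (m : ℕ), 2 * cEta U V = (χ : G → ℂ) x - (χ : G → ℂ) (x * t) ∧
      (2 : ℂ) * m = (deg χ : ℂ) - (χ : G → ℂ) t ∧ (7 : ℤ) ∣ (m : ℤ) + 3 * (U + V) := fun χ => by
    obtain ⟨m, z, hz, hk⟩ := exists_roots_cyclic (CfsgLib.Char.isCharacter_of_isIrr χ.2) x t xt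
      (w := -1) (by rw [ht]; norm_num)
    rw [hx] at hz
    have k0 := hk 0
    have k1 := hk 1
    have k2 := hk 2
    rw [ht] at k0 k1 k2
    simp [Finset.sum_range_succ] at k0 k1 k2
    rw [deg_spec] at k0
    rw [hx2t χ, hcl χ (isConj_iff.2 ⟨n, nx⟩ : IsConj x (x ^ 2)).symm] at k2
    obtain ⟨U, V, hU, h7⟩ := exists_cEta z hz (mul_left_cancel₀ (two_ne_zero' ℂ) (by rw [k1, k2]))
    exact ⟨U, V, m, by rw [← hU, k1]; ring, by rw [k0]; ring, h7⟩
  choose U₂ V₂ m₂ hc2 hm2 h72 using hT1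
  choose Up Vp mp hcp hmp h7p using hTp
  choose Um Vm mm hcm hmm h7m using hTm
  -- the coordinates for the three characters
  set U : Fin 3 → IrrCharacter G → ℤ :=
    ![fun χ => Up χ - U₂ χ, fun χ => Um χ - U₂ χ, fun χ => U₂ χ] with hUdef
  set V : Fin 3 → IrrCharacter G → ℤ :=
    ![fun χ => Vp χ - V₂ χ, fun χ => Vm χ - V₂ χ, fun χ => V₂ χ] with hVdef
  set N : Fin 3 → IrrCharacter G → ℤ :=
    ![fun χ => (mp χ : ℤ) - m₂ χ, fun χ => (mm χ : ℤ) - m₂ χ, fun χ => (m₂ χ : ℤ)] with hNdef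
  set c : Fin 3 → IrrCharacter G → ℂ := fun i χ => cEta (U i χ) (V i χ) with hcdef
  set co : Fin 3 → ℂ × ℂ × ℂ := ![(1/6, 1/2, 1/3), (1/6, -1/2, 1/3), (1/3, 0, -1/3)] with hcodef
  have hc : ∀ i χ, c i χ = (co i).1 * (χ : G → ℂ) x + (co i).2.1 * (χ : G → ℂ) (x * t) +
      (co i).2.2 * (χ : G → ℂ) (x * s) := fun i χ => by
    fin_cases i <;> simp [hcdef, hUdef, hVdef, hcodef, ← cEta_sub]
    · linear_combination hcp χ / 2 - hc2 χ / 3
    · linear_combination hcm χ / 2 - hc2 χ / 3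
    · linear_combination hc2 χ / 3
  have hN : ∀ i χ, (N i χ : ℂ) = (co i).1 * (deg χ : ℂ) + (co i).2.1 * (χ : G → ℂ) t +
      (co i).2.2 * (χ : G → ℂ) s := fun i χ => by
    fin_cases i <;> simp [hNdef, hcodef]
    · linear_combination hmp χ / 2 - hm2 χ / 3
    · linear_combination hmm χ / 2 - hm2 χ / 3
    · linear_combination hm2 χ / 3
  have hN7 : ∀ i χ, (7 : ℤ) ∣ N i χ + 3 * (U i χ + V i χ) := fun i χ => by
    have a := h72 χ
    have b := h7p χ
    have d := h7m χ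
    fin_cases i <;> simp [hNdef, hUdef, hVdef] <;> omega
  -- orthogonality
  have oxt : orderOf (x * t) = 14 := by
    rw [xt.orderOf_mul_eq_mul_orderOf_of_coprime (by rw [hx, ht]; norm_num), hx, ht]
  have oxs : orderOf (x * s) = 21 := by
    rw [xs.orderOf_mul_eq_mul_orderOf_of_coprime (by rw [hx, hs]; norm_num), hx, hs]
  have hne : ∀ {a b : G}, orderOf a ≠ orderOf b → ¬ IsConj a b := fun {a b} hab h => by
    obtain ⟨g, hg⟩ := isConj_iff.1 h
    exact hab (by rw [← hg]; exact (orderOf_injective (MulAut.conj g).toMonoidHom (MulAut.conj g).injective a).symm)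
  have hpow : ∀ {a : G} (k : ℕ), a ^ k = x → ¬ IsConj a a⁻¹ := fun {a} k hk h => by
    have h2 := h.pow k
    rw [inv_pow, hk] at h2
    exact hninv h2
  have hi : ∀ (χ : IrrCharacter G) (g : G), (χ : G → ℂ) g⁻¹ = conj ((χ : G → ℂ) g) :=
    fun χ g => CfsgLib.Char.char_inv (CfsgLib.Char.isCharacter_of_isIrr χ.2) g
  have orth : ∀ a b : G, ∑ χ : IrrCharacter G, (χ : G → ℂ) a * conj ((χ : G → ℂ) b) =
      if IsConj a b then (Nat.card (centralizer ({a} : Set G)) : ℂ) else 0 := fun a b =>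
    CfsgLib.Char.second_orthogonality a b
  have o1 : ∑ χ : IrrCharacter G, (χ : G → ℂ) x * conj ((χ : G → ℂ) x) = 42 := by
    rw [orth, if_pos (IsConj.refl x), cx]; norm_num
  have o2 : ∑ χ : IrrCharacter G, (χ : G → ℂ) (x * t) * conj ((χ : G → ℂ) (x * t)) = 14 := by
    rw [orth, if_pos (IsConj.refl _), cxt]; norm_num
  have o3 : ∑ χ : IrrCharacter G, (χ : G → ℂ) (x * s) * conj ((χ : G → ℂ) (x * s)) = 21 := by
    rw [orth, if_pos (IsConj.refl _), cxs]; norm_num
  have z0 : ∀ a b : G, ¬ IsConj a b → ∑ χ : IrrCharacter G, (χ : G → ℂ) a * conj ((χ : G → ℂ) b) = 0 :=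
    fun a b h => by rw [orth, if_neg h]
  have z0' : ∀ a b : G, ¬ IsConj a b⁻¹ → ∑ χ : IrrCharacter G, (χ : G → ℂ) a * (χ : G → ℂ) b = 0 :=
    fun a b h => by
      rw [← z0 a b⁻¹ h]
      exact Finset.sum_congr rfl fun χ _ => by rw [hi, Complex.conj_conj]
  have p8 : (x * t) ^ 8 = x := by
    rw [xt.mul_pow, show t ^ 8 = 1 by rw [show (8 : ℕ) = 2 * 4 from rfl, pow_mul, pow_two, ht2, one_pow],
      mul_one, ← pow_mod_orderOf, hx]; simp
  have p15 : (x * s) ^ 15 = x := by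
    rw [xs.mul_pow, show s ^ 15 = 1 by rw [show (15 : ℕ) = 3 * 5 from rfl, pow_mul, hs3, one_pow],
      mul_one, ← pow_mod_orderOf, hx]; simp
  have hnorm : ∀ i, ∑ χ, c i χ * conj (c i χ) = 7 ∧ ∑ χ, c i χ * c i χ = 0 := fun i => by
    have q1 := z0 x (x * t) (hne (by rw [hx, oxt]; norm_num))
    have q2 := z0 x (x * s) (hne (by rw [hx, oxs]; norm_num))
    have q3 := z0 (x * t) (x * s) (hne (by rw [oxt, oxs]; norm_num))
    have q1' := z0 (x * t) x (hne (by rw [hx, oxt]; norm_num))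
    have q2' := z0 (x * s) x (hne (by rw [hx, oxs]; norm_num))
    have q3' := z0 (x * s) (x * t) (hne (by rw [oxt, oxs]; norm_num))
    have r1 := z0' x x hninv
    have r2 := z0' (x * t) (x * t) (hpow 8 p8)
    have r3 := z0' (x * s) (x * s) (hpow 15 p15)
    have r4 := z0' x (x * t) (hne (by rw [hx, orderOf_inv, oxt]; norm_num))
    have r5 := z0' x (x * s) (hne (by rw [hx, orderOf_inv, oxs]; norm_num))
    have r6 := z0' (x * t) (x * s) (hne (by rw [oxt, orderOf_inv, oxs]; norm_num))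
    have key : ∀ α β γ : ℂ, conj α = α → conj β = β → conj γ = γ →
        (∑ χ : IrrCharacter G, (α * (χ : G → ℂ) x + β * (χ : G → ℂ) (x * t) + γ * (χ : G → ℂ) (x * s)) *
          conj (α * (χ : G → ℂ) x + β * (χ : G → ℂ) (x * t) + γ * (χ : G → ℂ) (x * s)) =
            α * α * 42 + β * β * 14 + γ * γ * 21) ∧
        (∑ χ : IrrCharacter G, (α * (χ : G → ℂ) x + β * (χ : G → ℂ) (x * t) + γ * (χ : G → ℂ) (x * s)) *
          (α * (χ : G → ℂ) x + β * (χ : G → ℂ) (x * t) + γ * (χ : G → ℂ) (x * s)) = 0) := by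
      intro α β γ ha hb hg
      constructor
      · simp only [map_add, map_mul, ha, hb, hg, mul_add, add_mul, Finset.sum_add_distrib, mul_mul_mul_comm α,
          mul_mul_mul_comm β, mul_mul_mul_comm γ, ← Finset.mul_sum, o1, o2, o3, q1, q2, q3, q1', q2', q3']
        ring
      · have e : ∀ χ : IrrCharacter G,
            (α * (χ : G → ℂ) x + β * (χ : G → ℂ) (x * t) + γ * (χ : G → ℂ) (x * s)) *
              (α * (χ : G → ℂ) x + β * (χ : G → ℂ) (x * t) + γ * (χ : G → ℂ) (x * s)) =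
            α * α * ((χ : G → ℂ) x * (χ : G → ℂ) x) + β * β * ((χ : G → ℂ) (x * t) * (χ : G → ℂ) (x * t)) +
            γ * γ * ((χ : G → ℂ) (x * s) * (χ : G → ℂ) (x * s)) +
            2 * α * β * ((χ : G → ℂ) x * (χ : G → ℂ) (x * t)) +
            2 * α * γ * ((χ : G → ℂ) x * (χ : G → ℂ) (x * s)) +
            2 * β * γ * ((χ : G → ℂ) (x * t) * (χ : G → ℂ) (x * s)) := fun χ => by ring
        simp only [e, Finset.sum_add_distrib, ← Finset.mul_sum, r1, r2, r3, r4, r5, r6]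
        ring
    have hreal : conj (co i).1 = (co i).1 ∧ conj (co i).2.1 = (co i).2.1 ∧ conj (co i).2.2 = (co i).2.2 := by
      fin_cases i <;> simp [hcodef, map_ofNat]
    obtain ⟨k1, k2⟩ := key _ _ _ hreal.1 hreal.2.1 hreal.2.2
    constructor
    · rw [Finset.sum_congr rfl fun χ _ => by rw [hc i χ], k1]
      fin_cases i <;> simp [hcodef] <;> norm_num
    · rw [Finset.sum_congr rfl fun χ _ => by rw [hc i χ], k2]
  have hswap : ∀ i χ, V i χ = U i (CfsgLib.Char.irrConj χ) := fun i χ => by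
    have hreal : conj (co i).1 = (co i).1 ∧ conj (co i).2.1 = (co i).2.1 ∧ conj (co i).2.2 = (co i).2.2 := by
      fin_cases i <;> simp [hcodef, map_ofNat]
    have h : c i (CfsgLib.Char.irrConj χ) = conj (c i χ) := by
      rw [hc, hc, map_add, map_add, map_mul, map_mul, map_mul, hreal.1, hreal.2.1, hreal.2.2,
        CfsgLib.Char.irrConj_apply, CfsgLib.Char.irrConj_apply, CfsgLib.Char.irrConj_apply]
    simp only [hcdef] at h
    rw [conj_cEta] at h
    exact (cEta_inj h).1.symm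
  have hrel : ∀ i, ∑ χ : IrrCharacter G, (deg χ : ℤ) * U i χ = 0 := fun i => by
    have z : ∀ g : G, g ≠ 1 → ∑ χ : IrrCharacter G, (deg χ : ℂ) * (χ : G → ℂ) g = 0 := fun g hg => by
      have e := CfsgLib.Char.sum_degree_mul_apply g
      rw [if_neg hg] at e
      simpa [deg_spec] using e
    have hone : ∀ {g : G} {k : ℕ}, orderOf g = k → 1 < k → g ≠ 1 := fun {g k} h hk e => by
      rw [e, orderOf_one] at h; omega
    have h : ∑ χ : IrrCharacter G, ((deg χ : ℤ) : ℂ) * c i χ = cEta 0 0 := by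
      have e : ∀ χ : IrrCharacter G, ((deg χ : ℤ) : ℂ) * c i χ = (co i).1 * ((deg χ : ℂ) * (χ : G → ℂ) x) +
          (co i).2.1 * ((deg χ : ℂ) * (χ : G → ℂ) (x * t)) +
          (co i).2.2 * ((deg χ : ℂ) * (χ : G → ℂ) (x * s)) := fun χ => by rw [hc]; push_cast; ring
      rw [Finset.sum_congr rfl fun χ _ => e χ, Finset.sum_add_distrib, Finset.sum_add_distrib,
        ← Finset.mul_sum, ← Finset.mul_sum, ← Finset.mul_sum, z x (hone hx (by norm_num)),
        z _ (hone oxt (by norm_num)), z _ (hone oxs (by norm_num))]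
      simp [cEta]
    simp only [hcdef] at h
    rw [cEta_sum] at h
    exact (cEta_inj h).1
  have hshape := fun i => shape_seven CfsgLib.Char.irrConj CfsgLib.Char.irrConj_irrConj (U i) (V i) (hswap i)
    (norms_seven _ _ (hnorm i).1 (hnorm i).2).1 (norms_seven _ _ (hnorm i).1 (hnorm i).2).2
  choose X θ e hX hθ hθc hθne hXv he hUθ hVθ hUc hVc hout using hshape
  -- the eigenvalue of the class of involutions separates
  have hmemS : ∀ k, k ∈ ({t, t * s, t * s * s} : Finset G) ↔ IsConj t k ∧ Commute x k := fun k => by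
    simp only [Finset.mem_insert, Finset.mem_singleton]
    have e : s * t * s⁻¹ = t * s := by
      have h1 : t * s⁻¹ = s * t := by
        have h := congrArg (·⁻¹) tst
        simp only [mul_inv_rev, inv_inv] at h
        exact mul_inv_eq_iff_eq_mul.1 (by rw [mul_assoc]; exact h)
      rw [← h1, mul_assoc, ← hss, show s * s * (s * s) = s ^ 3 * s by simp only [pow_succ, pow_zero, one_mul, mul_assoc], hs3, one_mul]
    refine ⟨?_, fun ⟨hk, hxk⟩ => invs k hxk ?_⟩
    · rintro (rfl | rfl | rfl)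
      · exact ⟨IsConj.refl _, xt⟩
      · exact ⟨isConj_iff.2 ⟨s, e⟩, xt.mul_right xs⟩
      · refine ⟨isConj_iff.2 ⟨s * s, ?_⟩, (xt.mul_right xs).mul_right xs⟩
        rw [show s * s * t * (s * s)⁻¹ = s * (s * t * s⁻¹) * s⁻¹ by group, e,
          show s * (t * s) * s⁻¹ = (s * t * s⁻¹) * s * (s * s⁻¹) by group, e, mul_inv_cancel, mul_one]
    · obtain ⟨g, hg⟩ := isConj_iff.1 hk
      rw [← hg, ← ht]
      exact orderOf_injective (MulAut.conj g).toMonoidHom (MulAut.conj g).injective t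
  set lam : Fin 3 → ℤ := ![3, -3, 0] with hlam
  have hsep : ∀ i χ, Cg M ((omega χ t - (lam i : ℂ)) * (N i χ : ℂ)) 0 := by
    intro i χ
    set w := omega χ t with hwdef
    have hd : ({t, t * s, t * s * s} : Finset G).card = 3 := by
      have d1 : t ≠ t * s := fun h => by
        rw [left_eq_mul] at h; rw [h, orderOf_one] at hs; norm_num at hs
      have d2 : t ≠ t * s * s := fun h => by
        rw [mul_assoc, left_eq_mul, hss, inv_eq_one] at h; rw [h, orderOf_one] at hs; norm_num at hs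
      have d3 : t * s ≠ t * s * s := fun h => by
        rw [left_eq_mul] at h; rw [h, orderOf_one] at hs; norm_num at hs
      simp [d1, d2, d3]
    have v1 : (χ : G → ℂ) (t * s) = (χ : G → ℂ) t := (hcl χ ((hmemS _).1 (by simp)).1).symm
    have v2 : (χ : G → ℂ) (t * s * s) = (χ : G → ℂ) t := (hcl χ ((hmemS _).1 (by simp)).1).symm
    have g1 := class_cg hM χ hx7 t _ hmemS (Commute.one_right x)
    have gt := class_cg hM χ hx7 t _ hmemS xt
    have gs := class_cg hM χ hx7 t _ hmemS xs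
    have hsum : ∀ F : G → ℂ, ∑ k ∈ ({t, t * s, t * s * s} : Finset G), F k = F t + F (t * s) + F (t * s * s) := by
      intro F
      have d : t ∉ ({t * s, t * s * s} : Finset G) ∧ (t * s) ∉ ({t * s * s} : Finset G) := by
        constructor <;> intro h <;> simp at h
        · rcases h with h | h
          · rw [h, orderOf_one] at hs; norm_num at hs
          · rw [mul_assoc, left_eq_mul, hss, inv_eq_one] at h; rw [h, orderOf_one] at hs; norm_num at hs
        · rw [h, orderOf_one] at hs; norm_num at hs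
      rw [Finset.sum_insert d.1, Finset.sum_insert d.2, Finset.sum_singleton, add_assoc]
    rw [hsum] at g1 gt gs
    have et : t⁻¹ = t := inv_eq_of_mul_eq_one_left ht2
    have t1 : t * s * t = s⁻¹ := by rw [← tst, et]
    have t2 : t * s * s * t = s := by
      have h := congrArg (·⁻¹) tst
      simp only [mul_inv_rev, inv_inv, et] at h
      rw [mul_assoc t s s, hss, mul_assoc]
      exact h
    have t3 : t * s * s * s = t := by rw [mul_assoc, mul_assoc, ← mul_assoc s, ← pow_two, ← pow_succ, hs3, mul_one]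
    rw [mul_one, mul_one, mul_one, v1, v2] at g1
    rw [deg_spec] at g1
    rw [ht2, t1, t2, deg_spec, hsinv χ] at gt
    rw [t3, v1, v2] at gs
    have d6 : ∀ r : ℤ, Cg M ((r : ℂ)) 0 ↔ (7 : ℤ) ∣ r := fun r => by
      have := cg_int_iff hM r 0
      simpa using this
    have iw := isIntegral_omega χ t
    have ic : ∀ r : ℤ, IsIntegral ℤ (r : ℂ) := fun r => isIntegral_algebraMap
    suffices h6 : Cg M (((6 : ℤ) : ℂ) * ((w - (lam i : ℂ)) * (N i χ : ℂ))) 0 by
      refine (Cg.mul_eq_zero hM (ic 6) ((iw.sub (ic _)).mul (ic _)) h6).resolve_left fun h => ?_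
      have := (d6 6).1 h
      norm_num at this
    have g1' := g1.mul_left (z := ((if i = 2 then 2 else 1 : ℤ) : ℂ)) (ic _)
    have gt' := gt.mul_left (z := ((if i = 0 then 3 else if i = 1 then -3 else 0 : ℤ) : ℂ)) (ic _)
    have gs' := gs.mul_left (z := ((if i = 2 then -2 else 2 : ℤ) : ℂ)) (ic _)
    have hh := ((g1'.add gt').add gs').sub
      (Cg.refl (M := M) ((lam i : ℂ) * (((6 : ℤ) : ℂ) * (N i χ : ℂ))))
    convert hh using 1
    · rw [hN]
      fin_cases i <;> simp [hlam, hcodef] <;> ring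
    · rw [hN]
      fin_cases i <;> simp [hlam, hcodef] <;> ring
  have huniq : ∀ i j χ, ¬ (7 : ℤ) ∣ N i χ → ¬ (7 : ℤ) ∣ N j χ → i = j := by
    intro i j χ hi hj
    have ic : ∀ r : ℤ, IsIntegral ℤ (r : ℂ) := fun r => isIntegral_algebraMap
    have iw := isIntegral_omega χ t
    have cancel : ∀ i, ¬ (7 : ℤ) ∣ N i χ → Cg M (omega χ t - (lam i : ℂ)) 0 := fun i hi =>
      (Cg.mul_eq_zero hM (iw.sub (ic _)) (ic _) (hsep i χ)).resolve_right fun h => hi (by
        have := (cg_int_iff hM (N i χ) 0).1 (by simpa using h)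
        simpa using this)
    have h := (cancel i hi).sub (cancel j hj)
    rw [sub_self, show omega χ t - (lam i : ℂ) - (omega χ t - (lam j : ℂ)) = ((lam j - lam i : ℤ) : ℂ) by
      push_cast; ring] at h
    have h7 := (cg_int_iff hM (lam j - lam i) 0).1 (by simpa using h)
    fin_cases i <;> fin_cases j <;> simp [hlam] at h7 ⊢ <;> norm_num at h7
  set all : Fin 3 → Finset (IrrCharacter G) := fun i =>
    insert (θ i) (insert (CfsgLib.Char.irrConj (θ i)) (X i)) with halldef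
  have hnz : ∀ i, ∀ χ ∈ all i, ¬ (7 : ℤ) ∣ N i χ := fun i χ hχ hd => by
    have h := hN7 i χ
    simp only [halldef, Finset.mem_insert] at hχ
    rcases hχ with rfl | rfl | hχ
    · rw [hUθ, hVθ] at h; rcases he i with e1 | e1 <;> rw [e1] at h <;> omega
    · rw [hUc, hVc] at h; rcases he i with e1 | e1 <;> rw [e1] at h <;> omega
    · obtain ⟨h1, h2⟩ := hXv i χ hχ
      rw [h2] at h
      rcases h1 with e1 | e1 <;> rw [e1] at h <;> omega
  have hz : ∀ i χ, χ ∉ all i → U i χ = 0 ∧ V i χ = 0 := fun i χ h => by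
    simp only [halldef, Finset.mem_insert, not_or] at h
    exact hout i χ h.2.2 h.1 h.2.1
  have hd' : ∀ i j χ, χ ∈ all i → χ ∈ all j → i = j := fun i j χ a b =>
    huniq i j χ (hnz i χ a) (hnz j χ b)
  have hoff : ∀ i j χ, χ ∈ all i → j ≠ i → U j χ = 0 ∧ V j χ = 0 ∧ (7 : ℤ) ∣ N j χ := fun i j χ a hji => by
    obtain ⟨u0, v0⟩ := hz j χ fun b => hji (hd' j i χ b a)
    refine ⟨u0, v0, ?_⟩
    have := hN7 j χ
    rwa [u0, v0, add_zero, mul_zero, add_zero] at this
  have hdeg : ∀ χ, (deg χ : ℤ) = N 0 χ + N 1 χ + 2 * N 2 χ := fun χ => by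
    have h : ((deg χ : ℤ) : ℂ) = ((N 0 χ + N 1 χ + 2 * N 2 χ : ℤ) : ℂ) := by
      push_cast
      rw [hN, hN, hN]
      simp [hcodef]
      ring
    exact_mod_cast h
  have hval : ∀ χ : IrrCharacter G, (χ : G → ℂ) x = c 0 χ + c 1 χ + 2 * c 2 χ := fun χ => by
    rw [hc, hc, hc]; simp [hcodef]; ring
  set φ : Fin 3 → ℕ := ![1, 1, 2] with hφ
  have hcong : ∀ i, ∀ χ ∈ all i, (7 : ℤ) ∣ (deg χ : ℤ) + 3 * (U i χ + V i χ) * φ i := fun i χ hχ => by
    rw [hdeg]
    have h := hN7 i χ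
    fin_cases i <;> simp [hφ] at h ⊢ hχ
    · have a := (hoff 0 1 χ hχ (by decide)).2.2
      have b := (hoff 0 2 χ hχ (by decide)).2.2
      omega
    · have a := (hoff 1 0 χ hχ (by decide)).2.2
      have b := (hoff 1 2 χ hχ (by decide)).2.2
      omega
    · have a := (hoff 2 0 χ hχ (by decide)).2.2
      have b := (hoff 2 1 χ hχ (by decide)).2.2
      omega
  have hvalI : ∀ i, ∀ χ ∈ all i,  (χ : G → ℂ) x = (φ i : ℂ) * c i χ := fun i χ hχ => by
    rw [hval]
    have hzero : ∀ j, j ≠ i → c j χ = 0 := fun j hj => by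
      obtain ⟨a, b, -⟩ := hoff i j χ hχ hj
      simp [hcdef, a, b, cEta]
    fin_cases i
    · rw [hzero 1 (by decide), hzero 2 (by decide)]; simp [hφ]
    · rw [hzero 0 (by decide), hzero 2 (by decide)]; simp [hφ]
    · rw [hzero 0 (by decide), hzero 1 (by decide)]; simp [hφ]
  have hθmem : ∀ i, θ i ∈ all i := fun i => Finset.mem_insert_self _ _
  have hXmem : ∀ i, ∀ χ ∈ X i, χ ∈ all i := fun i χ h => Finset.mem_insert_of_mem (Finset.mem_insert_of_mem h)
  have hdegconj : ∀ i, deg (CfsgLib.Char.irrConj (θ i)) = deg (θ i) :=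
    fun i => CfsgLib.MTwentyThreeUnique.irrConj_deg (θ i)
  have hsum : ∀ i, ∑ χ ∈ X i, U i χ * (deg χ : ℤ) + e i * (deg (θ i) : ℤ) = 0 := fun i => by
    have h := hrel i
    rw [← Finset.sum_subset (Finset.subset_univ (all i)) (fun χ _ hχ => by rw [(hz i χ hχ).1, mul_zero]),
      halldef, Finset.sum_insert (by simp [hθ i, (hθne i).symm]), Finset.sum_insert (hθc i), hUθ, hUc] at h
    rw [Finset.sum_congr rfl (g := fun χ => (deg χ : ℤ) * U i χ) fun χ _ => mul_comm _ _]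
    linarith
  let R : ∀ i, Row G (φ i) := fun i =>
    { X := X i, θ := θ i, u := U i, e := e i, card_X := hX i, notMem := hθ i, conj_notMem := hθc i
      conj_ne := hθne i, u_sq := fun χ h => (hXv i χ h).1, e_sq := he i
      deg_X := fun χ h => by
        have h7 := hcong i χ (hXmem i χ h)
        rw [(hXv i χ h).2] at h7
        have hk : (deg χ : ℤ) - U i χ * φ i =
            ((deg χ : ℤ) + 3 * (U i χ + U i χ) * φ i) + 7 * (-(U i χ * φ i)) := by ring
        rw [hk]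
        exact dvd_add h7 (Dvd.intro _ rfl)
      deg_θ := by
        have h7 := hcong i (θ i) (hθmem i)
        rwa [hUθ, hVθ, add_zero] at h7
      rel := hsum i }
  have hout' : ∀ χ : IrrCharacter G, (∀ i, χ ∉ all i) → (χ : G → ℂ) x = 0 ∧ 7 ∣ deg χ := fun χ h => by
    refine ⟨?_, ?_⟩
    · rw [hval]; simp [hcdef, (hz 0 χ (h 0)), (hz 1 χ (h 1)), (hz 2 χ (h 2)), cEta]
    · have q : ∀ i, (7 : ℤ) ∣ N i χ := fun i => by
        have := hN7 i χ
        rwa [(hz i χ (h i)).1, (hz i χ (h i)).2, add_zero, mul_zero, add_zero] at this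
      have : (7 : ℤ) ∣ (deg χ : ℤ) := by
        rw [hdeg]; exact dvd_add (dvd_add (q 0) (q 1)) ((q 2).mul_left 2)
      exact_mod_cast this
  have hone : ∀ i, c i CfsgLib.Char.irrOne = if i = 0 then 1 else 0 := fun i => by
    rw [hc]
    simp only [show ∀ g : G, ((CfsgLib.Char.irrOne : IrrCharacter G) : G → ℂ) g = 1 from fun g => rfl]
    fin_cases i <;> simp [hcodef] <;> norm_num
  have hone0 : CfsgLib.Char.irrOne ∈ X 0 := by
    have h : cEta (U 0 CfsgLib.Char.irrOne) (V 0 CfsgLib.Char.irrOne) = cEta 1 1 := by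
      have := hone 0
      rw [cEta_self]; simpa [hcdef] using this
    obtain ⟨a, b⟩ := cEta_inj h
    by_contra hc0
    by_cases h1 : CfsgLib.Char.irrOne = θ 0
    · rw [h1, hVθ] at b; exact absurd b (by norm_num)
    by_cases h2 : CfsgLib.Char.irrOne = CfsgLib.Char.irrConj (θ 0)
    · rw [h2, hUc] at a; exact absurd a (by norm_num)
    rw [(hout 0 _ hc0 h1 h2).1] at a
    exact absurd a (by norm_num)
  have hdj : ∀ i j, i ≠ j → Disjoint (all i) (all j) := fun i j h =>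
    Finset.disjoint_left.2 fun χ a b => h (hd' i j χ a b)
  exact ⟨{
    A := R 0, B := R 1, C := R 2, one_mem := hone0
    disjAB := hdj 0 1 (by decide), disjAC := hdj 0 2 (by decide), disjBC := hdj 1 2 (by decide)
    out := fun χ h => by
      rw [Finset.notMem_union, Finset.notMem_union] at h
      exact hout' χ fun i => by fin_cases i; exacts [h.1.1, h.1.2, h.2]
    not_dvd := fun χ h hd => by
      have hd' : (7 : ℤ) ∣ (deg χ : ℤ) := by exact_mod_cast hd
      have key : ∀ i, χ ∈ all i → False := fun i hi => by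
        have h7 := hcong i χ hi
        have h3 := hN7 i χ
        refine hnz i χ hi ?_
        fin_cases i <;> simp [hφ] at h7 h3 ⊢ <;> omega
      rcases Finset.mem_union.1 h with h | h
      · rcases Finset.mem_union.1 h with h | h
        exacts [key 0 h, key 1 h]
      · exact key 2 h
    val_A := fun χ h => by
      show _ = ((U 0 χ : ℤ) : ℂ)
      rw [hvalI 0 χ (hXmem 0 χ h)]; simp [hcdef, hφ, (hXv 0 χ h).2, cEta_self]
    val_B := fun χ h => by
      show _ = ((U 1 χ : ℤ) : ℂ)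
      rw [hvalI 1 χ (hXmem 1 χ h)]; simp [hcdef, hφ, (hXv 1 χ h).2, cEta_self]
    val_C := fun χ h => by
      show _ = 2 * ((U 2 χ : ℤ) : ℂ)
      rw [hvalI 2 χ (hXmem 2 χ h)]; simp [hcdef, hφ, (hXv 2 χ h).2, cEta_self]
    val_Aθ := by
      show _ = -((e 0 : ℤ) : ℂ) * eta
      rw [hvalI 0 _ (hθmem 0)]; simp [hcdef, hφ, hUθ, hVθ, cEta]
    val_Bθ := by
      show _ = -((e 1 : ℤ) : ℂ) * eta
      rw [hvalI 1 _ (hθmem 1)]; simp [hcdef, hφ, hUθ, hVθ, cEta]
    val_Cθ := by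
      show _ = -2 * ((e 2 : ℤ) : ℂ) * eta
      rw [hvalI 2 _ (hθmem 2)]; simp [hcdef, hφ, hUθ, hVθ, cEta]; ring }⟩

end CfsgLib.MTwentyFourUnique
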