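import Cfsg.Agent.Lib.MTwentyFourUnique.Cand
import Cfsg.Agent.Lib.MTwentyFourUnique.SevenRows
import Cfsg.Agent.Lib.MTwentyFourUnique.FiveRows
import Cfsg.Agent.Lib.Char.ClassAlgebra
import Mathlib

/-!
A character of degree twenty-three.
-/

set_option autoImplicit false
set_option linter.style.haveILetI false

noncomputable section

namespace CfsgLib.MTwentyFourUnique

open Subgroup Cfsg CfsgLib.InvolChar Search
open scoped ComplexConjugate
attribute [local instance] Classical.propDecidable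

theorem keys_ok : (∀ d ∈ ndA, ¬ 7 ∣ d ∧ ¬ 5 ∣ d) ∧ (∀ d ∈ ndB, ¬ 7 ∣ d ∧ ¬ 5 ∣ d) ∧
    (∀ d ∈ ndB, d % 5 ≠ 1 ∧ d % 5 ≠ 4) ∧ ∀ d ∈ poolFiveB, d ∉ ndA := by decide +kernel

theorem wt_zero : ∀ {L : List ℕ} {d : ℕ}, d ∉ L → wt L d = 0
  | [], _, _ => rfl
  | a :: L, d, h => by
    rw [List.mem_cons, not_or] at h
    have e : wt (a :: L) d = cond (Nat.beq a d) 1 (32 * wt L d) := rfl
    rw [e, show Nat.beq a d = false from Bool.eq_false_iff.2 fun hb => h.1 (Nat.eq_of_beq_eq_true hb).symm,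
      cond_false, wt_zero h.2]

theorem bit_zero : ∀ {L : List ℕ} {d : ℕ}, d ∉ L → bit L d = 0
  | [], _, _ => rfl
  | a :: L, d, h => by
    rw [List.mem_cons, not_or] at h
    have e : bit (a :: L) d = cond (Nat.beq a d) 1 (2 * bit L d) := rfl
    rw [e, show Nat.beq a d = false from Bool.eq_false_iff.2 fun hb => h.1 (Nat.eq_of_beq_eq_true hb).symm,
      cond_false, bit_zero h.2]

theorem keyOf_zero {L l : List ℕ} (h : ∀ d ∈ l, d ∉ L) : keyOf L l = 0 :=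
  List.sum_eq_zero fun x hx => by
    obtain ⟨d, hd, rfl⟩ := List.mem_map.1 hx
    exact wt_zero (h d hd)

theorem sg_seven {φ d : ℕ} {u : ℤ} (hφ : φ = 1 ∨ φ = 2) (hu : u = 1 ∨ u = -1)
    (h : (7 : ℤ) ∣ (d : ℤ) - u * φ) : sg 7 φ d = u := by
  rw [sg]
  rcases hφ with rfl | rfl <;> rcases hu with rfl | rfl <;> split_ifs <;> omega

variable {G : Type*} [Group G] [Fintype G]

/-- The degree data of a row set at seven. -/
structure RowSum (R : Finset (IrrCharacter G)) (T₁ T₂ : ℤ) (t : S7) : Prop where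
  sq : t.2.2.1 = ∑ χ ∈ R, deg χ * deg χ
  mask : ∀ χ ∈ R, bit ndA (deg χ) ||| t.2.2.2.1 = t.2.2.2.1
  keyA : t.2.2.2.2.1 = ∑ χ ∈ R, wt ndA (deg χ)
  keyB : t.2.2.2.2.2 = ∑ χ ∈ R, wt ndB (deg χ)
  r₁ : (t.1 : ℤ) = T₁ % 1764
  r₂ : (t.2.1 : ℤ) = T₂ % 1764

/-- The sums of a row set. -/
def Row.total {φ : ℕ} (R : Row G φ) (c : ℤ) : ℤ :=
  ∑ χ ∈ R.X, R.u χ * (φ : ℤ) ^ 3 * ((G0 / deg χ : ℕ) : ℤ) +
    c * R.e * (φ : ℤ) ^ 3 * ((G0 / deg R.θ : ℕ) : ℤ)

theorem Row.tot_eq_zero {φ : ℕ} (R : Row G φ) (hφ : φ = 1 ∨ φ = 2) :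
    tot 7 φ (dlist deg R.X) + R.e * (deg R.θ : ℤ) = 0 := by
  rw [tot, sum_dlist deg (fun d => sg 7 φ d * (d : ℤ))]
  rw [Finset.sum_congr rfl (g := fun χ => R.u χ * (deg χ : ℤ)) fun χ h => by
    rw [sg_seven hφ (R.u_sq χ h) (R.deg_X χ h)]]
  exact R.rel

theorem Row.all_perm {φ : ℕ} (R : Row G φ) :
    (dlist deg R.all).Perm (dlist deg R.X ++ [deg R.θ, deg R.θ]) := by
  refine (dlist_insert deg (by simp [R.notMem, R.conj_ne.symm])).trans ?_
  refine ((dlist_insert deg R.conj_notMem).cons _).trans ?_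
  rw [CfsgLib.MTwentyThreeUnique.irrConj_deg]
  exact (List.perm_append_comm (l₁ := [deg R.θ, deg R.θ]) (l₂ := dlist deg R.X))

theorem Row.rowSum {φ : ℕ} (R : Row G φ) (hφ : φ = 1 ∨ φ = 2) :
    RowSum R.all (R.total (-5)) (R.total 2) (sum7 φ (dlist deg R.X) (deg R.θ) R.e) := by
  have h3 : sum3 φ (dlist deg R.X) = ∑ χ ∈ R.X, R.u χ * (φ : ℤ) ^ 3 * ((G0 / deg χ : ℕ) : ℤ) := by
    rw [sum3, sum_dlist deg (fun d => sg 7 φ d * (φ : ℤ) ^ 3 * ((G0 / d : ℕ) : ℤ))]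
    exact Finset.sum_congr rfl fun χ h => by rw [sg_seven hφ (R.u_sq χ h) (R.deg_X χ h)]
  refine ⟨?_, fun χ hχ => ?_, ?_, ?_, ?_, ?_⟩
  · show (((dlist deg R.X).map fun d => d * d).sum + 2 * (deg R.θ * deg R.θ)) = _
    rw [sum_dlist deg (fun d => d * d), R.sum_all, CfsgLib.MTwentyThreeUnique.irrConj_deg]
    ring
  · show bit ndA (deg χ) ||| maskOf ndA _ = maskOf ndA _
    exact maskOf_mem (R.all_perm.subset (mem_dlist.2 ⟨χ, hχ, rfl⟩))
  · show keyOf ndA _ = _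
    rw [← keyOf_perm ndA R.all_perm]
    exact sum_dlist deg (wt ndA) R.all
  · show keyOf ndB _ = _
    rw [← keyOf_perm ndB R.all_perm]
    exact sum_dlist deg (wt ndB) R.all
  · show (((sum3 φ _ - 5 * R.e * (φ : ℤ) ^ 3 * _) % 1764).toNat : ℤ) = _
    rw [Int.toNat_of_nonneg (Int.emod_nonneg _ (by norm_num)), h3, Row.total]
    congr 1
    ring
  · show (((sum3 φ _ + 2 * R.e * (φ : ℤ) ^ 3 * _) % 1764).toNat : ℤ) = _
    rw [Int.toNat_of_nonneg (Int.emod_nonneg _ (by norm_num)), h3, Row.total]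

/-- There is a character of degree twenty-three. -/
theorem exists_deg_twentyThree (hL : Local G) (hE : Extra G) : ∃ χ : IrrCharacter G, deg χ = 23 := by
  classical
  by_contra h23
  push_neg at h23
  obtain ⟨S⟩ := exists_sevenData hL hE
  obtain ⟨R⟩ := exists_sevenRows S
  obtain ⟨D⟩ := exists_fiveData hL hE
  have hcand := deg_cand hL
  obtain ⟨W⟩ := exists_fiveRows D hcand
  have hA : ∀ χ ∈ R.A.all, χ ∉ R.B.all ∧ χ ∉ R.C.all := fun χ h =>
    ⟨Finset.disjoint_left.1 R.disjAB h, Finset.disjoint_left.1 R.disjAC h⟩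
  have h1A : CfsgLib.Char.irrOne ∈ R.A.all :=
    Finset.mem_insert_of_mem (Finset.mem_insert_of_mem R.one_mem)
  -- the sums are divisible
  have hdiv : ∀ (c : G) (k : ℤ) (hc : IsConj S.x c ∨ IsConj S.x⁻¹ c),
      (∀ χ : IrrCharacter G, χ ∉ R.A.all ∪ R.B.all ∪ R.C.all →
        (χ : G → ℂ) S.x * (χ : G → ℂ) S.x * conj ((χ : G → ℂ) c) = 0) →
      (∀ {φ : ℕ} (Q : Row G φ), (∀ χ ∈ Q.X, (χ : G → ℂ) S.x = (φ : ℂ) * (Q.u χ : ℂ)) →
        (Q.θ : G → ℂ) S.x = -(φ : ℂ) * (Q.e : ℂ) * eta →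
        ∑ χ ∈ Q.all, (χ : G → ℂ) S.x * (χ : G → ℂ) S.x * conj ((χ : G → ℂ) c) * ((G0 / deg χ : ℕ) : ℂ) =
          (Q.total k : ℂ)) →
      (1764 : ℤ) ∣ R.A.total k + R.B.total k + R.C.total k := fun c k _ hout hrow => by
    set N := Nat.card {p : G × G // IsConj S.x p.1 ∧ IsConj S.x p.2 ∧ p.1 * p.2 = c}
    set K := Nat.card {x : G // IsConj S.x x}
    have hK : (K : ℂ) * 42 = 244823040 := by
      have h := CfsgLib.Char.card_isConj_mul_card_centralizer S.x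
      rw [S.cx, hL.card] at h
      exact_mod_cast h
    have e := CfsgLib.Char.card_classProduct_eq S.x S.x c
    rw [hL.card] at e
    have hterm : ∀ χ : IrrCharacter G,
        (χ : G → ℂ) S.x * (χ : G → ℂ) S.x * conj ((χ : G → ℂ) c) * ((G0 / deg χ : ℕ) : ℂ) =
        244823040 * ((χ : G → ℂ) S.x * (χ : G → ℂ) S.x * conj ((χ : G → ℂ) c) / (χ : G → ℂ) 1) := fun χ => by
      rw [show G0 = 244823040 from rfl, Nat.cast_div (deg_dvd hL χ) (by exact_mod_cast (deg_pos χ).ne'), deg_spec]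
      simp
      ring
    have h1 : ∑ χ : IrrCharacter G,
        (χ : G → ℂ) S.x * (χ : G → ℂ) S.x * conj ((χ : G → ℂ) c) * ((G0 / deg χ : ℕ) : ℂ) = 1764 * (N : ℂ) := by
      rw [Finset.sum_congr rfl fun χ _ => hterm χ, ← Finset.mul_sum]
      have hK' : (K : ℂ) = 5829120 := by linear_combination hK / 42
      rw [show (N : ℂ) = _ from e, hK']
      push_cast
      ring
    have hval : ∑ χ : IrrCharacter G,
        (χ : G → ℂ) S.x * (χ : G → ℂ) S.x * conj ((χ : G → ℂ) c) * ((G0 / deg χ : ℕ) : ℂ) =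
        ((R.A.total k + R.B.total k + R.C.total k : ℤ) : ℂ) := by
      rw [← Finset.sum_subset (Finset.subset_univ (R.A.all ∪ R.B.all ∪ R.C.all)) fun χ _ h => by
          rw [hout χ h, zero_mul],
        Finset.sum_union (Finset.disjoint_union_left.2 ⟨R.disjAC, R.disjBC⟩), Finset.sum_union R.disjAB,
        hrow R.A (fun χ h => by rw [R.val_A χ h]; simp) (by rw [R.val_Aθ]; simp),
        hrow R.B (fun χ h => by rw [R.val_B χ h]; simp) (by rw [R.val_Bθ]; simp),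
        hrow R.C (fun χ h => by rw [R.val_C χ h]; simp) (by rw [R.val_Cθ]; simp)]
      push_cast
      rfl
    refine ⟨N, ?_⟩
    have h := hval.symm.trans h1
    exact_mod_cast h
  have hconjx : ∀ χ : IrrCharacter G, (CfsgLib.Char.irrConj χ : G → ℂ) S.x = conj ((χ : G → ℂ) S.x) :=
    fun χ => CfsgLib.Char.irrConj_apply χ _
  have hinvx : ∀ χ : IrrCharacter G, (χ : G → ℂ) S.x⁻¹ = conj ((χ : G → ℂ) S.x) :=
    fun χ => CfsgLib.Char.char_inv (CfsgLib.Char.isCharacter_of_isIrr χ.2) S.x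
  have t2 : (1764 : ℤ) ∣ R.A.total 2 + R.B.total 2 + R.C.total 2 := by
    refine hdiv S.x 2 (Or.inl (IsConj.refl _)) (fun χ h => by rw [(R.out χ h).1]; ring) fun {φ} Q hX hθ => ?_
    rw [Q.sum_all, hconjx, CfsgLib.MTwentyThreeUnique.irrConj_deg, hθ, Row.total]
    simp only [map_mul, map_neg, map_natCast, map_intCast, Complex.conj_conj]
    simp only [Int.cast_add, Int.cast_sum, Int.cast_mul, Int.cast_pow, Int.cast_natCast, Int.cast_neg,
      Int.cast_ofNat]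
    rw [Finset.sum_congr rfl (g := fun χ => (Q.u χ : ℂ) * (φ : ℂ) ^ 3 * ((G0 / deg χ : ℕ) : ℂ)) fun χ h => by
      rw [hX χ h, map_mul, map_natCast, map_intCast]
      rcases Q.u_sq χ h with e | e <;> rw [e] <;> push_cast <;> ring]
    have he : (Q.e : ℂ) * Q.e = 1 := by rcases Q.e_sq with e | e <;> rw [e] <;> norm_num
    linear_combination
      (-(Q.e : ℂ) * (φ : ℂ) ^ 3 * (eta * eta * conj eta + conj eta * conj eta * eta) *
        ((G0 / deg Q.θ : ℕ) : ℂ)) * he +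
      (-(Q.e : ℂ) * (φ : ℂ) ^ 3 * (eta + conj eta) * ((G0 / deg Q.θ : ℕ) : ℂ)) * eta_mul +
      (-2 * (Q.e : ℂ) * (φ : ℂ) ^ 3 * ((G0 / deg Q.θ : ℕ) : ℂ)) * eta_add
  have t1 : (1764 : ℤ) ∣ R.A.total (-5) + R.B.total (-5) + R.C.total (-5) := by
    refine hdiv S.x⁻¹ (-5) (Or.inr (IsConj.refl _)) (fun χ h => by rw [(R.out χ h).1]; ring) fun {φ} Q hX hθ => ?_
    simp only [hinvx, Complex.conj_conj]
    rw [Q.sum_all, hconjx, CfsgLib.MTwentyThreeUnique.irrConj_deg, hθ, Row.total]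
    simp only [map_mul, map_neg, map_natCast, map_intCast]
    simp only [Int.cast_add, Int.cast_sum, Int.cast_mul, Int.cast_pow, Int.cast_natCast, Int.cast_neg,
      Int.cast_ofNat]
    rw [Finset.sum_congr rfl (g := fun χ => (Q.u χ : ℂ) * (φ : ℂ) ^ 3 * ((G0 / deg χ : ℕ) : ℂ)) fun χ h => by
      rw [hX χ h]
      rcases Q.u_sq χ h with e | e <;> rw [e] <;> push_cast <;> ring]
    have he : (Q.e : ℂ) * Q.e = 1 := by rcases Q.e_sq with e | e <;> rw [e] <;> norm_num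
    linear_combination
      (-(Q.e : ℂ) * (φ : ℂ) ^ 3 * (eta * eta * eta + conj eta * conj eta * conj eta) *
        ((G0 / deg Q.θ : ℕ) : ℂ)) * he +
      (-(Q.e : ℂ) * (φ : ℂ) ^ 3 * (-3) * (eta + conj eta) * ((G0 / deg Q.θ : ℕ) : ℂ)) * eta_mul +
      (-(Q.e : ℂ) * (φ : ℂ) ^ 3 * ((eta + conj eta) ^ 2 - (eta + conj eta) + 1 - 6) *
        ((G0 / deg Q.θ : ℕ) : ℂ)) * eta_add
  -- the tables
  have hmp : ∀ {p r : ℕ} {c : ℤ} (χ : IrrCharacter G), χ ≠ CfsgLib.Char.irrOne →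
      (p : ℤ) ∣ (deg χ : ℤ) - c → (c = r ∨ c = -(r : ℤ)) → deg χ ∈ pool p r := fun χ h h1 h2 =>
    mem_pool (hcand χ h) h1 h2
  have hpool : ∀ {φ : ℕ} (Q : Row G φ), (∀ χ ∈ Q.X, χ ≠ CfsgLib.Char.irrOne → deg χ ∈ pool 7 φ) ∧
      (Q.θ ≠ CfsgLib.Char.irrOne → deg Q.θ ∈ pool 7 (3 * φ)) := fun {φ} Q => by
    refine ⟨fun χ h hne => hmp (c := Q.u χ * φ) χ hne (Q.deg_X χ h) ?_, fun hne =>
      hmp (c := -3 * Q.e * φ) Q.θ hne ?_ ?_⟩
    · rcases Q.u_sq χ h with e | e <;> simp [e]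
    · have := Q.deg_θ
      rwa [show (deg Q.θ : ℤ) - -3 * Q.e * φ = (deg Q.θ : ℤ) + 3 * Q.e * φ by ring]
    · rcases Q.e_sq with e | e <;> simp [e]
  have hθA : R.A.θ ≠ CfsgLib.Char.irrOne := fun e => R.A.notMem (e ▸ R.one_mem)
  have hneB : ∀ χ ∈ R.B.all, χ ≠ CfsgLib.Char.irrOne := fun χ h e => (hA _ h1A).1 (e ▸ h)
  have hneC : ∀ χ ∈ R.C.all, χ ≠ CfsgLib.Char.irrOne := fun χ h e => (hA _ h1A).2 (e ▸ h)
  have ha : sum7 1 (dlist deg R.A.X) (deg R.A.θ) R.A.e ∈ tabA := by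
    have hp : (dlist deg R.A.X).Perm (dlist deg (R.A.X.erase CfsgLib.Char.irrOne) ++ [1]) := by
      conv_lhs => rw [← Finset.insert_erase R.one_mem]
      refine (dlist_insert deg (by simp)).trans ?_
      rw [deg_irrOne]
      exact (List.perm_append_singleton 1 _).symm
    rw [sum7_perm _ _ _ hp]
    refine (chk7_spec (Or.inl rfl) chk_A _ ?_ ?_ R.A.e_sq ((hpool R.A).2 hθA) (deg_pos _) R.A.deg_θ ?_).resolve_left
      fun h => absurd h.1 (by decide)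
    · rw [dlist_length, Finset.card_erase_of_mem R.one_mem, R.A.card_X]; rfl
    · intro d hd
      obtain ⟨χ, hχ, rfl⟩ := mem_dlist.1 hd
      exact (hpool R.A).1 χ (Finset.mem_of_mem_erase hχ) (Finset.ne_of_mem_erase hχ)
    · rw [← tot_perm 7 1 hp]; exact R.A.tot_eq_zero (Or.inl rfl)
  have hb : sum7 1 (dlist deg R.B.X) (deg R.B.θ) R.B.e ∈ tabB := by
    have := (chk7_spec (Or.inl rfl) chk_B (dlist deg R.B.X) (by rw [dlist_length, R.B.card_X]; rfl)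
      (fun d hd => by
        obtain ⟨χ, hχ, rfl⟩ := mem_dlist.1 hd
        exact (hpool R.B).1 χ hχ (hneB χ (Finset.mem_insert_of_mem (Finset.mem_insert_of_mem hχ))))
      R.B.e_sq ((hpool R.B).2 (hneB _ (Finset.mem_insert_self _ _))) (deg_pos _) R.B.deg_θ
      (by rw [List.append_nil]; exact R.B.tot_eq_zero (Or.inl rfl))).resolve_left fun h => absurd h.1 (by decide)
    rwa [List.append_nil] at this
  have hc : sum7 2 (dlist deg R.C.X) (deg R.C.θ) R.C.e ∈ tabC := by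
    have := (chk7_spec (Or.inr rfl) chk_C (dlist deg R.C.X) (by rw [dlist_length, R.C.card_X]; rfl)
      (fun d hd => by
        obtain ⟨χ, hχ, rfl⟩ := mem_dlist.1 hd
        exact (hpool R.C).1 χ hχ (hneC χ (Finset.mem_insert_of_mem (Finset.mem_insert_of_mem hχ))))
      R.C.e_sq ((hpool R.C).2 (hneC _ (Finset.mem_insert_self _ _))) (deg_pos _) R.C.deg_θ
      (by rw [List.append_nil]; exact R.C.tot_eq_zero (Or.inr rfl))).resolve_left fun h => by
        rcases h.2 with h | h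
        · rw [List.append_nil] at h
          obtain ⟨χ, -, hχ⟩ := mem_dlist.1 h
          exact h23 χ hχ
        · exact h23 _ h
    rwa [List.append_nil] at this
  -- comparison
  have sa := R.A.rowSum (Or.inl rfl)
  have sb := R.B.rowSum (Or.inl rfl)
  have sc := R.C.rowSum (Or.inr rfl)
  set a := sum7 1 (dlist deg R.A.X) (deg R.A.θ) R.A.e
  set b := sum7 1 (dlist deg R.B.X) (deg R.B.θ) R.B.e
  set c := sum7 2 (dlist deg R.C.X) (deg R.C.θ) R.C.e
  set U7 := R.A.all ∪ R.B.all ∪ R.C.all with hU7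
  set U5 := W.P ∪ W.F ∪ W.W with hU5
  have hsum7 : ∀ f : IrrCharacter G → ℕ, ∑ χ ∈ U7, f χ =
      ∑ χ ∈ R.A.all, f χ + ∑ χ ∈ R.B.all, f χ + ∑ χ ∈ R.C.all, f χ := fun f => by
    rw [hU7, Finset.sum_union (Finset.disjoint_union_left.2 ⟨R.disjAC, R.disjBC⟩), Finset.sum_union R.disjAB]
  have hsum5 : ∀ f : IrrCharacter G → ℕ, ∑ χ ∈ U5, f χ =
      ∑ χ ∈ W.P, f χ + ∑ χ ∈ W.F, f χ + ∑ χ ∈ W.W, f χ := fun f => by
    rw [hU5, Finset.sum_union (Finset.disjoint_union_left.2 ⟨W.disjPW, W.disjFW⟩), Finset.sum_union W.disjPF]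
  have hkey : ∀ L : List ℕ, (∀ d ∈ L, ¬ 7 ∣ d ∧ ¬ 5 ∣ d) →
      ∑ χ ∈ U7, wt L (deg χ) = ∑ χ ∈ U5, wt L (deg χ) := fun L hL' => by
    rw [Finset.sum_subset (Finset.subset_univ U7) fun χ _ h => wt_zero fun hm => (hL' _ hm).1 (R.out χ h).2,
      Finset.sum_subset (Finset.subset_univ U5) fun χ _ h => wt_zero fun hm => (hL' _ hm).2 (W.out χ h)]
  have kA := hkey ndA keys_ok.1
  have kB := hkey ndB keys_ok.2.1
  rw [hsum7, hsum5, ← sum_dlist deg (wt ndA) W.P, ← sum_dlist deg (wt ndA) W.F,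
    ← sum_dlist deg (wt ndA) W.W, ← sa.keyA, ← sb.keyA, ← sc.keyA] at kA
  rw [hsum7, hsum5, ← sum_dlist deg (wt ndB) W.P, ← sum_dlist deg (wt ndB) W.F,
    ← sum_dlist deg (wt ndB) W.W, ← sa.keyB, ← sb.keyB, ← sc.keyB] at kB
  have hPB : keyOf ndB (dlist deg W.P) = 0 := keyOf_zero fun d hd hm => by
    obtain ⟨χ, hχ, rfl⟩ := mem_dlist.1 hd
    have := W.P_res χ hχ
    have := keys_ok.2.2.1 _ hm
    omega
  have hsq : a.2.2.1 + b.2.2.1 + c.2.2.1 + sq7 (dlist deg W.P) + sq7 (dlist deg W.F) + sq7 (dlist deg W.W) ≤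
      G0 := by
    let g : IrrCharacter G → ℕ := fun χ => if deg χ % 7 = 0 then deg χ * deg χ else 0
    have e : ∀ X : Finset (IrrCharacter G), sq7 (dlist deg X) = ∑ χ ∈ X, g χ := fun X =>
      sum_dlist deg (fun d => if d % 7 = 0 then d * d else 0) X
    rw [e, e, e, sa.sq, sb.sq, sc.sq, ← hsum7 fun χ => deg χ * deg χ, add_assoc, add_assoc,
      ← add_assoc (∑ χ ∈ W.P, g χ), ← hsum5 g]
    have hz : ∑ χ ∈ U5, g χ ≤ ∑ χ ∈ U7ᶜ, deg χ * deg χ := by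
      have e1 : ∑ χ ∈ U5, g χ = ∑ χ ∈ U5.filter (fun χ => deg χ % 7 = 0), deg χ * deg χ :=
        (Finset.sum_filter _ _).symm
      rw [e1]
      refine Finset.sum_le_sum_of_subset fun χ hχ => Finset.mem_compl.2 fun h => ?_
      exact R.not_dvd χ h (Nat.dvd_of_mod_eq_zero (Finset.mem_filter.1 hχ).2)
    have htot := sum_sq_deg hL
    rw [← Finset.sum_add_sum_compl U7] at htot
    simp only [G0]
    omega
  have hmask : ∀ X : Finset (IrrCharacter G), maskOf ndA (dlist deg X) |||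
      (a.2.2.2.1 ||| b.2.2.2.1 ||| c.2.2.2.1) = a.2.2.2.1 ||| b.2.2.2.1 ||| c.2.2.2.1 := fun X => by
    refine maskOf_le fun d hd => ?_
    obtain ⟨χ, -, rfl⟩ := mem_dlist.1 hd
    by_cases hm : deg χ ∈ ndA
    · have h : χ ∈ U7 := by
        by_contra h
        exact (keys_ok.1 _ hm).1 (R.out χ h).2
      simp only [hU7, Finset.mem_union] at h
      rcases h with (h | h) | h
      · have := sa.mask χ h
        rw [← Nat.or_assoc, ← Nat.or_assoc, this]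
      · have := sb.mask χ h
        rw [Nat.or_comm a.2.2.2.1, ← Nat.or_assoc, ← Nat.or_assoc, this]
      · have := sc.mask χ h
        rw [Nat.or_comm (a.2.2.2.1 ||| b.2.2.2.1), ← Nat.or_assoc, this]
    · rw [bit_zero hm, Nat.zero_or]
  have q1 : (a.1 + b.1 + c.1) % 1764 = 0 := by
    have := sa.r₁; have := sb.r₁; have := sc.r₁; omega
  have q2 : (a.2.1 + b.2.1 + c.2.1) % 1764 = 0 := by
    have := sa.r₂; have := sb.r₂; have := sc.r₂; omega
  have hlt : a.1 < 1764 ∧ a.2.1 < 1764 ∧ b.1 < 1764 ∧ b.2.1 < 1764 ∧ c.1 < 1764 ∧ c.2.1 < 1764 := by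
    have := sa.r₁; have := sb.r₁; have := sc.r₁
    have := sa.r₂; have := sb.r₂; have := sc.r₂
    omega
  change _ = keyOf ndA _ + keyOf ndA _ + keyOf ndA _ at kA
  change _ = keyOf ndB _ + keyOf ndB _ + keyOf ndB _ at kB
  rcases W.F_spec with ⟨hF, hFB⟩ | hF
  · have hFA : keyOf ndA (dlist deg W.F) = 0 := keyOf_zero fun d hd => keys_ok.2.2.2 d (hFB d hd)
    exact no_solution ha hb hc q1 q2 W.inP hF W.inW hsq (hmask W.P) (by omega) (by omega) hlt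
  · exact no_solution_two ha hb hc q1 q2 W.inP hF W.inW hsq (hmask W.P) (hmask W.F) (by omega) (by omega) hlt

end CfsgLib.MTwentyFourUnique
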