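import Cfsg.Agent.Lib.MTwentyFourUnique.Hyp
import Mathlib

/-!
The involutions in the centralisers of the elements of order five and seven.
-/

set_option autoImplicit false

namespace CfsgLib.MTwentyFourUnique

open Subgroup

/-- Three involutions in both centralisers and no element of order six in the one at five. -/
structure Extra (G : Type*) [Group G] : Prop where
  inv_seven : ∀ x : G, orderOf x = 7 → Nat.card {g : centralizer ({x} : Set G) // orderOf g = 2} = 3
  inv_five : ∀ x : G, orderOf x = 5 → Nat.card {g : centralizer ({x} : Set G) // orderOf g = 2} = 3
  six_five : ∀ x g : G, orderOf x = 5 → Commute x g → orderOf g ≠ 6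

end CfsgLib.MTwentyFourUnique
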