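import Cfsg.Agent.Lib.MTwentyFourUnique.NSE
import Cfsg.Agent.Lib.MTwentyFourUnique.Extra
import Mathlib

/-!
A group with the order and the numbers of elements of equal order of M24 has three involutions in the
centralisers of the elements of order five and seven, and no element of order thirty.
-/

set_option autoImplicit false
set_option linter.style.haveILetI false

noncomputable section

namespace CfsgLib.MTwentyFourUnique

open Subgroup Cfsg CfsgLib.MTwentyTwoUnique CfsgLib.MTwentyThreeUnique

/-- The counts over the divisors of the order add up to the order. -/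
theorem count_sum_divisors (K : Type*) [Group K] [Finite K] :
    ∑ d ∈ (Nat.card K).divisors, Nat.card {g : K // orderOf g = d} = Nat.card K := by
  classical
  haveI := Fintype.ofFinite K
  rw [Finset.sum_congr rfl fun k _ => (Nat.card_eq_fintype_card.trans (Fintype.card_subtype _) :
    Nat.card {g : K // orderOf g = k} = (Finset.univ.filter fun g : K => orderOf g = k).card),
    ← Finset.card_eq_sum_card_fiberwise, Finset.card_univ, ← Nat.card_eq_fintype_card]
  exact fun g _ => Nat.mem_divisors.2 ⟨orderOf_dvd_natCard g, Nat.card_pos.ne'⟩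

/-- In a group of order twelve with three involutions and no count one or four modulo five, no element has order
six. -/
theorem order12_no_six {K : Type*} [Group K] [Finite K] (hK : Nat.card K = 12)
    (h2 : Nat.card {g : K // orderOf g = 2} = 3)
    (h4 : Nat.card {g : K // orderOf g = 4} ≠ 4)
    (h6 : Nat.card {g : K // orderOf g = 6} ≠ 4 ∧ Nat.card {g : K // orderOf g = 6} ≠ 6) :
    Nat.card {g : K // orderOf g = 6} = 0 := by
  classical
  haveI : Fact (Nat.Prime 3) := ⟨Nat.prime_three⟩
  have hsum := count_sum_divisors K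
  rw [hK, show Nat.divisors 12 = {1, 2, 3, 4, 6, 12} by decide, Finset.sum_insert (by decide),
    Finset.sum_insert (by decide), Finset.sum_insert (by decide), Finset.sum_insert (by decide),
    Finset.sum_insert (by decide), Finset.sum_singleton, count_one, h2] at hsum
  have hPs : ∀ P : Sylow 3 K, Nat.card (P : Subgroup K) = 3 := fun P => by
    simpa using CfsgLib.SmallGroups.card_sylow_eq (a := 1) (m := 4) (by rw [hK]; norm_num) (by norm_num) P
  have hc3 := CfsgLib.Classical.Dickson.card_orderOf_eq hPs
  have hpos : 0 < Nat.card (Sylow 3 K) := Nat.card_pos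
  have hmod := CfsgLib.SmallGroups.mod_eq_one_card_sylow (p := 3) (G := K)
  have e6 := count_even (G := K) (k := 6) (by norm_num) (by norm_num)
  have e4 := count_even (G := K) (k := 4) (by norm_num) (by norm_num)
  by_contra h0
  rcases Nat.eq_zero_or_pos (Nat.card {g : K // orderOf g = 12}) with h12 | h12
  · omega
  · obtain ⟨⟨g, hg⟩⟩ := (Nat.card_pos_iff.1 h12).1
    haveI : IsCyclic K := isCyclic_of_orderOf_eq_card g (hg.trans hK.symm)
    have h := count_cyclic K 2
    rw [h2, hK, if_pos (by norm_num), Nat.totient_two] at h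
    norm_num at h

variable {G : Type*} [Group G] [Finite G]

/-- A centraliser of an element of prime order `p` whose index over it is prime to `p` splits off that element. -/
theorem exists_centralizer_complement {p m : ℕ} [Fact p.Prime] {x : G} (hx : orderOf x = p)
    (hc : Nat.card (centralizer ({x} : Set G)) = p * m) (hm : ¬ p ∣ m) :
    ∃ K : Subgroup (centralizer ({x} : Set G)),
      Nat.card K = m ∧ ∀ n, ¬ p ∣ n →
        Nat.card {g : centralizer ({x} : Set G) // orderOf g = n} = Nat.card {g : K // orderOf g = n} ∧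
        Nat.card {g : centralizer ({x} : Set G) // orderOf g = p * n} =
          (p - 1) * Nat.card {g : K // orderOf g = n} := by
  set C := centralizer ({x} : Set G) with hC
  have hp := (Fact.out : p.Prime).pos
  have hxC : x ∈ C := mem_centralizer_singleton_iff.2 rfl
  have hx' : orderOf (⟨x, hxC⟩ : C) = p := by rw [Subgroup.orderOf_mk, hx]
  have hcomm : ∀ g : C, Commute (⟨x, hxC⟩ : C) g := fun g =>
    Subtype.ext (show Commute (g : G) x from mem_centralizer_singleton_iff.1 g.2).symm.eq
  haveI : (zpowers (⟨x, hxC⟩ : C)).Normal :=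
    ⟨fun n hn g => by
      obtain ⟨i, rfl⟩ := mem_zpowers_iff.1 hn
      rw [((hcomm g).zpow_left i).symm.eq, mul_inv_cancel_right]
      exact zpow_mem_zpowers _ i⟩
  have hidx : (zpowers (⟨x, hxC⟩ : C)).index = m := by
    have h := (zpowers (⟨x, hxC⟩ : C)).card_mul_index
    rw [Nat.card_zpowers, hx', hc] at h
    exact Nat.eq_of_mul_eq_mul_left hp h
  obtain ⟨K, hK⟩ := exists_right_complement'_of_coprime (N := zpowers (⟨x, hxC⟩ : C))
    (by rw [Nat.card_zpowers, hx', hidx]; exact ((Fact.out : p.Prime).coprime_iff_not_dvd).2 hm)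
  have hKc : Nat.card K = m := by
    have h := hK.card_mul
    rw [Nat.card_zpowers, hx', hc] at h
    exact Nat.eq_of_mul_eq_mul_left hp h
  exact ⟨K, hKc, fun n hn => count_prod hx' hcomm hK (by rw [hKc]; exact hm) hn⟩

/-- Order and equal counts give the additional facts. -/
theorem extra_of_nse (hcard : Nat.card G = Nat.card ↥M24)
    (hnse : {c : ℕ | 0 < c ∧ ∃ n : ℕ, c = Nat.card {g : G // orderOf g = n}} =
      {c : ℕ | 0 < c ∧ ∃ n : ℕ, c = Nat.card {g : ↥M24 // orderOf g = n}}) : Extra G := by
  classical
  haveI : Fact (Nat.Prime 2) := ⟨Nat.prime_two⟩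
  haveI : Fact (Nat.Prime 5) := ⟨by norm_num⟩
  haveI : Fact (Nat.Prime 7) := ⟨by norm_num⟩
  have H := local_of_nse hcard hnse
  have L := local_M24
  have t5 : Nat.card {g : ↥M24 // orderOf g = 2} % 5 = 3 := by
    rw [count_modEq orderOf_xM5 2, five_count.2]
    decide +kernel
  have t7 : Nat.card {g : ↥M24 // orderOf g = 2} % 7 = 3 := by
    rw [count_modEq orderOf_xM7 2, seven_count]
    decide +kernel
  have t2 := count_two_transfer hnse (by rw [L.card]; norm_num) (fun h => by rw [h] at t5; omega)
  have hone : ∀ k, k ≠ 1 → Nat.card {g : G // orderOf g = k} % 5 ≠ 1 := by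
    intro k hk1 hr
    have hmem : Nat.card {g : G // orderOf g = k} ∈
        {c : ℕ | 0 < c ∧ ∃ n : ℕ, c = Nat.card {g : G // orderOf g = n}} := ⟨by omega, k, rfl⟩
    rw [hnse] at hmem
    obtain ⟨-, j, hj⟩ := hmem
    have hr' := hr
    rw [hj, count_modEq orderOf_xM5 j] at hr'
    have key : ∀ j ∈ ord5L, (Finset.univ.filter fun i : Fin cent5L.length => ord5L.getD i 0 = j).card % 5 = 1 →
        j = 1 := by decide +kernel
    have hjm := five_residue (by norm_num) hr'
    rw [five_count.2] at hr'
    rw [key j hjm hr', count_one] at hj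
    rcases eq_or_ne k 2 with rfl | hk2
    · rw [t2] at hr
      omega
    · have := count_even (G := G) hk1 hk2
      omega
  have five : ∀ x : G, orderOf x = 5 → Nat.card {g : centralizer ({x} : Set G) // orderOf g = 2} = 3 ∧
      Nat.card {g : centralizer ({x} : Set G) // orderOf g = 6} = 0 := by
    intro x hx
    obtain ⟨K, hKc, hprod⟩ := exists_centralizer_complement (p := 5) (m := 12) hx (H.five x hx).1 (by norm_num)
    have hmod : ∀ k, Nat.card {g : G // orderOf g = k} % 5 =
        Nat.card {g : centralizer ({x} : Set G) // orderOf g = k} % 5 := fun k => count_modEq hx k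
    have e2 := (hprod 2 (by norm_num)).1
    have hodd := count_two_odd (G := K) (by rw [hKc]; norm_num)
    have hle := count_sum_le (K := K) {1, 2}
    rw [Finset.sum_insert (by decide), Finset.sum_singleton, count_one, hKc] at hle
    have k2 : Nat.card {g : K // orderOf g = 2} = 3 := by
      have h := hmod 2
      rw [e2, t2, t5] at h
      omega
    have hm : ∀ m, m ≠ 1 → ¬ 5 ∣ m → Nat.card {g : K // orderOf g = m} % 5 ≠ 1 ∧
        Nat.card {g : K // orderOf g = m} % 5 ≠ 4 := fun m h1 h5 => by
      refine ⟨fun h => hone m h1 (by rw [hmod, (hprod m h5).1, h]), fun h => hone (5 * m) (by omega) ?_⟩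
      rw [hmod, (hprod m h5).2, Nat.mul_mod, h]
    have a4 := hm 4 (by norm_num) (by norm_num)
    have a6 := hm 6 (by norm_num) (by norm_num)
    exact ⟨e2.trans k2, (hprod 6 (by norm_num)).1.trans
      (order12_no_six hKc k2 (fun h => a4.2 (by rw [h])) ⟨fun h => a6.2 (by rw [h]), fun h => a6.1 (by rw [h])⟩)⟩
  refine ⟨fun x hx => ?_, fun x hx => (five x hx).1, fun x g hx hxg hg => ?_⟩
  · obtain ⟨K, hKc, hprod⟩ := exists_centralizer_complement (p := 7) (m := 6) hx (H.seven x hx).1 (by norm_num)
    have e2 := (hprod 2 (by norm_num)).1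
    have hodd := count_two_odd (G := K) (by rw [hKc]; norm_num)
    have hle := count_sum_le (K := K) {1, 2}
    rw [Finset.sum_insert (by decide), Finset.sum_singleton, count_one, hKc] at hle
    have h : Nat.card {g : G // orderOf g = 2} % 7 =
        Nat.card {g : centralizer ({x} : Set G) // orderOf g = 2} % 7 := count_modEq hx 2
    rw [e2, t2, t7] at h
    omega
  · have h0 := (five x hx).2
    have hgC : g ∈ centralizer ({x} : Set G) := mem_centralizer_singleton_iff.2 hxg.eq.symm
    have : 0 < Nat.card {g : centralizer ({x} : Set G) // orderOf g = 6} :=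
      Nat.card_pos_iff.2 ⟨⟨⟨⟨g, hgC⟩, by rw [Subgroup.orderOf_mk, hg]⟩⟩, inferInstance⟩
    omega

end CfsgLib.MTwentyFourUnique
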