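import Cfsg.Agent.Lib.MTwentyFourUnique.FiveLocal
import Cfsg.Agent.Lib.MTwentyFourUnique.AvgCyclic
import Cfsg.Agent.Lib.MTwelveUnique.Common
import Mathlib

/-!
The average over the four group against a sign character, and the class of the product of the elements of
orders five and three.
-/

set_option autoImplicit false
set_option linter.style.haveILetI false

noncomputable section

namespace CfsgLib.MTwentyFourUnique

open Subgroup Cfsg
open scoped ComplexConjugate
attribute [local instance] Classical.propDecidable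

variable {G : Type*} [Group G] {v s : G}

theorem AltFour.four_mul (h : AltFour v s) (i j : Fin 4) : ∃ k, four v s i * four v s j = four v s k := by
  have hk : four v s 1 * four v s 2 = four v s 3 := rfl
  have a := h.four_comm
  have q := h.four_sq
  fin_cases i <;> fin_cases j <;> simp only [Fin.reduceFinMk]
  · exact ⟨0, by simp [four]⟩
  · exact ⟨1, by simp [four]⟩
  · exact ⟨2, by simp [four]⟩
  · exact ⟨3, by simp [four]⟩
  · exact ⟨1, by simp [four]⟩
  · exact ⟨0, q 1⟩
  · exact ⟨3, hk⟩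
  · exact ⟨2, by rw [← hk, ← mul_assoc, q, one_mul]⟩
  · exact ⟨2, by simp [four]⟩
  · exact ⟨3, by rw [(a 2 1).eq, hk]⟩
  · exact ⟨0, q 2⟩
  · exact ⟨1, by rw [← hk, (a 1 2).eq, ← mul_assoc, q, one_mul]⟩
  · exact ⟨3, by simp [four]⟩
  · exact ⟨2, by rw [← hk, (a 1 2).eq, mul_assoc, q, mul_one]⟩
  · exact ⟨1, by rw [← hk, mul_assoc, q, mul_one]⟩
  · exact ⟨0, q 3⟩

theorem AltFour.four_inj (h : AltFour v s) : Function.Injective (four v s) := fun i j e => by
  have h1 : v ≠ 1 := fun e => by have := h.hv; rw [e, orderOf_one] at this; norm_num at this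
  have h2 : ∀ k, four v s k ≠ 1 → s * four v s k * s⁻¹ ≠ four v s k := fun k hk he => by
    -- a fixed element would fix all three
    have e' := h.four_conj k
    rw [he] at e'
    have p := h.four_prod k
    rw [← e', h.four_sq, one_mul] at p
    have e2 := h.four_conj_sq k
    rw [p, show s * s * four v s k * (s * s)⁻¹ = s * (s * four v s k * s⁻¹) * s⁻¹ by group, he, he] at e2
    exact hk e2
  have w1 : four v s 2 ≠ 1 := fun e => h1 (by
    have e' : s * v * s⁻¹ = 1 := e
    exact conj_eq_one_iff.1 e')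
  have w2 : four v s 3 ≠ 1 := fun e => h1 (by
    have e' : s * (s * v * s⁻¹) * s⁻¹ = 1 := h.third.trans e
    exact conj_eq_one_iff.1 (conj_eq_one_iff.1 e'))
  have d12 : four v s 1 ≠ four v s 2 := fun e => h2 1 h1 ((h.four_conj 1).trans e.symm)
  have d23 : four v s 2 ≠ four v s 3 := fun e => h2 2 w1 ((h.four_conj 2).trans e.symm)
  have d31 : four v s 3 ≠ four v s 1 := fun e => h2 3 w2 ((h.four_conj 3).trans e.symm)
  have z : four v s 0 = 1 := rfl
  have w0 : four v s 1 ≠ 1 := h1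
  fin_cases i <;> fin_cases j <;> simp only [Fin.reduceFinMk] at e ⊢ <;>
    first
      | rfl
      | exact absurd e d12 | exact absurd e d12.symm | exact absurd e d23 | exact absurd e d23.symm
      | exact absurd e d31 | exact absurd e d31.symm
      | exact absurd (e.trans z) w0 | exact absurd (e.trans z) w1 | exact absurd (e.trans z) w2
      | exact absurd (e.symm.trans z) w0 | exact absurd (e.symm.trans z) w1 | exact absurd (e.symm.trans z) w2

variable [Fintype G]

/-- The four group. -/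
def AltFour.sub (h : AltFour v s) : Subgroup G where
  carrier := Set.range (four v s)
  one_mem' := ⟨0, rfl⟩
  mul_mem' := by
    rintro _ _ ⟨i, rfl⟩ ⟨j, rfl⟩
    obtain ⟨k, hk⟩ := h.four_mul i j
    exact ⟨k, hk.symm⟩
  inv_mem' := by
    rintro _ ⟨i, rfl⟩
    exact ⟨i, (inv_eq_of_mul_eq_one_left (h.four_sq i)).symm⟩

/-- Averages at powers of a commuting element against the sign character with kernel `⟨v⟩`. -/
theorem exists_roots_four {χ : G → ℂ} (hχ : IsCharacter G χ) (h : AltFour v s) (g : G)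
    (hgv : Commute g v) (hgs : Commute g s) :
    ∃ (m : ℕ) (z : Fin m → ℂ), (∀ i, z i ^ orderOf g = 1) ∧ ∀ k : ℕ,
      4 * ∑ i, z i ^ k = χ (g ^ k) + χ (g ^ k * four v s 1) - χ (g ^ k * four v s 2) -
        χ (g ^ k * four v s 3) := by
  let e : Fin 4 ≃ h.sub := Equiv.ofBijective (fun i => ⟨four v s i, i, rfl⟩)
    ⟨fun i j hij => h.four_inj (congrArg Subtype.val hij), fun ⟨_, i, hi⟩ => ⟨i, Subtype.ext hi⟩⟩
  haveI : Fintype h.sub := Fintype.ofEquiv _ e
  let f : Fin 4 → ℂ := ![1, 1, -1, -1]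
  have hh : ∀ i j k, four v s i * four v s j = four v s k → f k = f i * f j := by
    intro i j k hk
    have hj := fun i j => h.four_mul i j
    have key : ∀ k', four v s i * four v s j = four v s k' → f k' = f i * f j → f k = f i * f j :=
      fun k' h1 h2 => by rw [h.four_inj (hk.symm.trans h1)]; exact h2
    have hk3 : four v s 1 * four v s 2 = four v s 3 := rfl
    have q := h.four_sq
    have a := h.four_comm
    fin_cases i <;> fin_cases j <;> simp only [Fin.reduceFinMk] at *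
    · exact key 0 (by simp [four]) (by simp [f])
    · exact key 1 (by simp [four]) (by simp [f])
    · exact key 2 (by simp [four]) (by simp [f])
    · exact key 3 (by simp [four]) (by simp [f])
    · exact key 1 (by simp [four]) (by simp [f])
    · exact key 0 (q 1) (by simp [f])
    · exact key 3 hk3 (by simp [f])
    · exact key 2 (by rw [← hk3, ← mul_assoc, q, one_mul]) (by simp [f])
    · exact key 2 (by simp [four]) (by simp [f])
    · exact key 3 (by rw [(a 2 1).eq, hk3]) (by simp [f])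
    · exact key 0 (q 2) (by simp [f])
    · exact key 1 (by rw [← hk3, (a 1 2).eq, ← mul_assoc, q, one_mul]) (by simp [f])
    · exact key 3 (by simp [four]) (by simp [f])
    · exact key 2 (by rw [← hk3, (a 1 2).eq, mul_assoc, q, mul_one]) (by simp [f])
    · exact key 1 (by rw [← hk3, mul_assoc, q, mul_one]) (by simp [f])
    · exact key 0 (q 3) (by simp [f])
  let μ : h.sub →* ℂ :=
    { toFun := fun u => f (e.symm u)
      map_one' := by
        rw [show (1 : h.sub) = e 0 from Subtype.ext rfl, e.symm_apply_apply]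
        rfl
      map_mul' := fun a b => by
        obtain ⟨i, rfl⟩ := e.surjective a
        obtain ⟨j, rfl⟩ := e.surjective b
        obtain ⟨k, hk⟩ := h.four_mul i j
        rw [show e i * e j = e k from Subtype.ext hk, e.symm_apply_apply, e.symm_apply_apply, e.symm_apply_apply]
        exact hh i j k hk }
  obtain ⟨m, z, hz, hk⟩ := exists_roots_avg hχ h.sub μ g fun u => by
    obtain ⟨i, rfl⟩ := e.surjective u
    show Commute g (four v s i)
    fin_cases i <;> simp only [four, Matrix.cons_val, Fin.reduceFinMk]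
    exacts [Commute.one_right g, hgv, (hgs.mul_right hgv).mul_right hgs.inv_right,
      hgv.mul_right ((hgs.mul_right hgv).mul_right hgs.inv_right)]
  refine ⟨m, z, hz, fun k => ?_⟩
  rw [← hk k, avg, ← e.sum_comp, Fintype.card_congr e.symm, Fintype.card_fin, Fin.sum_univ_four]
  have hi : ∀ i, (e i)⁻¹ = e i := fun i => Subtype.ext (inv_eq_of_mul_eq_one_left (h.four_sq i))
  have hμ : ∀ i, μ (e i)⁻¹ = f i := fun i => by
    rw [hi]; show f (e.symm (e i)) = f i; rw [e.symm_apply_apply]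
  simp only [hμ]
  have he : ∀ i, (e i : G) = four v s i := fun i => rfl
  simp only [he, show four v s 0 = 1 from rfl, mul_one]
  simp [f]
  ring

/-- The element `n s n⁻¹`. -/
def FiveData.t (D : FiveData G) : G := D.n * D.s * D.n⁻¹

/-- The representatives of the class of `y s` in the centraliser of `y`, up to the four group. -/
def FiveData.rep (D : FiveData G) : Fin 4 → ℕ × G := ![(1, D.s), (2, D.t), (4, D.s), (3, D.t)]

/-- The members of the class of `y s` commuting with `y`. -/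
def FiveData.cls (D : FiveData G) : Finset G :=
  Finset.univ.image fun p : Fin 4 × Fin 4 => D.y ^ (D.rep p.1).1 * (four D.v D.s p.2 * (D.rep p.1).2)

variable (D : FiveData G)

theorem FiveData.y5 : D.y ^ 5 = 1 := D.hy ▸ pow_orderOf_eq_one D.y

theorem FiveData.y_mod (i : ℕ) : D.y ^ i = D.y ^ (i % 5) := by rw [← D.hy, pow_mod_orderOf]

theorem FiveData.yfour (j : Fin 4) : Commute D.y (four D.v D.s j) := by
  fin_cases j <;> simp only [four, Matrix.cons_val, Fin.reduceFinMk]
  exacts [Commute.one_right _, D.yv, (D.ys.mul_right D.yv).mul_right D.ys.inv_right,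
    D.yv.mul_right ((D.ys.mul_right D.yv).mul_right D.ys.inv_right)]

theorem FiveData.six (j : Fin 4) (b : ℕ) : (four D.v D.s j * D.s ^ b) ^ 6 = 1 := by
  have h3 := D.alt.s3
  rw [show D.s ^ b = D.s ^ (b % 3) by rw [← D.alt.hs, pow_mod_orderOf]]
  have hlt : b % 3 < 3 := Nat.mod_lt _ (by norm_num)
  interval_cases b % 3
  · rw [pow_zero, mul_one, show (6 : ℕ) = 2 * 3 from rfl, pow_mul, pow_two, D.alt.four_sq, one_pow]
  · rw [pow_one, show (6 : ℕ) = 3 * 2 from rfl, pow_mul, (D.alt.cube j).1, one_pow]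
  · rw [pow_two D.s, show (6 : ℕ) = 3 * 2 from rfl, pow_mul, (D.alt.cube j).2, one_pow]

theorem FiveData.t_cases : D.t = D.s ∨ D.t = D.s⁻¹ := D.ns

theorem FiveData.n_t : D.n * D.t * D.n⁻¹ = D.s := by
  rcases D.t_cases with h | h
  · rw [h]; exact h
  · rw [h, show D.n * D.s⁻¹ * D.n⁻¹ = (D.n * D.s * D.n⁻¹)⁻¹ by group]
    show D.t⁻¹ = D.s
    rw [h, inv_inv]

theorem FiveData.n_pow (i : ℕ) : D.n * D.y ^ i * D.n⁻¹ = D.y ^ (2 * i % 5) := by
  rw [← conj_pow, D.ny, ← pow_mul, ← D.y_mod]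

theorem FiveData.n_four (j : Fin 4) : ∃ k, D.n * four D.v D.s j * D.n⁻¹ = four D.v D.s k := by
  have hv : D.n * D.v * D.n⁻¹ = four D.v D.s 1 := D.nv
  have hw : ∃ k, D.n * four D.v D.s 2 * D.n⁻¹ = four D.v D.s k := by
    have e : D.n * four D.v D.s 2 * D.n⁻¹ = D.t * D.v * D.t⁻¹ := by
      show D.n * (D.s * D.v * D.s⁻¹) * D.n⁻¹ = _
      rw [FiveData.t]
      conv_rhs => arg 1; arg 2; rw [← D.nv]
      group
    rcases D.t_cases with h | h
    · exact ⟨2, by rw [e, h]; rfl⟩
    · refine ⟨3, ?_⟩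
      rw [e, h]
      have h2 : D.s⁻¹ = D.s * D.s := (eq_inv_of_mul_eq_one_left (by rw [← pow_two, ← pow_succ, D.alt.s3])).symm
      rw [h2]
      exact D.alt.four_conj_sq 1
  obtain ⟨k, hk⟩ := hw
  fin_cases j <;> simp only [Fin.reduceFinMk]
  · exact ⟨0, by simp [four]⟩
  · exact ⟨1, hv⟩
  · exact ⟨k, hk⟩
  · obtain ⟨l, hl⟩ := D.alt.four_mul 1 k
    refine ⟨l, ?_⟩
    rw [← hl, ← hk, ← hv, show four D.v D.s 3 = D.v * four D.v D.s 2 from rfl]
    group

/-- Conjugates of `s` under the centraliser of `y`. -/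
theorem FiveData.cent_conj {c : G} (hc : Commute D.y c) :
    ∃ k, c * D.s * c⁻¹ = four D.v D.s k * D.s := by
  obtain ⟨i, j, b, rfl⟩ := D.dec c hc
  obtain ⟨k, hk⟩ := D.alt.four_mul j (![0, 2, 3, 1] j)
  refine ⟨k, ?_⟩
  have hsb : Commute (D.s ^ (b : ℕ)) D.s := (Commute.refl D.s).pow_left _
  have hyk : Commute (D.y ^ (i : ℕ)) (four D.v D.s k * D.s) := ((D.yfour k).mul_right D.ys).pow_left _
  rw [show D.y ^ (i : ℕ) * (four D.v D.s j * D.s ^ (b : ℕ)) * D.s *
      (D.y ^ (i : ℕ) * (four D.v D.s j * D.s ^ (b : ℕ)))⁻¹ = D.y ^ (i : ℕ) * (four D.v D.s j *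
        (D.s ^ (b : ℕ) * D.s * (D.s ^ (b : ℕ))⁻¹) * (four D.v D.s j)⁻¹) * (D.y ^ (i : ℕ))⁻¹ by group,
    hsb.eq, mul_inv_cancel_right, inv_eq_of_mul_eq_one_left (D.alt.four_sq j),
    show four D.v D.s j * D.s * four D.v D.s j = four D.v D.s j * (D.s * four D.v D.s j * D.s⁻¹) * D.s by
      group,
    D.alt.four_conj, hk, hyk.eq, mul_inv_cancel_right]

theorem FiveData.rep_next (i : Fin 4) : (D.rep (i + 1)).1 = 2 * (D.rep i).1 % 5 ∧
    D.n * (D.rep i).2 * D.n⁻¹ = (D.rep (i + 1)).2 := by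
  fin_cases i <;> simp [FiveData.rep, Matrix.cons_val_one, Matrix.cons_val_zero] <;>
    first | exact rfl | exact D.n_t

theorem FiveData.mem_cls (k : G) : k ∈ D.cls ↔ IsConj (D.y * D.s) k ∧ Commute D.y k := by
  constructor
  · intro hk
    simp only [FiveData.cls, Finset.mem_image, Finset.mem_univ, true_and, Prod.exists] at hk
    obtain ⟨i, j, rfl⟩ := hk
    have hQ : ∀ i, Commute D.y (D.rep i).2 := fun i => by
      fin_cases i <;> simp [FiveData.rep] <;>
        first | exact D.ys | (rcases D.t_cases with h | h <;> rw [h]; exacts [D.ys, D.ys.inv_right])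
    refine ⟨?_, ((Commute.refl D.y).pow_right _).mul_right ((D.yfour j).mul_right (hQ i))⟩
    have hconj : ∀ i : Fin 4, IsConj (D.y * D.s) (D.y ^ (D.rep i).1 * (D.rep i).2) := by
      have h0 : IsConj (D.y * D.s) (D.y ^ (D.rep 0).1 * (D.rep 0).2) := isConj_iff.2 ⟨1, by simp [FiveData.rep]⟩
      have hs : ∀ i, IsConj (D.y * D.s) (D.y ^ (D.rep i).1 * (D.rep i).2) →
          IsConj (D.y * D.s) (D.y ^ (D.rep (i + 1)).1 * (D.rep (i + 1)).2) := fun i h =>
        h.trans (isConj_iff.2 ⟨D.n, by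
          obtain ⟨e1, e2⟩ := D.rep_next i
          rw [show D.n * (D.y ^ (D.rep i).1 * (D.rep i).2) * D.n⁻¹ =
            (D.n * D.y ^ (D.rep i).1 * D.n⁻¹) * (D.n * (D.rep i).2 * D.n⁻¹) by group, D.n_pow, ← e1, e2]⟩)
      intro i
      fin_cases i
      exacts [h0, hs 0 h0, hs 1 (hs 0 h0), hs 2 (hs 1 (hs 0 h0))]
    refine (hconj i).trans ?_
    obtain ⟨w, hw⟩ : ∃ w, four D.v D.s w * (D.rep i).2 * (four D.v D.s w)⁻¹ =
        four D.v D.s j * (D.rep i).2 := by
      have hcase : (D.rep i).2 = D.s ∨ (D.rep i).2 = D.s⁻¹ := by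
        fin_cases i <;> simp [FiveData.rep] <;> exact D.t_cases
      rcases hcase with h | h <;> rw [h]
      · exact D.alt.coset_conj j
      · obtain ⟨w, hw⟩ := D.alt.coset_conj ((![0, 2, 3, 1] : Fin 4 → Fin 4) j)
        refine ⟨w, ?_⟩
        have hinv := congrArg (·⁻¹) hw
        simp only [mul_inv_rev, inv_inv] at hinv
        rw [← mul_assoc] at hinv
        rw [hinv, inv_eq_of_mul_eq_one_left (D.alt.four_sq _), ← D.alt.four_conj]
        group
    refine isConj_iff.2 ⟨four D.v D.s w, ?_⟩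
    rw [show four D.v D.s w * (D.y ^ (D.rep i).1 * (D.rep i).2) * (four D.v D.s w)⁻¹ =
      (four D.v D.s w * D.y ^ (D.rep i).1 * (four D.v D.s w)⁻¹) *
        (four D.v D.s w * (D.rep i).2 * (four D.v D.s w)⁻¹) by group, hw,
      ((D.yfour w).symm.pow_right _).eq, mul_inv_cancel_right]
  · rintro ⟨hk, hyk⟩
    obtain ⟨g, rfl⟩ := isConj_iff.1 hk
    -- closure under conjugation
    have hclosN : ∀ k ∈ D.cls, D.n * k * D.n⁻¹ ∈ D.cls := by
      intro k hk
      simp only [FiveData.cls, Finset.mem_image, Finset.mem_univ, true_and, Prod.exists] at hk ⊢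
      obtain ⟨i, j, rfl⟩ := hk
      obtain ⟨l, hl⟩ := D.n_four j
      obtain ⟨e1, e2⟩ := D.rep_next i
      refine ⟨i + 1, l, ?_⟩
      rw [e1, ← D.n_pow, ← hl, ← e2]
      group
    have hC : ∀ c, Commute D.y c → c * (D.y * D.s) * c⁻¹ ∈ D.cls := fun c hc => by
      obtain ⟨l, hl⟩ := D.cent_conj hc
      simp only [FiveData.cls, Finset.mem_image, Finset.mem_univ, true_and, Prod.exists]
      refine ⟨0, l, ?_⟩
      rw [show c * (D.y * D.s) * c⁻¹ = (c * D.y * c⁻¹) * (c * D.s * c⁻¹) by group, hl, hc.symm.eq,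
        mul_inv_cancel_right]
      simp [FiveData.rep]
    have hNm : ∀ (m : ℕ) (k : G), k ∈ D.cls → D.n ^ m * k * (D.n ^ m)⁻¹ ∈ D.cls := by
      intro m
      induction m with
      | zero => intro k hk; simpa using hk
      | succ m ih =>
        intro k hk
        rw [show D.n ^ (m + 1) * k * (D.n ^ (m + 1))⁻¹ = D.n * (D.n ^ m * k * (D.n ^ m)⁻¹) * D.n⁻¹ by
          rw [pow_succ']; group]
        exact hclosN _ (ih k hk)
    obtain ⟨i, j, b, hdec⟩ := D.dec _ hyk
    have h6 := congrArg (· ^ 6) hdec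
    simp only [conj_pow] at h6
    rw [D.ys.mul_pow, ((D.yfour j).mul_right (D.ys.pow_right _)).pow_left (i : ℕ) |>.mul_pow, D.six, mul_one,
      show D.s ^ 6 = 1 by rw [show (6 : ℕ) = 3 * 2 from rfl, pow_mul, D.alt.s3, one_pow], mul_one,
      ← pow_mul, D.y_mod (i * 6), D.y_mod 6, pow_one] at h6
    have hi0 : (i : ℕ) ≠ 0 := fun e => by
      rw [e] at h6
      simp at h6
      have := D.hy
      rw [h6, orderOf_one] at this
      norm_num at this
    have hnm : ∀ m : ℕ, D.n ^ m * D.y * (D.n ^ m)⁻¹ = D.y ^ (2 ^ m % 5) := by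
      intro m
      induction m with
      | zero => simp
      | succ m ih =>
        rw [show D.n ^ (m + 1) * D.y * (D.n ^ (m + 1))⁻¹ = D.n * (D.n ^ m * D.y * (D.n ^ m)⁻¹) * D.n⁻¹ by
          rw [pow_succ']; group, ih, D.n_pow, pow_succ]
        congr 1
        omega
    obtain ⟨m, hm⟩ : ∃ m : ℕ, 2 ^ m % 5 = (i : ℕ) * 6 % 5 := by
      have := i.2
      have h' : (i : ℕ) = 1 ∨ (i : ℕ) = 2 ∨ (i : ℕ) = 3 ∨ (i : ℕ) = 4 := by omega
      rcases h' with e | e | e | e <;> rw [e]
      exacts [⟨0, rfl⟩, ⟨1, rfl⟩, ⟨3, rfl⟩, ⟨2, rfl⟩]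
    set c := (D.n ^ m)⁻¹ * g with hcdef
    have hc : Commute D.y c := by
      have e : g * D.y * g⁻¹ = D.n ^ m * D.y * (D.n ^ m)⁻¹ := by rw [hnm, hm]; exact h6
      show D.y * c = c * D.y
      calc D.y * c = (D.n ^ m)⁻¹ * (D.n ^ m * D.y * (D.n ^ m)⁻¹) * g := by rw [hcdef]; group
        _ = c * D.y := by rw [← e, hcdef]; group
    have := hNm m _ (hC c hc)
    rwa [show D.n ^ m * (c * (D.y * D.s) * c⁻¹) * (D.n ^ m)⁻¹ = g * (D.y * D.s) * g⁻¹ by
      rw [hcdef]; group] at this

end CfsgLib.MTwentyFourUnique
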