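import Cfsg.Agent.Lib.MTwentyFourUnique.Extra
import Mathlib

/-!
The centraliser of an element of order five: a product with the alternating group of degree four.
-/

set_option autoImplicit false
set_option linter.style.haveILetI false

noncomputable section

namespace CfsgLib.MTwentyFourUnique

open Subgroup

variable {G : Type*} [Group G]

/-- Four elements made from an involution and an element of order three. -/
def four (v s : G) : Fin 4 → G := ![1, v, s * v * s⁻¹, v * (s * v * s⁻¹)]

/-- The relations making `v`, `s` generators of an alternating group of degree four. -/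
structure AltFour (v s : G) : Prop where
  hv : orderOf v = 2
  hs : orderOf s = 3
  comm : Commute v (s * v * s⁻¹)
  third : s * (s * v * s⁻¹) * s⁻¹ = v * (s * v * s⁻¹)

variable {v s : G}

theorem AltFour.vv (h : AltFour v s) : v * v = 1 := by
  rw [← pow_two, ← h.hv]; exact pow_orderOf_eq_one v

theorem AltFour.s3 (h : AltFour v s) : s ^ 3 = 1 := h.hs ▸ pow_orderOf_eq_one s

theorem AltFour.ww (h : AltFour v s) : s * v * s⁻¹ * (s * v * s⁻¹) = 1 := by
  rw [show s * v * s⁻¹ * (s * v * s⁻¹) = s * (v * v) * s⁻¹ by group, h.vv]; group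

theorem AltFour.four_comm (h : AltFour v s) (i j : Fin 4) : Commute (four v s i) (four v s j) := by
  have a : Commute v (v * (s * v * s⁻¹)) := (Commute.refl v).mul_right h.comm
  have b : Commute (s * v * s⁻¹) (v * (s * v * s⁻¹)) := h.comm.symm.mul_right (Commute.refl _)
  fin_cases i <;> fin_cases j <;> simp only [four, Matrix.cons_val, Fin.reduceFinMk, Fin.isValue]
  exacts [Commute.refl _, Commute.one_left _, Commute.one_left _, Commute.one_left _, Commute.one_right _,
    Commute.refl _, h.comm, a, Commute.one_right _, h.comm.symm, Commute.refl _, b, Commute.one_right _,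
    a.symm, b.symm, Commute.refl _]

theorem AltFour.four_sq (h : AltFour v s) (i : Fin 4) : four v s i * four v s i = 1 := by
  fin_cases i <;> simp only [four, Matrix.cons_val, Fin.reduceFinMk, Fin.isValue]
  · simp
  · exact h.vv
  · exact h.ww
  · rw [mul_assoc, ← mul_assoc (s * v * s⁻¹) v, ← h.comm.eq, mul_assoc v, ← mul_assoc, h.vv, one_mul, h.ww]

theorem AltFour.four_conj (h : AltFour v s) (i : Fin 4) :
    s * four v s i * s⁻¹ = four v s (![0, 2, 3, 1] i) := by
  have h2 : s * s * s = 1 := by rw [← pow_two, ← pow_succ, h.s3]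
  fin_cases i <;> simp only [four, Matrix.cons_val, Fin.reduceFinMk, Fin.isValue]
  · simp
  · exact h.third
  · rw [← h.third, show s * (s * (s * v * s⁻¹) * s⁻¹) * s⁻¹ = (s * s * s) * v * (s * s * s)⁻¹ by group, h2]
    simp

theorem AltFour.four_mul_v (h : AltFour v s) (i : Fin 4) : four v s i * v = four v s (![1, 0, 3, 2] i) := by
  fin_cases i <;> simp only [four, Matrix.cons_val, Fin.reduceFinMk, Fin.isValue]
  · simp
  · exact h.vv
  · exact h.comm.eq.symm
  · rw [mul_assoc, ← h.comm.eq, ← mul_assoc, h.vv, one_mul]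

theorem AltFour.four_prod (h : AltFour v s) (i : Fin 4) :
    four v s i * four v s (![0, 2, 3, 1] i) * four v s (![0, 3, 1, 2] i) = 1 := by
  have hk : four v s 1 * four v s 2 * four v s 3 = 1 := h.four_sq 3
  have a := h.four_comm
  fin_cases i <;> simp only [Matrix.cons_val, Fin.reduceFinMk, Fin.isValue]
  · simp [four]
  · exact hk
  · rw [← ((a 1 2).mul_right (a 1 3)).eq, ← mul_assoc]; exact hk
  · rw [mul_assoc, ((a 3 1).mul_right (a 3 2)).eq]; exact hk

/-- Conjugation by `s ^ j`. -/
theorem AltFour.four_conj_sq (h : AltFour v s) (i : Fin 4) :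
    s * s * four v s i * (s * s)⁻¹ = four v s (![0, 3, 1, 2] i) := by
  rw [show s * s * four v s i * (s * s)⁻¹ = s * (s * four v s i * s⁻¹) * s⁻¹ by group, h.four_conj,
    h.four_conj]
  fin_cases i <;> rfl

theorem AltFour.cube (h : AltFour v s) (i : Fin 4) :
    (four v s i * s) ^ 3 = 1 ∧ (four v s i * (s * s)) ^ 3 = 1 := by
  have h2 : s * s * s = 1 := by rw [← pow_two, ← pow_succ, h.s3]
  constructor
  · rw [show (four v s i * s) ^ 3 = four v s i * (s * four v s i * s⁻¹) * (s * s * four v s i * (s * s)⁻¹) *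
      (s * s * s) by simp only [pow_succ, pow_zero, one_mul, mul_inv_rev, mul_assoc, inv_mul_cancel_left],
      h.four_conj, h.four_conj_sq, h.four_prod, h2, one_mul]
  · have e : ∀ a : G, s * s * (s * s) * a * (s * s * (s * s))⁻¹ = s * a * s⁻¹ := fun a => by
      rw [show s * s * (s * s) = s by rw [← mul_assoc, h2, one_mul]]
    rw [show (four v s i * (s * s)) ^ 3 = four v s i * (s * s * four v s i * (s * s)⁻¹) *
      (s * s * (s * s) * four v s i * (s * s * (s * s))⁻¹) * (s * s * s * (s * s * s)) by
        simp only [pow_succ, pow_zero, one_mul, mul_inv_rev, mul_assoc, inv_mul_cancel_left],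
      e, h.four_conj_sq, h.four_conj, mul_assoc (four v s i), (h.four_comm (![0, 3, 1, 2] i) _).eq, ← mul_assoc (four v s i),
      h.four_prod,
      h2, one_mul, one_mul]

/-- The coset `V s` is one orbit under conjugation by `V`. -/
theorem AltFour.coset_conj (h : AltFour v s) (i : Fin 4) :
    ∃ j : Fin 4, four v s j * s * (four v s j)⁻¹ = four v s i * s := by
  refine ⟨(![0, 2, 3, 1] : Fin 4 → Fin 4) i, ?_⟩
  have hi : ∀ j, (four v s j)⁻¹ = four v s j := fun j => inv_eq_of_mul_eq_one_left (h.four_sq j)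
  rw [hi, show ∀ a : G, a * s * a = a * (s * a * s⁻¹) * s from fun a => by group, h.four_conj]
  congr 1
  have hk : four v s 1 * four v s 2 = four v s 3 := rfl
  fin_cases i <;> simp only [Matrix.cons_val, Fin.reduceFinMk, Fin.isValue]
  · simp [four]
  · show four v s 2 * four v s 3 = four v s 1
    rw [← hk, (h.four_comm 1 2).eq, ← mul_assoc, h.four_sq, one_mul]
  · show four v s 3 * four v s 1 = four v s 2
    rw [← hk, (h.four_comm 1 2).eq, mul_assoc, h.four_sq, mul_one]
  · exact hk

/-- An element of order five with generators of its centraliser and an element squaring it. -/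
structure FiveData (G : Type*) [Group G] where
  /-- the element of order five -/
  y : G
  /-- an involution -/
  v : G
  /-- an element of order three -/
  s : G
  /-- an element squaring `y` -/
  n : G
  hy : orderOf y = 5
  alt : AltFour v s
  yv : Commute y v
  ys : Commute y s
  dec : ∀ k : G, Commute y k → ∃ (i : Fin 5) (j : Fin 4) (b : Fin 3),
    k = y ^ (i : ℕ) * (four v s j * s ^ (b : ℕ))
  cy : Nat.card (centralizer ({y} : Set G)) = 60
  cyv : Nat.card (centralizer ({y * v} : Set G)) = 20
  cys : Nat.card (centralizer ({y * s} : Set G)) = 15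
  ny : n * y * n⁻¹ = y ^ 2
  nv : n * v * n⁻¹ = v
  ns : n * s * n⁻¹ = s ∨ n * s * n⁻¹ = s⁻¹

/-- The normalizer moves an element of order five to its square. -/
theorem five_fusion [Finite G] (hL : Local G) {y : G} (hy : orderOf y = 5) :
    ∃ g : G, g * y * g⁻¹ = y ^ 2 := by
  obtain ⟨hC, hN⟩ := hL.five y hy
  set C := centralizer ({y} : Set G) with hCdef
  set N := normalizer ((zpowers y : Subgroup G) : Set G) with hNdef
  have hCN : C ≤ N := by
    rw [hCdef, hNdef, ← centralizer_closure, ← zpowers_eq_closure]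
    exact centralizer_le_normalizer _
  have hidx : (C.subgroupOf N).index = 4 := by
    have h := (C.subgroupOf N).card_mul_index
    rw [Nat.card_congr (subgroupOfEquivOfLe hCN).toEquiv, hC, hN] at h
    omega
  by_contra hne
  push_neg at hne
  have h5 : y ^ 5 = 1 := hy ▸ pow_orderOf_eq_one y
  have hmod : ∀ i : ℕ, y ^ i = y ^ (i % 5) := fun i => by rw [← hy, pow_mod_orderOf]
  have hone : ∀ g ∈ N, g * y * g⁻¹ = y ∨ g * y * g⁻¹ = y ^ 4 := fun g hg => by
    obtain ⟨k, hk⟩ := ((isOfFinOrder_of_finite y).mem_powers_iff_mem_zpowers).2 ((hg y).1 (mem_zpowers y))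
    simp only at hk
    rw [hmod] at hk
    have hlt : k % 5 < 5 := Nat.mod_lt _ (by norm_num)
    interval_cases hr : k % 5
    · have : y = 1 := by
        rw [pow_zero] at hk
        exact conj_eq_one_iff.1 hk.symm
      rw [this, orderOf_one] at hy
      norm_num at hy
    · exact Or.inl (by rw [← hk, pow_one])
    · exact absurd hk.symm (hne g)
    · exfalso
      refine hne (g * (g * g)) ?_
      rw [show g * (g * g) * y * (g * (g * g))⁻¹ = g * (g * (g * y * g⁻¹) * g⁻¹) * g⁻¹ by group, ← hk,
        ← conj_pow, ← hk, ← pow_mul, ← conj_pow, ← hk, ← pow_mul, hmod]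
    · exact Or.inr hk.symm
  have hmem : ∀ g : G, g ∈ C ↔ g * y * g⁻¹ = y := fun g => by
    rw [mul_inv_eq_iff_eq_mul]; exact mem_centralizer_singleton_iff
  obtain ⟨a, haN, haC⟩ : ∃ a ∈ N, a ∉ C := by
    by_contra hh
    push_neg at hh
    have h := card_dvd_of_le (fun g hg => hh g hg : N ≤ C)
    rw [hC, hN] at h
    norm_num at h
  have ha := (hone a haN).resolve_left fun h => haC ((hmem a).2 h)
  have h2 : (C.subgroupOf N).index = 2 := by
    refine Subgroup.index_eq_two_iff.2 ⟨⟨a, haN⟩, fun b => ?_⟩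
    simp only [mem_subgroupOf, Subgroup.coe_mul]
    rcases hone b b.2 with hb | hb
    · refine Or.inr ⟨(hmem _).2 hb, fun h => haC ?_⟩
      have := C.mul_mem (C.inv_mem ((hmem _).2 hb)) h
      rwa [inv_mul_cancel_left] at this
    · refine Or.inl ⟨(hmem _).2 ?_, fun h => ?_⟩
      · rw [show (b : G) * a * y * ((b : G) * a)⁻¹ = b * (a * y * a⁻¹) * (b : G)⁻¹ by group, ha, ← conj_pow, hb,
          ← pow_mul, hmod, pow_one]
      · rw [(hmem _).1 h] at hb
        have h3 : y ^ 3 = 1 := by
          have := congrArg (y⁻¹ * ·) hb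
          simpa [pow_succ'] using this.symm
        have := orderOf_dvd_of_pow_eq_one h3
        rw [hy] at this
        norm_num at this
  omega

/-- The data exist at every element of order five. -/
theorem exists_fiveData_at [Fintype G] (hL : Local G) (hE : Extra G) {y : G} (hy : orderOf y = 5) :
    ∃ D : FiveData G, D.y = y := by
  classical
  haveI : Fact (Nat.Prime 2) := ⟨Nat.prime_two⟩
  haveI : Fact (Nat.Prime 3) := ⟨Nat.prime_three⟩
  haveI : Fact (Nat.Prime 5) := ⟨by norm_num⟩
  set C := centralizer ({y} : Set G) with hC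
  have cy := (hL.five y hy).1
  have hmem : ∀ k : G, k ∈ C ↔ Commute y k := fun k =>
    mem_centralizer_singleton_iff.trans ⟨fun h => (show Commute k y from h).symm, fun h => h.symm⟩
  obtain ⟨⟨v, hvC⟩, hv⟩ := exists_prime_orderOf_dvd_card' (G := C) 2 (by rw [cy]; norm_num)
  obtain ⟨⟨s, hsC⟩, hs⟩ := exists_prime_orderOf_dvd_card' (G := C) 3 (by rw [cy]; norm_num)
  rw [Subgroup.orderOf_mk] at hv hs
  have yv : Commute y v := (hmem v).1 hvC
  have ys : Commute y s := (hmem s).1 hsC
  have hoc : ∀ g a : G, orderOf (g * a * g⁻¹) = orderOf a := fun g a =>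
    orderOf_injective (MulAut.conj g).toMonoidHom (MulAut.conj g).injective a
  have hs3 : s ^ 3 = 1 := hs ▸ pow_orderOf_eq_one s
  have h2 : s * s * s = 1 := by rw [← pow_two, ← pow_succ, hs3]
  have no6 : ∀ u, Commute y u → orderOf u = 2 → ¬ Commute u s := fun u hu ou hus =>
    hE.six_five y (u * s) hy (hu.mul_right ys)
      (by rw [hus.orderOf_mul_eq_mul_orderOf_of_coprime (by rw [ou, hs]; norm_num), ou, hs])
  set w := s * v * s⁻¹ with hw
  set z := s * w * s⁻¹ with hz
  have yw : Commute y w := (ys.mul_right yv).mul_right ys.inv_right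
  have yz : Commute y z := (ys.mul_right yw).mul_right ys.inv_right
  have ow : orderOf w = 2 := by rw [hw, hoc, hv]
  have oz : orderOf z = 2 := by rw [hz, hoc, ow]
  have dvw : v ≠ w := fun e => no6 v yv hv (by
    rw [hw] at e; exact (mul_inv_eq_iff_eq_mul.1 e.symm).symm)
  have dwz : w ≠ z := fun e => no6 w yw ow (by
    rw [hz] at e; exact (mul_inv_eq_iff_eq_mul.1 e.symm).symm)
  have dvz : v ≠ z := fun e => by
    refine dvw ?_
    have : s * v * s⁻¹ = s * z * s⁻¹ := by rw [← e]
    rw [← hw, hz, hw, show s * (s * (s * v * s⁻¹) * s⁻¹) * s⁻¹ = (s * s * s) * v * (s * s * s)⁻¹ by group,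
      h2] at this
    simpa [hw] using this.symm
  have hS : Finset.univ.filter (fun g => Commute y g ∧ orderOf g = 2) = {v, w, z} := by
    symm
    refine Finset.eq_of_subset_of_card_le (fun g hg => ?_) (le_of_eq ?_)
    · simp only [Finset.mem_insert, Finset.mem_singleton] at hg
      rcases hg with rfl | rfl | rfl
      exacts [by simp [yv, hv], by simp [yw, ow], by simp [yz, oz]]
    · rw [Finset.card_eq_three.2 ⟨v, w, z, dvw, dvz, dwz, rfl⟩, ← hE.inv_five y hy,
        ← Fintype.card_subtype, ← Nat.card_eq_fintype_card]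
      exact Nat.card_congr
        { toFun := fun g => ⟨⟨g.1, (hmem _).2 g.2.1⟩, by rw [Subgroup.orderOf_mk]; exact g.2.2⟩
          invFun := fun g => ⟨g.1.1, (hmem _).1 g.1.2, by rw [Subgroup.orderOf_coe]; exact g.2⟩
          left_inv := fun g => rfl
          right_inv := fun g => rfl }
  have invs : ∀ g : G, Commute y g → orderOf g = 2 → g = v ∨ g = w ∨ g = z := fun g hg og => by
    have : g ∈ Finset.univ.filter (fun g => Commute y g ∧ orderOf g = 2) := by simp [hg, og]
    rw [hS] at this
    simpa using this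
  -- the involutions commute
  obtain ⟨P, hP⟩ := IsPGroup.exists_le_sylow (p := 2) (P := zpowers (⟨v, hvC⟩ : C))
    (IsPGroup.of_card (n := 1) (by rw [Nat.card_zpowers, Subgroup.orderOf_mk, hv, pow_one]))
  have hP4 : Nat.card P = 2 ^ 2 := by
    rw [P.card_eq_multiplicity, cy]
    congr 1
    rw [show (60 : ℕ) = 2 ^ 2 * 15 by norm_num, Nat.factorization_mul (by norm_num) (by norm_num),
      Nat.Prime.factorization_pow Nat.prime_two]
    simp [Nat.factorization_eq_zero_of_not_dvd (show ¬ 2 ∣ 15 by norm_num)]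
  have hab := IsPGroup.isMulCommutative_of_card_eq_prime_sq hP4
  obtain ⟨q, hqP, hqv⟩ : ∃ q ∈ (P : Subgroup C), q ∉ zpowers (⟨v, hvC⟩ : C) := by
    by_contra hne
    push_neg at hne
    have h := card_dvd_of_le (fun g hg => hne g hg : (P : Subgroup C) ≤ _)
    rw [Nat.card_zpowers, Subgroup.orderOf_mk, hv, hP4] at h
    norm_num at h
  have hqc : Commute v (q : G) := by
    have h := hab.is_comm.comm (⟨⟨v, hvC⟩, hP (mem_zpowers _)⟩ : P) ⟨q, hqP⟩
    exact congrArg (fun g : P => ((g : C) : G)) h
  have yq : Commute y (q : G) := (hmem _).1 q.2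
  have hsome : Commute v w ∨ Commute v z := by
    have hq4 : (q : G) ^ 4 = 1 := by
      have h := orderOf_dvd_natCard (⟨q, hqP⟩ : P)
      rw [Subgroup.orderOf_mk, ← Subgroup.orderOf_coe] at h
      replace h := h.trans (dvd_of_eq hP4)
      exact orderOf_dvd_iff_pow_eq_one.1 h
    have hq1 : (q : G) ≠ 1 := fun h => hqv (by
      rw [Subtype.ext (show (q : G) = ((1 : C) : G) from h)]; exact one_mem _)
    have hqv' : (q : G) ≠ v := fun h => hqv (by
      rw [show q = ⟨v, hvC⟩ from Subtype.ext h]; exact mem_zpowers _)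
    by_cases hq2 : (q : G) ^ 2 = 1
    · rcases invs _ yq (orderOf_eq_prime hq2 hq1) with h | h | h
      · exact absurd h hqv'
      · exact Or.inl (h ▸ hqc)
      · exact Or.inr (h ▸ hqc)
    · have o : orderOf ((q : G) ^ 2) = 2 := orderOf_eq_prime (by rw [← pow_mul, hq4]) hq2
      rcases invs _ (yq.pow_right 2) o with h | h | h
      · refine Or.inl ?_
        have yq' : Commute y ((q : G) * w * (q : G)⁻¹) := (yq.mul_right yw).mul_right yq.inv_right
        have hqne : (q : G) * w * (q : G)⁻¹ ≠ v := fun e => dvw (by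
          have e2 : (q : G) * v * (q : G)⁻¹ = v := by rw [hqc.symm.eq, mul_inv_cancel_right]
          exact (mul_left_cancel (mul_right_cancel (e.trans e2.symm))).symm)
        rw [← h]
        show (q : G) ^ 2 * w = w * (q : G) ^ 2
        rw [← mul_inv_eq_iff_eq_mul, show (q : G) ^ 2 * w * ((q : G) ^ 2)⁻¹ =
          (q : G) * ((q : G) * w * (q : G)⁻¹) * (q : G)⁻¹ by
            simp only [pow_two, mul_inv_rev, mul_assoc]]
        rcases invs _ yq' (by rw [hoc, ow]) with e | e | e
        · exact absurd e hqne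
        · rw [e, e]
        · rw [e]
          rcases invs _ ((yq.mul_right yz).mul_right yq.inv_right) (by rw [hoc, oz] : orderOf ((q : G) * z * (q : G)⁻¹) = 2)
            with e' | e' | e'
          · exfalso
            refine dvz ?_
            have e2 : (q : G) * v * (q : G)⁻¹ = v := by rw [hqc.symm.eq, mul_inv_cancel_right]
            exact (mul_left_cancel (mul_right_cancel (e'.trans e2.symm))).symm
          · exact e'
          · exact absurd (mul_left_cancel (mul_right_cancel (e'.trans e.symm))).symm dwz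
      · exact Or.inl (h ▸ hqc.pow_right 2)
      · exact Or.inr (h ▸ hqc.pow_right 2)
  have hsw : s * z * s⁻¹ = v := by
    rw [hz, hw, show s * (s * (s * v * s⁻¹) * s⁻¹) * s⁻¹ = (s * s * s) * v * (s * s * s)⁻¹ by group, h2]
    simp
  have comm : Commute v w := hsome.elim id fun h => by
    have h1 : Commute (s * v * s⁻¹) (s * z * s⁻¹) := h.conj s
    rw [hsw, ← hw] at h1
    exact h1.symm
  have third : z = v * w := by
    have o : orderOf (v * w) = 2 := by
      refine orderOf_eq_prime ?_ fun h => dvw ?_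
      · rw [comm.mul_pow, ← hv, pow_orderOf_eq_one, one_mul, hv, ← ow, pow_orderOf_eq_one]
      · have e : w⁻¹ = w := inv_eq_of_mul_eq_one_left (by rw [← pow_two, ← ow, pow_orderOf_eq_one])
        rw [← e]
        exact eq_inv_of_mul_eq_one_left h
    rcases invs _ (yv.mul_right yw) o with h | h | h
    · rw [mul_eq_left] at h; rw [h, orderOf_one] at ow; norm_num at ow
    · rw [mul_eq_right] at h; rw [h, orderOf_one] at hv; norm_num at hv
    · exact h.symm
  have halt : AltFour v s := ⟨hv, hs, comm, third⟩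
  have hy5 : y ^ 5 = 1 := hy ▸ pow_orderOf_eq_one y
  have hymod : ∀ i : ℕ, y ^ i = y ^ (i % 5) := fun i => by rw [← hy, pow_mod_orderOf]
  have hyu : ∀ j, Commute y (four v s j) := fun j => by
    fin_cases j <;> simp only [four, Matrix.cons_val, Fin.reduceFinMk, Fin.isValue]
    exacts [Commute.one_right y, yv, yw, yv.mul_right yw]
  have hya : ∀ (j : Fin 4) (b : ℕ), Commute y (four v s j * s ^ b) := fun j b =>
    (hyu j).mul_right (ys.pow_right b)
  have six : ∀ (j : Fin 4) (b : Fin 3), (four v s j * s ^ (b : ℕ)) ^ 6 = 1 := fun j b => by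
    fin_cases b
    · simp only [pow_zero, mul_one]
      rw [show (6 : ℕ) = 2 * 3 from rfl, pow_mul, pow_two, halt.four_sq, one_pow]
    · rw [pow_one, show (6 : ℕ) = 3 * 2 from rfl, pow_mul, (halt.cube j).1, one_pow]
    · rw [pow_two s, show (6 : ℕ) = 3 * 2 from rfl, pow_mul, (halt.cube j).2, one_pow]
  have finj : Function.Injective (four v s) := fun a b h => by
    have d1 : (1 : G) ≠ v := fun e => by rw [← e, orderOf_one] at hv; norm_num at hv
    have d2 : (1 : G) ≠ w := fun e => by rw [← e, orderOf_one] at ow; norm_num at ow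
    have d3 : (1 : G) ≠ z := fun e => by rw [← e, orderOf_one] at oz; norm_num at oz
    have hv' : four v s = ![1, v, w, z] := by rw [third]; rfl
    rw [hv'] at h
    fin_cases a <;> fin_cases b <;>
      simp [d1, d2, d3, d1.symm, d2.symm, d3.symm, dvw, dvw.symm, dvz, dvz.symm, dwz, dwz.symm] at h ⊢
  set F : Fin 5 × Fin 4 × Fin 3 → C := fun p =>
    ⟨y ^ (p.1 : ℕ) * (four v s p.2.1 * s ^ (p.2.2 : ℕ)),
      (hmem _).2 (((Commute.refl y).pow_right _).mul_right (hya _ _))⟩ with hF
  have hFi : Function.Injective F := by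
    rintro ⟨i, j, b⟩ ⟨i', j', b'⟩ h
    have h0 : y ^ (i : ℕ) * (four v s j * s ^ (b : ℕ)) = y ^ (i' : ℕ) * (four v s j' * s ^ (b' : ℕ)) :=
      congrArg Subtype.val h
    have h6 := congrArg (· ^ 6) h0
    simp only [((hya j b).pow_left _).mul_pow, ((hya j' b').pow_left _).mul_pow, six, mul_one, ← pow_mul] at h6
    rw [pow_inj_mod, hy] at h6
    have hi : i = i' := Fin.ext (by omega)
    subst hi
    replace h0 := mul_left_cancel h0
    have e : (four v s j')⁻¹ * four v s j = s ^ (b' : ℕ) * (s ^ (b : ℕ))⁻¹ := by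
      rw [eq_mul_inv_iff_mul_eq, mul_assoc, h0, inv_mul_cancel_left]
    have e2 : ((four v s j')⁻¹ * four v s j) ^ 2 = 1 := by
      rw [((halt.four_comm j' j).inv_left).mul_pow, inv_pow, pow_two, pow_two, halt.four_sq, halt.four_sq]
      simp
    rw [e, ((Commute.refl s).pow_pow _ _).inv_right.mul_pow, inv_pow, mul_inv_eq_one, ← pow_mul, ← pow_mul,
      pow_inj_mod, hs] at e2
    have hb : b = b' := Fin.ext (by omega)
    subst hb
    rw [finj (mul_right_cancel h0)]
  have hFb : Function.Bijective F := by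
    refine (Fintype.bijective_iff_injective_and_card F).2 ⟨hFi, ?_⟩
    rw [← Nat.card_eq_fintype_card (α := C), cy]
    simp
  have dec : ∀ k : G, Commute y k → ∃ (i : Fin 5) (j : Fin 4) (b : Fin 3),
      k = y ^ (i : ℕ) * (four v s j * s ^ (b : ℕ)) := fun k hk => by
    obtain ⟨⟨i, j, b⟩, h⟩ := hFb.2 ⟨k, (hmem k).2 hk⟩
    exact ⟨i, j, b, (congrArg Subtype.val h).symm⟩
  have hv2 : v ^ 2 = 1 := by rw [pow_two]; exact halt.vv
  -- the centralisers of products
  have cyv : Nat.card (centralizer ({y * v} : Set G)) = 20 := by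
    have hp6 : (y * v) ^ 6 = y := by
      rw [yv.mul_pow, hymod, show (6 : ℕ) = 2 * 3 from rfl, pow_mul v, hv2]; simp
    set F' : Fin 5 × Fin 4 → centralizer ({y * v} : Set G) := fun p =>
      ⟨y ^ (p.1 : ℕ) * four v s p.2, mem_centralizer_singleton_iff.2 (Commute.eq (Commute.symm
        ((((Commute.refl y).pow_right _).mul_right (hyu _)).mul_left
          ((yv.symm.pow_right _).mul_right (halt.four_comm 1 _)))))⟩ with hF'
    rw [← Nat.card_eq_of_bijective F' ⟨fun p q h => ?_, fun ⟨k, hk⟩ => ?_⟩]
    · simp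
    · have h' : y ^ (p.1 : ℕ) * four v s p.2 = y ^ (q.1 : ℕ) * four v s q.2 := congrArg Subtype.val h
      have := @hFi (p.1, p.2, 0) (q.1, q.2, 0) (Subtype.ext (by simpa [hF] using h'))
      simpa [Prod.ext_iff] using this
    · have hk1 : Commute (y * v) k := (show Commute k (y * v) from mem_centralizer_singleton_iff.1 hk).symm
      have hky : Commute y k := by have := hk1.pow_left 6; rwa [hp6] at this
      have hkv : Commute v k := by
        have h := hky.inv_left.mul_left hk1
        rwa [inv_mul_cancel_left] at h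
      obtain ⟨i, j, b, rfl⟩ := dec k hky
      have hb : Commute v (s ^ (b : ℕ)) := by
        have h := (halt.four_comm 1 j).inv_right.mul_right ((yv.symm.pow_right (i : ℕ)).inv_right.mul_right hkv)
        rwa [inv_mul_cancel_left, inv_mul_cancel_left] at h
      fin_cases b
      · exact ⟨(i, j), Subtype.ext (by simp [hF'])⟩
      · exact absurd (by simpa using hb) (no6 v yv hv)
      · refine absurd ?_ (no6 v yv hv)
        have h := hb.mul_right hb
        simpa [pow_two, show s * s * (s * s) = s by rw [← mul_assoc, h2, one_mul]] using h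
  have cys : Nat.card (centralizer ({y * s} : Set G)) = 15 := by
    have hp6 : (y * s) ^ 6 = y := by
      rw [ys.mul_pow, hymod, show (6 : ℕ) = 3 * 2 from rfl, pow_mul s, hs3]; simp
    set F' : Fin 5 × Fin 3 → centralizer ({y * s} : Set G) := fun p =>
      ⟨y ^ (p.1 : ℕ) * s ^ (p.2 : ℕ), mem_centralizer_singleton_iff.2 (Commute.eq (Commute.symm
        ((((Commute.refl y).pow_right _).mul_right (ys.pow_right _)).mul_left
          ((ys.symm.pow_right _).mul_right ((Commute.refl s).pow_right _)))))⟩ with hF'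
    rw [← Nat.card_eq_of_bijective F' ⟨fun p q h => ?_, fun ⟨k, hk⟩ => ?_⟩]
    · simp
    · have h' : y ^ (p.1 : ℕ) * s ^ (p.2 : ℕ) = y ^ (q.1 : ℕ) * s ^ (q.2 : ℕ) := congrArg Subtype.val h
      have := @hFi (p.1, 0, p.2) (q.1, 0, q.2) (Subtype.ext (by simpa [hF, four] using h'))
      simpa [Prod.ext_iff] using this
    · have hk1 : Commute (y * s) k := (show Commute k (y * s) from mem_centralizer_singleton_iff.1 hk).symm
      have hky : Commute y k := by have := hk1.pow_left 6; rwa [hp6] at this
      have hks : Commute s k := by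
        have h := hky.inv_left.mul_left hk1
        rwa [inv_mul_cancel_left] at h
      obtain ⟨i, j, b, rfl⟩ := dec k hky
      have hj : Commute s (four v s j) := by
        have h := ((ys.symm.pow_right (i : ℕ)).inv_right.mul_right hks).mul_right
          ((Commute.refl s).pow_right (b : ℕ)).inv_right
        rwa [inv_mul_cancel_left, mul_inv_cancel_right] at h
      obtain rfl : j = 0 := by
        by_contra hj0
        refine no6 _ (hyu j) (orderOf_eq_prime (by rw [pow_two]; exact halt.four_sq j) fun e => ?_) hj.symm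
        exact hj0 (finj (e.trans (rfl : (1 : G) = four v s 0)))
      exact ⟨(i, b), Subtype.ext (by simp [hF', four])⟩
  -- the element squaring
  obtain ⟨g, hg⟩ := five_fusion hL hy
  have hgC : ∀ k, Commute y k → Commute y (g * k * g⁻¹) := fun k hk => by
    have h1 : Commute (g * y * g⁻¹) (g * k * g⁻¹) := hk.conj g
    rw [hg] at h1
    have h2 := h1.pow_left 3
    rwa [← pow_mul, hymod, pow_one] at h2
  obtain ⟨c, hcy, hcv⟩ : ∃ c : G, Commute y c ∧ c * (g * v * g⁻¹) * c⁻¹ = v := by
    rcases invs _ (hgC v yv) (by rw [hoc, hv]) with e | e | e <;> rw [e]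
    · exact ⟨1, Commute.one_right y, by simp⟩
    · refine ⟨s * s, ys.mul_right ys, ?_⟩
      rw [hw, show s * s * (s * v * s⁻¹) * (s * s)⁻¹ = (s * s * s) * v * (s * s * s)⁻¹ by group, h2]
      simp
    · exact ⟨s, ys, hsw⟩
  set n₁ := c * g with hn₁
  have hn1y : n₁ * y * n₁⁻¹ = y ^ 2 := by
    rw [hn₁, show c * g * y * (c * g)⁻¹ = c * (g * y * g⁻¹) * c⁻¹ by group, hg, (hcy.symm.pow_right 2).eq,
      mul_inv_cancel_right]
  have hn1v : n₁ * v * n₁⁻¹ = v := by
    rw [hn₁, show c * g * v * (c * g)⁻¹ = c * (g * v * g⁻¹) * c⁻¹ by group, hcv]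
  have hn1s : Commute y (n₁ * s * n₁⁻¹) := by
    rw [hn₁, show c * g * s * (c * g)⁻¹ = c * (g * s * g⁻¹) * c⁻¹ by group]
    exact (hcy.mul_right (hgC s ys)).mul_right hcy.inv_right
  obtain ⟨i, j, b, hk⟩ := dec _ hn1s
  have os : orderOf (n₁ * s * n₁⁻¹) = 3 := by rw [hoc, hs]
  have hi : i = 0 := by
    have h6 : (n₁ * s * n₁⁻¹) ^ 6 = 1 := by rw [show 6 = 3 * 2 from rfl, pow_mul, ← os, pow_orderOf_eq_one, one_pow]
    rw [hk, ((hya j b).pow_left _).mul_pow, six, mul_one, ← pow_mul] at h6
    have := orderOf_dvd_of_pow_eq_one h6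
    rw [hy] at this
    exact Fin.ext (by simp; omega)
  subst hi
  simp only [Fin.val_zero, pow_zero, one_mul] at hk
  have hb : b ≠ 0 := by
    rintro rfl
    simp only [Fin.val_zero, pow_zero, mul_one] at hk
    have h2' : (n₁ * s * n₁⁻¹) ^ 2 = 1 := by rw [hk, pow_two, halt.four_sq]
    have := orderOf_dvd_of_pow_eq_one h2'
    rw [os] at this
    norm_num at this
  have hbc : s ^ (b : ℕ) = s ∨ s ^ (b : ℕ) = s * s := by
    fin_cases b
    · exact absurd rfl hb
    · exact Or.inl (pow_one s)
    · exact Or.inr (pow_two s)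
  have hinvf : ∀ j, (four v s j)⁻¹ = four v s j := fun j => inv_eq_of_mul_eq_one_left (halt.four_sq j)
  -- remove the part in the four-group
  obtain ⟨u, hu⟩ : ∃ u : Fin 4, four v s u * (four v s j * s ^ (b : ℕ)) * (four v s u)⁻¹ = s ^ (b : ℕ) := by
    rcases hbc with e | e <;> rw [e]
    · obtain ⟨u, hu⟩ := halt.coset_conj j
      refine ⟨u, ?_⟩
      rw [← hu, hinvf]
      calc four v s u * (four v s u * s * four v s u) * four v s u
          = (four v s u * four v s u) * s * (four v s u * four v s u) := by simp only [mul_assoc]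
        _ = s := by rw [halt.four_sq, one_mul, mul_one]
    · obtain ⟨u, hu⟩ := halt.coset_conj ((![0, 2, 3, 1] : Fin 4 → Fin 4) j)
      refine ⟨u, ?_⟩
      have e1 : four v s j * (s * s) = (four v s ((![0, 2, 3, 1] : Fin 4 → Fin 4) j) * s)⁻¹ := by
        rw [mul_inv_rev, hinvf, ← halt.four_conj,
          show s⁻¹ * (s * four v s j * s⁻¹) = four v s j * s⁻¹ by group,
          eq_inv_of_mul_eq_one_left h2]
      rw [e1, ← hu, hinvf, eq_inv_of_mul_eq_one_left h2]
      calc four v s u * (four v s u * s * four v s u)⁻¹ * four v s u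
          = (four v s u * four v s u) * s⁻¹ * (four v s u * four v s u) := by
            simp only [mul_inv_rev, hinvf, mul_assoc]
        _ = s⁻¹ := by rw [halt.four_sq, one_mul, mul_one]
  refine ⟨{ y := y, v := v, s := s, n := four v s u * n₁, hy := hy, alt := halt, yv := yv, ys := ys
            dec := dec, cy := cy, cyv := cyv, cys := cys, ny := ?_, nv := ?_, ns := ?_ }, rfl⟩
  · rw [show four v s u * n₁ * y * (four v s u * n₁)⁻¹ = four v s u * (n₁ * y * n₁⁻¹) * (four v s u)⁻¹ by group,
      hn1y, ((hyu u).symm.pow_right 2).eq, mul_inv_cancel_right]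
  · rw [show four v s u * n₁ * v * (four v s u * n₁)⁻¹ = four v s u * (n₁ * v * n₁⁻¹) * (four v s u)⁻¹ by group,
      hn1v, show four v s u * v = v * four v s u from halt.four_comm u 1, mul_inv_cancel_right]
  · rw [show four v s u * n₁ * s * (four v s u * n₁)⁻¹ = four v s u * (n₁ * s * n₁⁻¹) * (four v s u)⁻¹ by group,
      hk, hu]
    rcases hbc with e | e
    · exact Or.inl e
    · exact Or.inr (by rw [e]; exact eq_inv_of_mul_eq_one_left h2)

/-- The data exist. -/
theorem exists_fiveData [Fintype G] (hL : Local G) (hE : Extra G) : Nonempty (FiveData G) := by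
  haveI : Fact (Nat.Prime 5) := ⟨by norm_num⟩
  obtain ⟨y, hy⟩ := exists_prime_orderOf_dvd_card' (G := G) 5 (by rw [hL.card]; norm_num)
  obtain ⟨D, -⟩ := exists_fiveData_at hL hE hy
  exact ⟨D⟩

end CfsgLib.MTwentyFourUnique
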