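import Cfsg.Prelude.Def_Sporadic
import Mathlib

/-!
The local facts at 5, 7, 11 and 23 expected of a group of order 244823040 identified with the Mathieu group
of degree 24.
-/

set_option autoImplicit false

namespace CfsgLib.MTwentyFourUnique

open Subgroup

/-- The order, simplicity and the Sylow normalizers at 5, 7, 11, 23. -/
structure Local (G : Type*) [Group G] : Prop where
  card : Nat.card G = 244823040
  simple : IsSimpleGroup G
  twentyThree : ∀ x : G, orderOf x = 23 → Nat.card (centralizer ({x} : Set G)) = 23 ∧
    Nat.card (normalizer ((zpowers x : Subgroup G) : Set G)) = 253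
  eleven : ∀ x : G, orderOf x = 11 → Nat.card (centralizer ({x} : Set G)) = 11 ∧
    Nat.card (normalizer ((zpowers x : Subgroup G) : Set G)) = 110
  seven : ∀ x : G, orderOf x = 7 → Nat.card (centralizer ({x} : Set G)) = 42 ∧
    Nat.card (normalizer ((zpowers x : Subgroup G) : Set G)) = 126
  five : ∀ x : G, orderOf x = 5 → Nat.card (centralizer ({x} : Set G)) = 60 ∧
    Nat.card (normalizer ((zpowers x : Subgroup G) : Set G)) = 240

end CfsgLib.MTwentyFourUnique
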