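import Cfsg.Agent.Lib.MTwentyFourUnique.Degree23
import Mathlib

/-!
A subgroup of index twenty-four: the stabiliser of a vector in the representation of degree twenty-three.
-/

set_option autoImplicit false
set_option linter.style.haveILetI false

noncomputable section

namespace CfsgLib.MTwentyFourUnique

open Subgroup Cfsg CfsgLib.InvolChar
open scoped ComplexConjugate Pointwise
/-- The only possible order. -/
theorem order_table : ∀ a ∈ List.range 11, ∀ b ∈ List.range 4, ∀ c ∈ List.range 2,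
    (1265 * (2 ^ a * 3 ^ b * 7 ^ c)) < 244823040 → (1265 * (2 ^ a * 3 ^ b * 7 ^ c)) / 253 % 23 = 1 →
    ((([55, 110] : List ℕ).any fun N => decide ((1265 * (2 ^ a * 3 ^ b * 7 ^ c)) % N = 0 ∧ (1265 * (2 ^ a * 3 ^ b * 7 ^ c)) / N % 11 = 1)) = true) →
    ((([5, 10, 15, 20, 30, 40, 60, 80, 120, 240] : List ℕ).any fun N => decide ((1265 * (2 ^ a * 3 ^ b * 7 ^ c)) % N = 0 ∧ (1265 * (2 ^ a * 3 ^ b * 7 ^ c)) / N % 5 = 1)) = true) →
    (c = 0 ∨ (([7, 14, 21, 42, 63, 126] : List ℕ).any fun N => decide ((1265 * (2 ^ a * 3 ^ b * 7 ^ c)) % N = 0 ∧ (1265 * (2 ^ a * 3 ^ b * 7 ^ c)) / N % 7 = 1)) = true) →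
    (1265 * (2 ^ a * 3 ^ b * 7 ^ c)) = 10200960 := by
  decide +kernel

/-- The divisors in question. -/
theorem dvd_lists : (∀ n ∈ List.range 241, 240 % n = 0 → n % 5 = 0 → n ∈ [5, 10, 15, 20, 30, 40, 60, 80, 120, 240]) ∧
    (∀ n ∈ List.range 127, 126 % n = 0 → n % 7 = 0 → n ∈ [7, 14, 21, 42, 63, 126]) ∧
    ∀ n ∈ List.range 111, 110 % n = 0 → n % 55 = 0 → n ∈ [55, 110] := by decide +kernel

attribute [local instance] Classical.propDecidable

universe w

variable {G : Type w} [Group G] [Fintype G]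

theorem deg_ne_irrOne {χ : IrrCharacter G} (hd : deg χ = 23) : χ ≠ CfsgLib.Char.irrOne := fun e => by
  rw [e, deg_irrOne] at hd
  norm_num at hd

/-- The value at an element of order eleven. -/
theorem value_eleven (hL : Local G) {χ : IrrCharacter G} (hd : deg χ = 23) {x : G} (hx : orderOf x = 11) :
    (χ : G → ℂ) x = 1 := by
  obtain ⟨B⟩ := exists_blk11 hL
  by_cases hX : χ ∈ B.X
  · rw [B.val_X χ hX x hx]
    have := B.deg_X χ hX
    have := B.s_sq χ hX
    rw [hd] at *
    have h : B.s χ = 1 := by omega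
    rw [h, Int.cast_one]
  have hY : χ ∈ B.Y := by
    by_contra hY
    have := B.out_dvd χ hX hY
    rw [hd] at this
    omega
  have hf : B.f = 23 := (B.deg_Y χ hY).symm.trans hd
  have hε : B.ε = -1 := by
    have := B.deg_f
    have := B.ε_sq
    rw [hf] at *
    omega
  obtain ⟨θ, hθ⟩ := Finset.card_eq_one.mp (B.card_Y.trans (by norm_num : (11 - 1) / 10 = 1))
  obtain rfl : χ = θ := by rw [hθ] at hY; exact Finset.mem_singleton.mp hY
  have hsum := CfsgLib.Char.sum_degree_mul_apply x
  rw [if_neg (fun e => by rw [e, orderOf_one] at hx; norm_num at hx)] at hsum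
  rw [← Finset.sum_subset (Finset.subset_univ (B.X ∪ B.Y)) fun ψ _ h => by
      rw [Finset.notMem_union] at h
      rw [B.out_zero ψ h.1 h.2 x hx, mul_zero],
    Finset.sum_union B.disj, hθ, Finset.sum_singleton] at hsum
  have hrel := B.rel χ hY 1 (by rw [orderOf_one]; norm_num)
  rw [Finset.sum_congr rfl (g := fun ψ => (B.s ψ : ℂ) * (ψ : G → ℂ) 1) fun ψ hψ => by
      rw [B.val_X ψ hψ x hx, mul_comm], ← hrel, deg_spec, hd, hε] at hsum
  push_cast at hsum
  linear_combination hsum / 23

/-- The value at an element of order twenty-three. -/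
theorem value_twentyThree (hL : Local G) {χ : IrrCharacter G} (hd : deg χ = 23) {x : G} (hx : orderOf x = 23) :
    (χ : G → ℂ) x = 0 := by
  obtain ⟨B⟩ := exists_blk23 hL
  have hX : χ ∉ B.X := fun h => by
    have := B.deg_X χ h
    have := B.s_sq χ h
    rw [hd] at *
    omega
  have hY : χ ∉ B.Y := fun h => by
    have h1 := B.deg_f
    have h2 := B.ε_sq
    rw [← B.deg_Y χ h, hd] at h1
    omega
  exact B.out_zero χ hX hY x hx

/-- The elements of order five generate conjugate subgroups. -/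
theorem value_five_eq (hL : Local G) (χ : IrrCharacter G) {x x' : G} (hx : orderOf x = 5) (hx' : orderOf x' = 5) :
    (χ : G → ℂ) x = (χ : G → ℂ) x' := by
  haveI : Fact (Nat.Prime 5) := ⟨by norm_num⟩
  have hval : ∀ k : ℕ, k % 5 ≠ 0 → (χ : G → ℂ) (x ^ k) = (χ : G → ℂ) x := by
    obtain ⟨g, hg⟩ := five_fusion hL hx
    have h2 : IsConj x (x ^ 2) := isConj_iff.2 ⟨g, hg⟩
    have h4 : IsConj (x ^ 2) (x ^ 4) := by have := h2.pow 2; rwa [← pow_mul] at this
    have h3 : IsConj (x ^ 4) (x ^ 3) := by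
      have := h4.pow 2
      rwa [← pow_mul, ← pow_mul, ← pow_mod_orderOf x (4 * 2), hx] at this
    have e := fun {a b : G} (h : IsConj a b) => CfsgLib.MTwelveUnique.eq_of_isConj χ h
    intro k hk
    rw [← pow_mod_orderOf, hx]
    have hlt : k % 5 < 5 := Nat.mod_lt _ (by norm_num)
    interval_cases hr : k % 5
    · exact absurd rfl hk
    · rw [pow_one]
    · exact (e h2).symm
    · exact (((e h2).trans (e h4)).trans (e h3)).symm
    · exact ((e h2).trans (e h4)).symm
  have hS : ∀ {y : G}, orderOf y = 5 → ∃ P : Sylow 5 G, (P : Subgroup G) = zpowers y := fun {y} hy => by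
    obtain ⟨P, hP⟩ := (IsPGroup.of_card (p := 5) (n := 1) (by rw [Nat.card_zpowers, hy, pow_one]) :
      IsPGroup 5 (zpowers y)).exists_le_sylow
    refine ⟨P, (Subgroup.eq_of_le_of_card_ge hP ?_).symm⟩
    have h5 : Nat.card (P : Subgroup G) = 5 := by
      simpa using CfsgLib.SmallGroups.card_sylow_eq (p := 5) (hL.card.trans (by norm_num :
        (244823040 : ℕ) = 5 ^ 1 * 48964608)) (by norm_num) P
    rw [h5, Nat.card_zpowers, hy]
  obtain ⟨P, hP⟩ := hS hx
  obtain ⟨P', hP'⟩ := hS hx'
  obtain ⟨c, hc⟩ := MulAction.exists_smul_eq G P' P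
  have hm : c * x' * c⁻¹ ∈ zpowers x := by
    rw [← hP, ← hc, Sylow.coe_subgroup_smul]
    exact ⟨x', by rw [SetLike.mem_coe, hP']; exact mem_zpowers x', by simp⟩
  obtain ⟨k, hk⟩ := ((isOfFinOrder_of_finite x).mem_powers_iff_mem_zpowers).2 hm
  simp only at hk
  rw [CfsgLib.MTwelveUnique.eq_of_isConj χ (isConj_iff.2 ⟨c, rfl⟩ : IsConj x' (c * x' * c⁻¹)), ← hk, hval]
  intro h0
  rw [← pow_mod_orderOf, hx, h0, pow_zero] at hk
  rw [conj_eq_one_iff.1 hk.symm, orderOf_one] at hx'
  norm_num at hx'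

/-- The value at an element of order five, up to two cases. -/
theorem value_five (hL : Local G) {χ : IrrCharacter G} (hd : deg χ = 23) {x : G} (hx : orderOf x = 5) :
    (χ : G → ℂ) x = 3 ∨ (χ : G → ℂ) x = -2 := by
  haveI : Fact (Nat.Prime 5) := ⟨by norm_num⟩
  have hval : ∀ i : ℕ, 0 < i → i < 5 → (χ : G → ℂ) (x ^ i) = (χ : G → ℂ) x := fun i h0 h5 => by
    refine (value_five_eq hL χ ?_ hx)
    rw [(isOfFinOrder_of_finite x).orderOf_pow, hx,
      show Nat.gcd 5 i = 1 from ((Nat.Prime.coprime_iff_not_dvd (by norm_num)).2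
        (fun h => absurd (Nat.le_of_dvd h0 h) (by omega)))]
  set a := (χ : G → ℂ) x
  have key : ∀ w : ℂ, w ^ 5 = 1 → ∃ m : ℕ, (5 : ℂ) * m =
      23 + a * ((w ^ 1)⁻¹ + (w ^ 2)⁻¹ + (w ^ 3)⁻¹ + (w ^ 4)⁻¹) := fun w hw => by
    obtain ⟨m, z, hz, hk⟩ := exists_roots_cyclic (CfsgLib.Char.isCharacter_of_isIrr χ.2) 1 x (Commute.one_left x)
      (w := w) (by rw [hx]; exact hw)
    refine ⟨m, ?_⟩
    have k0 := hk 0
    simp only [pow_zero, Finset.sum_const, Finset.card_univ, Fintype.card_fin, nsmul_eq_mul, mul_one, one_mul,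
      hx] at k0
    push_cast at k0
    rw [k0]
    simp only [Finset.sum_range_succ, Finset.sum_range_zero, zero_add]
    rw [hval 2 (by norm_num) (by norm_num), hval 3 (by norm_num) (by norm_num),
      hval 4 (by norm_num) (by norm_num)]
    simp only [pow_zero, pow_one, deg_spec, hd, inv_one, mul_one, a]
    push_cast
    ring
  obtain ⟨m, hm⟩ := key 1 (one_pow 5)
  obtain ⟨m', hm'⟩ := key (zeta 5) (zeta_pow 5)
  have hinv : ((zeta 5) ^ 1)⁻¹ + ((zeta 5) ^ 2)⁻¹ + ((zeta 5) ^ 3)⁻¹ + ((zeta 5) ^ 4)⁻¹ = -1 := by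
    have h5 := zeta_pow 5
    rw [inv_eq_of_mul_eq_one_right (b := zeta 5 ^ 4) (by rw [← pow_add, h5]),
      inv_eq_of_mul_eq_one_right (b := zeta 5 ^ 3) (by rw [← pow_add, h5]),
      inv_eq_of_mul_eq_one_right (b := zeta 5 ^ 2) (by rw [← pow_add, h5]),
      inv_eq_of_mul_eq_one_right (b := zeta 5 ^ 1) (by rw [← pow_add, h5])]
    linear_combination five_sum
  rw [hinv] at hm'
  norm_num at hm
  have ha : a = ((23 - 5 * (m' : ℤ) : ℤ) : ℂ) := by push_cast; linear_combination hm'
  have horth := CfsgLib.Char.second_orthogonality x x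
  rw [if_pos (IsConj.refl x), (hL.five x hx).1] at horth
  have hle : Complex.normSq a ≤ 60 := by
    have h := congrArg Complex.re horth
    rw [Complex.re_sum] at h
    have hterm : ∀ ψ : IrrCharacter G, ((ψ : G → ℂ) x * conj ((ψ : G → ℂ) x)).re = Complex.normSq ((ψ : G → ℂ) x) :=
      fun ψ => by rw [Complex.mul_conj]; simp
    rw [Finset.sum_congr rfl fun ψ _ => hterm ψ] at h
    norm_num at h
    rw [← h]
    exact Finset.single_le_sum (f := fun ψ : IrrCharacter G => Complex.normSq ((ψ : G → ℂ) x))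
      (fun ψ _ => Complex.normSq_nonneg _) (Finset.mem_univ χ)
  rw [ha] at hle
  have hle' : ((23 - 5 * (m' : ℤ) : ℤ) : ℝ) * ((23 - 5 * (m' : ℤ) : ℤ) : ℝ) ≤ 60 := by
    have : Complex.normSq (((23 - 5 * (m' : ℤ) : ℤ) : ℝ) : ℂ) ≤ 60 := by simpa using hle
    rwa [Complex.normSq_ofReal] at this
  have hle'' : (23 - 5 * (m' : ℤ)) * (23 - 5 * (m' : ℤ)) ≤ 60 := by exact_mod_cast hle'
  have hm5 : (5 : ℤ) * m = 23 + 4 * (23 - 5 * (m' : ℤ)) := by
    have h : (((5 : ℤ) * m : ℤ) : ℂ) = ((23 + 4 * (23 - 5 * (m' : ℤ)) : ℤ) : ℂ) := by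
      rw [ha] at hm
      push_cast at hm ⊢
      linear_combination hm
    exact_mod_cast h
  have hb : -7 ≤ 23 - 5 * (m' : ℤ) ∧ 23 - 5 * (m' : ℤ) ≤ 7 := by constructor <;> nlinarith
  have : 23 - 5 * (m' : ℤ) = 3 ∨ 23 - 5 * (m' : ℤ) = -2 := by omega
  rcases this with e | e <;> [left; right] <;> rw [ha, e] <;> norm_num

/-- The dimension of the fixed space of a subgroup. -/
theorem finrank_fixed {n : ℕ} (ρ : Representation ℂ G (Fin n → ℂ)) (S : Subgroup G) [Fintype S] :
    (Module.finrank ℂ (Representation.invariants (ρ.comp S.subtype)) : ℂ) * Fintype.card S =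
      ∑ g : S, ρ.character (g : G) := by
  haveI : Invertible (Nat.card S : ℂ) := invertibleOfNonzero (by exact_mod_cast Nat.card_pos.ne')
  have h := FDRep.average_char_eq_finrank_invariants (k := ℂ) (FDRep.of (ρ.comp S.subtype))
  rw [FDRep.of_ρ'] at h
  rw [← h, Nat.card_eq_fintype_card, mul_comm, ← mul_assoc,
    mul_inv_cancel₀ (by exact_mod_cast Fintype.card_pos.ne'), one_mul]
  rfl

/-- The order of a subgroup with the Sylow congruence for an element of prime order. -/
theorem sylow_congr (H : Subgroup G) {p : ℕ} [Fact p.Prime] (hp : ¬ p * p ∣ Nat.card G) {x : G} (hxH : x ∈ H)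
    (hx : orderOf x = p) :
    ∃ N : ℕ, N = Nat.card (normalizer ((zpowers x : Subgroup G) : Set G) ⊓ H : Subgroup G) ∧ N ∣ Nat.card H ∧
      Nat.card H / N % p = 1 := by
  refine ⟨_, rfl, card_dvd_of_le inf_le_right, ?_⟩
  obtain ⟨P, hP⟩ := (IsPGroup.of_card (p := p) (n := 1)
    (by rw [Nat.card_zpowers, Subgroup.orderOf_mk, hx, pow_one]) :
    IsPGroup p (zpowers (⟨x, hxH⟩ : H))).exists_le_sylow
  have hPeq : (P : Subgroup H) = zpowers (⟨x, hxH⟩ : H) := by
    refine (Subgroup.eq_of_le_of_card_ge hP ?_).symm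
    rw [Nat.card_zpowers, Subgroup.orderOf_mk, hx]
    obtain ⟨k, hk⟩ := P.2.exists_card_eq
    rw [hk]
    have hd : p ^ k ∣ Nat.card G := hk ▸ (Subgroup.card_subgroup_dvd_card _).trans (Subgroup.card_subgroup_dvd_card H)
    have hk2 : k < 2 := by
      by_contra h
      exact hp ((pow_two p ▸ pow_dvd_pow p (by omega : 2 ≤ k)).trans hd)
    calc p ^ k ≤ p ^ 1 := Nat.pow_le_pow_right (Fact.out : p.Prime).pos (by omega)
      _ = p := pow_one p
  have hn : normalizer (((P : Subgroup H)) : Set H) =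
      (normalizer ((zpowers x : Subgroup G) : Set G)).subgroupOf H := by
    ext g
    rw [mem_subgroupOf, hPeq]
    have hiff : ∀ y : H, y ∈ zpowers (⟨x, hxH⟩ : H) ↔ (y : G) ∈ zpowers x := fun y => by
      simp only [mem_zpowers_iff, Subtype.ext_iff, SubgroupClass.coe_zpow]
    constructor
    · intro h y
      constructor
      · intro hy
        have hyH : y ∈ H := (zpowers_le.2 hxH) hy
        have := (h ⟨y, hyH⟩).1 ((hiff _).2 hy)
        exact (hiff _).1 this
      · intro hy
        have hyH : y ∈ H := by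
          have := H.mul_mem (H.mul_mem (H.inv_mem g.2) ((zpowers_le.2 hxH) hy)) g.2
          rwa [show (g : G)⁻¹ * ((g : G) * y * (g : G)⁻¹) * g = y by group] at this
        have := (h ⟨y, hyH⟩).2 ((hiff _).2 hy)
        exact (hiff _).1 this
    · intro h y
      rw [SetLike.mem_coe, SetLike.mem_coe, hiff, hiff]
      exact h y
  have hc := card_sylow_modEq_one p H
  rw [Sylow.card_eq_index_normalizer P] at hc
  replace hc : (normalizer (((P : Subgroup H)) : Set H)).index ≡ 1 [MOD p] := hc
  rw [hn] at hc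
  have hmul := ((normalizer ((zpowers x : Subgroup G) : Set G)).subgroupOf H).card_mul_index
  have hcard : Nat.card ((normalizer ((zpowers x : Subgroup G) : Set G)).subgroupOf H) =
      Nat.card (normalizer ((zpowers x : Subgroup G) : Set G) ⊓ H : Subgroup G) := by
    rw [← inf_subgroupOf_right]
    exact Nat.card_congr (subgroupOfEquivOfLe inf_le_right).toEquiv
  rw [hcard] at hmul
  rw [← hmul, Nat.mul_div_cancel_left _ Nat.card_pos]
  rw [Nat.ModEq, Nat.one_mod_eq_one.2 (Fact.out : p.Prime).one_lt.ne'] at hc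
  exact hc

/-- A subgroup of index twenty-four. -/
theorem exists_index24 (hL : Local G) (hE : Extra G) : ∃ H : Subgroup G, H.index = 24 := by
  classical
  haveI := hL.simple
  haveI : Fact (Nat.Prime 5) := ⟨by norm_num⟩
  haveI : Fact (Nat.Prime 7) := ⟨by norm_num⟩
  haveI : Fact (Nat.Prime 11) := ⟨by norm_num⟩
  haveI : Fact (Nat.Prime 23) := ⟨by norm_num⟩
  obtain ⟨χ, hd⟩ := exists_deg_twentyThree hL hE
  obtain ⟨n, ρ, hirr, hρ⟩ := χ.2
  have hn : n = 23 := by
    have h : (χ : G → ℂ) 1 = (n : ℂ) := by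
      rw [← hρ, Representation.char_one]
      simp
    rw [deg_spec, hd] at h
    exact_mod_cast h.symm
  -- the group of order 253
  obtain ⟨u, hu⟩ := exists_prime_orderOf_dvd_card' (G := G) 23 (by rw [hL.card]; norm_num)
  set F := normalizer ((zpowers u : Subgroup G) : Set G) with hFdef
  have hF : Nat.card F = 253 := (hL.twentyThree u hu).2
  have huF : u ∈ F := Subgroup.le_normalizer (mem_zpowers u)
  obtain ⟨⟨h, hhF⟩, hh⟩ := exists_prime_orderOf_dvd_card' (G := F) 11 (by rw [hF]; norm_num)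
  rw [Subgroup.orderOf_mk] at hh
  have hcomm23 : ∀ g : G, Commute u g → orderOf g ∣ 23 := fun g hg => by
    have := Subgroup.orderOf_dvd_natCard (s := centralizer ({u} : Set G)) (mem_centralizer_singleton_iff.2 hg.eq.symm)
    rwa [(hL.twentyThree u hu).1] at this
  have hcomm11 : ∀ g : G, Commute h g → orderOf g ∣ 11 := fun g hg => by
    have := Subgroup.orderOf_dvd_natCard (s := centralizer ({h} : Set G)) (mem_centralizer_singleton_iff.2 hg.eq.symm)
    rwa [(hL.eleven h hh).1] at this
  -- the value at an element of `F`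
  have hFval : ∀ g : F, (χ : G → ℂ) g =
      if (g : G) = 1 then 23 else if (g : G) ∈ zpowers u then 0 else 1 := fun g => by
    by_cases h1 : (g : G) = 1
    · rw [if_pos h1, h1, deg_spec, hd]; norm_num
    rw [if_neg h1]
    have hdv : orderOf (g : G) ∣ 23 * 11 := by
      rw [Subgroup.orderOf_coe, show 23 * 11 = Nat.card F by rw [hF]]
      exact orderOf_dvd_natCard g
    have hne : orderOf (g : G) ≠ 1 := fun e => h1 (orderOf_eq_one_iff.1 e)
    by_cases hg : (g : G) ∈ zpowers u
    · rw [if_pos hg]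
      refine value_twentyThree hL hd ?_
      have := Subgroup.orderOf_dvd_natCard (s := zpowers u) hg
      rw [Nat.card_zpowers, hu] at this
      exact ((Nat.dvd_prime (by norm_num)).1 this).resolve_left hne
    rw [if_neg hg]
    refine value_eleven hL hd ?_
    have hd2 : orderOf (g : G) ∈ Nat.divisors 253 := Nat.mem_divisors.2 ⟨by simpa using hdv, by norm_num⟩
    rw [show Nat.divisors 253 = {1, 11, 23, 253} by decide +kernel] at hd2
    simp only [Finset.mem_insert, Finset.mem_singleton] at hd2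
    rcases hd2 with e | e | e | e
    · exact absurd e hne
    · exact e
    all_goals exfalso
    · haveI hnor : ((zpowers u).subgroupOf F).Normal := by rw [hFdef]; infer_instance
      obtain ⟨P, hP⟩ := (IsPGroup.of_card (p := 23) (n := 1) (by rw [Nat.card_zpowers, ← Subgroup.orderOf_coe, e, pow_one]) :
        IsPGroup 23 (zpowers g)).exists_le_sylow
      obtain ⟨Q, hQ⟩ := (IsPGroup.of_card (p := 23) (n := 1) (by
          rw [Nat.card_congr (subgroupOfEquivOfLe (zpowers_le.2 huF)).toEquiv, Nat.card_zpowers, hu, pow_one]) :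
        IsPGroup 23 ((zpowers u).subgroupOf F)).exists_le_sylow
      have hcardP : ∀ R : Sylow 23 F, Nat.card (R : Subgroup F) = 23 := fun R => by
        simpa using CfsgLib.SmallGroups.card_sylow_eq (p := 23) (hF.trans (by norm_num : (253 : ℕ) = 23 ^ 1 * 11))
          (by norm_num) R
      have hQe : (Q : Subgroup F) = (zpowers u).subgroupOf F :=
        (Subgroup.eq_of_le_of_card_ge hQ (by
          rw [hcardP, Nat.card_congr (subgroupOfEquivOfLe (zpowers_le.2 huF)).toEquiv, Nat.card_zpowers, hu])).symm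
      obtain ⟨c, hc⟩ := MulAction.exists_smul_eq F Q P
      haveI : (Q : Subgroup F).Normal := by rw [hQe]; exact hnor
      have hPQ : P = Q := by rw [← hc]; exact Sylow.smul_eq_of_normal
      have : g ∈ (Q : Subgroup F) := hPQ ▸ hP (mem_zpowers g)
      rw [hQe, mem_subgroupOf] at this
      exact hg this
    · have hgen : zpowers g = ⊤ := Subgroup.eq_top_of_card_eq _ (by
        rw [Nat.card_zpowers, ← Subgroup.orderOf_coe, e, hF])
      obtain ⟨i, hi⟩ := mem_zpowers_iff.1 (show (⟨u, huF⟩ : F) ∈ zpowers g from hgen ▸ mem_top _)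
      have hcu : Commute u (g : G) := by
        have := congrArg (fun z : F => (z : G)) hi
        simp only [SubgroupClass.coe_zpow] at this
        rw [← this]
        exact (Commute.refl (g : G)).zpow_left i
      have := hcomm23 _ hcu
      rw [e] at this
      norm_num at this
  have hdimF : Module.finrank ℂ (Representation.invariants (ρ.comp F.subtype)) = 1 := by
    have h := finrank_fixed ρ F
    rw [Finset.sum_congr rfl fun (g : F) _ => (congrFun hρ (g : G)).trans (hFval g)] at h
    have hU : (Finset.univ.filter fun g : F => (g : G) ∈ zpowers u).card = 23 := by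
      rw [← Fintype.card_subtype, ← Nat.card_eq_fintype_card, ← hu, ← Nat.card_zpowers]
      exact Nat.card_congr ⟨fun g => ⟨g.1.1, g.2⟩, fun g => ⟨⟨g.1, zpowers_le.2 huF g.2⟩, g.2⟩,
        fun g => rfl, fun g => rfl⟩
    have hone : (Finset.univ.filter fun g : F => (g : G) = 1).card = 1 := by
      rw [Finset.card_eq_one]; exact ⟨1, by ext g; simp⟩
    have e : ∀ g : F, (if (g : G) = 1 then (23 : ℂ) else if (g : G) ∈ zpowers u then 0 else 1) =
        1 + 23 * (if (g : G) = 1 then (1 : ℂ) else 0) - (if (g : G) ∈ zpowers u then 1 else 0) := fun g => by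
      by_cases h1 : (g : G) = 1
      · simp [h1]
      · by_cases h2 : (g : G) ∈ zpowers u <;> simp [h1, h2]
    rw [Finset.sum_congr rfl fun g _ => e g, Finset.sum_sub_distrib, Finset.sum_add_distrib, ← Finset.mul_sum,
      Finset.sum_boole, Finset.sum_boole, hU, hone, Finset.sum_const, Finset.card_univ,
      ← Nat.card_eq_fintype_card, hF] at h
    norm_num at h
    exact_mod_cast h
  -- the group of order 55
  obtain ⟨⟨g, hgN⟩, hg⟩ := exists_prime_orderOf_dvd_card'
    (G := normalizer ((zpowers h : Subgroup G) : Set G)) 5 (by rw [(hL.eleven h hh).2]; norm_num)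
  rw [Subgroup.orderOf_mk] at hg
  set L := zpowers h ⊔ zpowers g with hLdef
  have hle : zpowers g ≤ normalizer ((zpowers h : Subgroup G) : Set G) := zpowers_le.2 hgN
  have hcoe : (L : Set G) = (zpowers h : Set G) * (zpowers g : Set G) :=
    Subgroup.coe_mul_of_right_le_normalizer_left _ _ hle
  have hsurj : Function.Surjective (fun p : zpowers h × zpowers g =>
      (⟨(p.1 : G) * p.2, by rw [← SetLike.mem_coe, hcoe]; exact Set.mul_mem_mul p.1.2 p.2.2⟩ : L)) := fun z => by
    obtain ⟨a, ha, b, hb, e⟩ := (hcoe ▸ z.2 : (z : G) ∈ (zpowers h : Set G) * (zpowers g : Set G))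
    exact ⟨(⟨a, ha⟩, ⟨b, hb⟩), Subtype.ext e⟩
  have hLc : Nat.card L = 55 := by
    have h1 := Nat.card_le_card_of_surjective _ hsurj
    rw [Nat.card_prod, Nat.card_zpowers, Nat.card_zpowers, hh, hg] at h1
    have h2 : 55 ∣ Nat.card L := (by norm_num : Nat.Coprime 11 5).mul_dvd_of_dvd_of_dvd
      (by have := card_dvd_of_le (le_sup_left : zpowers h ≤ L); rwa [Nat.card_zpowers, hh] at this)
      (by have := card_dvd_of_le (le_sup_right : zpowers g ≤ L); rwa [Nat.card_zpowers, hg] at this)
    have := Nat.le_of_dvd Nat.card_pos h2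
    omega
  have hgL : g ∈ L := (le_sup_right : zpowers g ≤ L) (mem_zpowers g)
  have hhL : h ∈ L := (le_sup_left : zpowers h ≤ L) (mem_zpowers h)
  have hLval : ∀ z : L, (χ : G → ℂ) z =
      if (z : G) = 1 then 23 else if (z : G) ∈ zpowers h then 1 else (χ : G → ℂ) g := fun z => by
    by_cases h1 : (z : G) = 1
    · rw [if_pos h1, h1, deg_spec, hd]; norm_num
    rw [if_neg h1]
    by_cases hz : (z : G) ∈ zpowers h
    · rw [if_pos hz]
      refine value_eleven hL hd ?_
      have := Subgroup.orderOf_dvd_natCard (s := zpowers h) hz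
      rw [Nat.card_zpowers, hh] at this
      exact ((Nat.dvd_prime (by norm_num)).1 this).resolve_left fun e => h1 (orderOf_eq_one_iff.1 e)
    rw [if_neg hz]
    refine value_five_eq hL χ ?_ hg
    obtain ⟨⟨a, b⟩, hab⟩ := hsurj z
    have hzab : (a : G) * b = z := congrArg Subtype.val hab
    have hb1 : (b : G) ≠ 1 := fun e => hz (by rw [← hzab, e, mul_one]; exact a.2)
    have hzN : (z : G) ∈ normalizer ((zpowers h : Subgroup G) : Set G) := by
      rw [← hzab]; exact mul_mem (Subgroup.le_normalizer a.2) (hle b.2)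
    have hd2 : orderOf (z : G) ∈ Nat.divisors 55 := Nat.mem_divisors.2
      ⟨by have := Subgroup.orderOf_dvd_natCard (s := L) z.2; rwa [hLc] at this, by norm_num⟩
    rw [show Nat.divisors 55 = {1, 5, 11, 55} by decide +kernel] at hd2
    simp only [Finset.mem_insert, Finset.mem_singleton] at hd2
    rcases hd2 with e | e | e | e
    · exact absurd (orderOf_eq_one_iff.1 e) h1
    · exact e
    all_goals exfalso
    · have hbh : (b : G) ∈ zpowers h := by
        haveI hnor : ((zpowers h).subgroupOf L).Normal :=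
          Subgroup.normal_subgroupOf_of_le_normalizer (sup_le Subgroup.le_normalizer hle)
        have hi : ((zpowers h).subgroupOf L).index = 5 := by
          have h := ((zpowers h).subgroupOf L).card_mul_index
          rw [Nat.card_congr (subgroupOfEquivOfLe (le_sup_left : zpowers _ ≤ L)).toEquiv, Nat.card_zpowers, hh,
            hLc] at h
          omega
        have h5 := ((zpowers h).subgroupOf L).pow_index_mem z
        rw [hi, mem_subgroupOf] at h5
        have h11 : (z : G) ^ 11 = 1 := e ▸ pow_orderOf_eq_one _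
        have : (z : G) = ((z : G) ^ 5) ^ (-2 : ℤ) * ((z : G) ^ 11) := by group
        refine absurd ?_ hz
        rw [this, h11, mul_one]
        exact zpow_mem h5 _
      have := Subgroup.orderOf_dvd_natCard (s := zpowers h) hbh
      rw [Nat.card_zpowers, hh] at this
      have h5 := Subgroup.orderOf_dvd_natCard (s := zpowers g) b.2
      rw [Nat.card_zpowers, hg] at h5
      exact hb1 (orderOf_eq_one_iff.1 (Nat.dvd_one.1 (by simpa using Nat.dvd_gcd this h5)))
    · have hgen : zpowers z = ⊤ := Subgroup.eq_top_of_card_eq _ (by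
        rw [Nat.card_zpowers, ← Subgroup.orderOf_coe, e, hLc])
      obtain ⟨i, hi⟩ := mem_zpowers_iff.1 (show (⟨h, hhL⟩ : L) ∈ zpowers z from hgen ▸ mem_top _)
      have hch : Commute h (z : G) := by
        have := congrArg (fun y : L => (y : G)) hi
        simp only [SubgroupClass.coe_zpow] at this
        rw [← this]
        exact (Commute.refl (z : G)).zpow_left i
      have := hcomm11 _ hch
      rw [e] at this
      norm_num at this
  have hcardh : (Finset.univ.filter fun z : L => (z : G) ∈ zpowers h).card = 11 := by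
    rw [← Fintype.card_subtype, ← Nat.card_eq_fintype_card, ← hh, ← Nat.card_zpowers]
    exact Nat.card_congr ⟨fun z => ⟨z.1.1, z.2⟩, fun z => ⟨⟨z.1, (le_sup_left : zpowers h ≤ L) z.2⟩, z.2⟩,
      fun z => rfl, fun z => rfl⟩
  have hdimh : Module.finrank ℂ (Representation.invariants (ρ.comp (zpowers h).subtype)) = 3 := by
    have hd' := finrank_fixed ρ (zpowers h)
    have e : ∀ z : zpowers h, (χ : G → ℂ) z = 1 + 22 * (if (z : G) = 1 then (1 : ℂ) else 0) := fun z => by
      have := hLval ⟨z, (le_sup_left : zpowers h ≤ L) z.2⟩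
      simp only [z.2, if_true] at this
      rw [this]
      by_cases h1 : (z : G) = 1 <;> simp [h1] <;> norm_num
    have hone : (Finset.univ.filter fun z : zpowers h => (z : G) = 1).card = 1 := by
      rw [Finset.card_eq_one]; exact ⟨1, by ext z; simp⟩
    rw [Finset.sum_congr rfl fun (z : zpowers h) _ => (congrFun hρ (z : G)).trans (e z), Finset.sum_add_distrib,
      ← Finset.mul_sum, Finset.sum_boole, hone, Finset.sum_const, Finset.card_univ,
      ← Nat.card_eq_fintype_card, Nat.card_zpowers, hh] at hd'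
    norm_num at hd'
    have : (Module.finrank ℂ (Representation.invariants (ρ.comp (zpowers h).subtype)) : ℂ) = ((3 : ℕ) : ℂ) := by
      push_cast; linear_combination hd' / 11
    exact_mod_cast this
  have hdimL : Module.finrank ℂ (Representation.invariants (ρ.comp L.subtype)) = 3 := by
    have hd' := finrank_fixed ρ L
    have hone : (Finset.univ.filter fun z : L => (z : G) = 1).card = 1 := by
      rw [Finset.card_eq_one]; exact ⟨1, by ext z; simp⟩
    have e : ∀ z : L, (if (z : G) = 1 then (23 : ℂ) else if (z : G) ∈ zpowers h then 1 else (χ : G → ℂ) g) =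
        (χ : G → ℂ) g + 22 * (if (z : G) = 1 then (1 : ℂ) else 0) +
          (1 - (χ : G → ℂ) g) * (if (z : G) ∈ zpowers h then 1 else 0) := fun z => by
      by_cases h1 : (z : G) = 1
      · simp [h1]; ring
      · by_cases h2 : (z : G) ∈ zpowers h <;> simp [h1, h2]
    rw [Finset.sum_congr rfl fun (z : L) _ => ((congrFun hρ (z : G)).trans (hLval z)).trans (e z),
      Finset.sum_add_distrib, Finset.sum_add_distrib, ← Finset.mul_sum, ← Finset.mul_sum, Finset.sum_boole,
      Finset.sum_boole, hone, hcardh, Finset.sum_const, Finset.card_univ, ← Nat.card_eq_fintype_card, hLc,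
      nsmul_eq_mul] at hd'
    set d := Module.finrank ℂ (Representation.invariants (ρ.comp L.subtype))
    rcases value_five hL hd hg with e5 | e5 <;> rw [e5] at hd'
    · have : ((55 * d : ℕ) : ℂ) = ((165 : ℕ) : ℂ) := by push_cast; linear_combination hd'
      have : 55 * d = 165 := by exact_mod_cast this
      omega
    · have : ((55 * d + 55 : ℕ) : ℂ) = ((0 : ℕ) : ℂ) := by push_cast; linear_combination hd'
      have : 55 * d + 55 = 0 := by exact_mod_cast this
      omega
  have hsub : Representation.invariants (ρ.comp L.subtype) =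
      Representation.invariants (ρ.comp (zpowers h).subtype) := by
    refine Submodule.eq_of_le_of_finrank_eq (fun v hv z => hv ⟨z, (le_sup_left : zpowers h ≤ L) z.2⟩) ?_
    rw [hdimL, hdimh]
  obtain ⟨v, hv, hv0⟩ := Submodule.exists_mem_ne_zero_of_ne_bot
    (fun e : Representation.invariants (ρ.comp F.subtype) = ⊥ => by rw [e, finrank_bot] at hdimF; norm_num at hdimF)
  -- its stabiliser
  let H : Subgroup G :=
    { carrier := {a | ρ a v = v}
      one_mem' := by simp
      mul_mem' := fun {a b} (ha : ρ a v = v) (hb : ρ b v = v) => by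
        show ρ (a * b) v = v
        rw [map_mul, Module.End.mul_apply, hb, ha]
      inv_mem' := fun {a} (ha : ρ a v = v) => by
        show ρ a⁻¹ v = v
        conv_lhs => rw [← ha, ← Module.End.mul_apply, ← map_mul, inv_mul_cancel, map_one, Module.End.one_apply] }
  refine ⟨H, ?_⟩
  have hFH : F ≤ H := fun a ha => hv ⟨a, ha⟩
  have hLH : L ≤ H := fun a ha => by
    have hv' : v ∈ Representation.invariants (ρ.comp (zpowers h).subtype) :=
      fun z => hv ⟨z, zpowers_le.2 hhF z.2⟩
    rw [← hsub] at hv'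
    exact hv' ⟨a, ha⟩
  have htop : H ≠ ⊤ := fun e => by
    haveI : Fintype (⊤ : Subgroup G) := Fintype.ofFinite _
    have h0 := finrank_fixed ρ (⊤ : Subgroup G)
    have hs : ∑ a : (⊤ : Subgroup G), ρ.character (a : G) = ∑ a : G, (χ : G → ℂ) a := by
      rw [hρ]
      exact Fintype.sum_equiv Subgroup.topEquiv.toEquiv _ _ fun a => rfl
    have hz : ∑ a : G, (χ : G → ℂ) a = 0 := by
      have hi := CfsgLib.Char.classInner_irr_ne χ.2 (CfsgLib.Char.irrOne : IrrCharacter G).2
        fun e' => deg_ne_irrOne hd (Subtype.ext e')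
      have h1 : ((CfsgLib.Char.irrOne : IrrCharacter G) : G → ℂ) = fun _ => 1 := rfl
      rw [h1] at hi
      unfold classInner at hi
      simpa using hi
    rw [hs, hz, mul_eq_zero] at h0
    have h0' := h0.resolve_right (by exact_mod_cast Fintype.card_pos.ne')
    have hzero : Module.finrank ℂ (Representation.invariants (ρ.comp (⊤ : Subgroup G).subtype)) = 0 := by
      exact_mod_cast h0'
    rw [Submodule.finrank_eq_zero] at hzero
    have hmem : v ∈ Representation.invariants (ρ.comp (⊤ : Subgroup G).subtype) := fun a => by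
      have : (a : G) ∈ H := by rw [e]; exact mem_top _
      exact this
    rw [hzero, Submodule.mem_bot] at hmem
    exact hv0 hmem
  -- the order
  have hdvd : 1265 ∣ Nat.card H := by
    have h1 := card_dvd_of_le hFH
    have h2 := card_dvd_of_le hLH
    rw [hF] at h1
    rw [hLc] at h2
    have := Nat.lcm_dvd h1 h2
    rwa [show Nat.lcm 253 55 = 1265 from rfl] at this
  have hlt : Nat.card H < 244823040 := by
    rw [← hL.card]
    refine lt_of_le_of_ne (Subgroup.card_le_card_group H) fun e => htop (Subgroup.eq_top_of_card_eq H e)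
  obtain ⟨m, hm⟩ := hdvd
  have hmd : m ∣ 2 ^ 10 * 3 ^ 3 * 7 ^ 1 := by
    have h := H.card_subgroup_dvd_card
    rw [hL.card, hm] at h
    exact Nat.dvd_of_mul_dvd_mul_left (by norm_num : 0 < 1265) (h.trans (dvd_of_eq (by norm_num)))
  obtain ⟨m12, m3, h12, h3, rfl⟩ := Nat.dvd_mul.1 hmd
  obtain ⟨m1, m2, h1, h2, rfl⟩ := Nat.dvd_mul.1 h12
  obtain ⟨a, ha, rfl⟩ := (Nat.dvd_prime_pow Nat.prime_two).1 h1
  obtain ⟨b, hb, rfl⟩ := (Nat.dvd_prime_pow Nat.prime_three).1 h2
  obtain ⟨c, hc, rfl⟩ := (Nat.dvd_prime_pow (by norm_num : Nat.Prime 7)).1 h3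
  have hp2 : ∀ p : ℕ, p ∈ [5, 7, 11, 23] → ¬ p * p ∣ Nat.card G := fun p hp => by
    rw [hL.card]; fin_cases hp <;> norm_num
  have k23 : Nat.card H / 253 % 23 = 1 := by
    obtain ⟨N, hN, -, hmod⟩ := sylow_congr H (hp2 23 (by simp)) (hFH huF) hu
    rwa [hN, ← hFdef, inf_eq_left.2 hFH, hF] at hmod
  have k11 : ∃ N ∈ [55, 110], Nat.card H % N = 0 ∧ Nat.card H / N % 11 = 1 := by
    obtain ⟨N, hN, hNd, hmod⟩ := sylow_congr H (hp2 11 (by simp)) (hLH hhL) hh
    have h1 : N ∣ 110 := by
      rw [hN, ← (hL.eleven h hh).2]; exact card_dvd_of_le inf_le_left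
    have h2 : 55 ∣ N := by
      rw [hN, ← hLc]; exact card_dvd_of_le (le_inf (sup_le Subgroup.le_normalizer hle) hLH)
    refine ⟨N, dvd_lists.2.2 N (List.mem_range.2 ?_) (Nat.mod_eq_zero_of_dvd h1) (Nat.mod_eq_zero_of_dvd h2),
      Nat.mod_eq_zero_of_dvd hNd, hmod⟩
    have := Nat.le_of_dvd (by norm_num) h1
    omega
  have k5 : ∃ N ∈ [5, 10, 15, 20, 30, 40, 60, 80, 120, 240], Nat.card H % N = 0 ∧ Nat.card H / N % 5 = 1 := by
    obtain ⟨N, hN, hNd, hmod⟩ := sylow_congr H (hp2 5 (by simp)) (hLH hgL) hg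
    have h1 : N ∣ 240 := by
      rw [hN, ← (hL.five g hg).2]; exact card_dvd_of_le inf_le_left
    have h2 : 5 ∣ N := by
      rw [hN]
      have := card_dvd_of_le (le_inf Subgroup.le_normalizer (zpowers_le.2 (hLH hgL)) :
        zpowers g ≤ normalizer ((zpowers g : Subgroup G) : Set G) ⊓ H)
      rwa [Nat.card_zpowers, hg] at this
    refine ⟨N, dvd_lists.1 N (List.mem_range.2 ?_) (Nat.mod_eq_zero_of_dvd h1) (Nat.mod_eq_zero_of_dvd h2),
      Nat.mod_eq_zero_of_dvd hNd, hmod⟩
    have := Nat.le_of_dvd (by norm_num) h1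
    omega
  have k7 : c = 0 ∨ ∃ N ∈ [7, 14, 21, 42, 63, 126], Nat.card H % N = 0 ∧ Nat.card H / N % 7 = 1 := by
    rcases Nat.eq_zero_or_pos c with h0 | h0
    · exact Or.inl h0
    obtain rfl : c = 1 := by omega
    obtain ⟨⟨z, hzH⟩, hz⟩ := exists_prime_orderOf_dvd_card' (G := H) 7
      (by rw [hm]; exact dvd_mul_of_dvd_right (dvd_mul_of_dvd_right (by norm_num) _) _)
    rw [Subgroup.orderOf_mk] at hz
    obtain ⟨N, hN, hNd, hmod⟩ := sylow_congr H (hp2 7 (by simp)) hzH hz
    have h1 : N ∣ 126 := by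
      rw [hN, ← (hL.seven z hz).2]; exact card_dvd_of_le inf_le_left
    have h2 : 7 ∣ N := by
      rw [hN]
      have := card_dvd_of_le (le_inf Subgroup.le_normalizer (zpowers_le.2 hzH) :
        zpowers z ≤ normalizer ((zpowers z : Subgroup G) : Set G) ⊓ H)
      rwa [Nat.card_zpowers, hz] at this
    refine Or.inr ⟨N, dvd_lists.2.1 N (List.mem_range.2 ?_) (Nat.mod_eq_zero_of_dvd h1) (Nat.mod_eq_zero_of_dvd h2),
      Nat.mod_eq_zero_of_dvd hNd, hmod⟩
    have := Nat.le_of_dvd (by norm_num) h1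
    omega
  rw [hm] at hlt k23 k11 k5 k7
  have hany : ∀ (l : List ℕ) {d r : ℕ}, (∃ N ∈ l, d % N = 0 ∧ d / N % r = 1) →
      (l.any fun N => decide (d % N = 0 ∧ d / N % r = 1)) = true := fun l d r ⟨N, h1, h2⟩ =>
    List.any_eq_true.2 ⟨N, h1, decide_eq_true h2⟩
  have hres := order_table a (List.mem_range.2 (by omega)) b (List.mem_range.2 (by omega)) c
    (List.mem_range.2 (by omega)) hlt k23 (by simpa using k11) (by simpa using k5) (by simpa using k7)
  have := H.card_mul_index
  rw [hL.card, hm, hres] at this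
  omega

end CfsgLib.MTwentyFourUnique
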