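import Cfsg.Agent.Lib.MTwentyThreeUnique.Counts
import Mathlib

/-!
Residues modulo five of element counts in a group of order 120 with a central element of order five.
-/

set_option autoImplicit false
set_option linter.style.haveILetI false

noncomputable section

namespace CfsgLib.MTwentyFourUnique

open Subgroup CfsgLib.MTwentyThreeUnique

section Product

variable {C : Type*} [Group C] [Finite C]

/-- Counting in a product of a central subgroup of prime order and a complement. -/
theorem count_prod {p : ℕ} [Fact p.Prime] {x : C} (hx : orderOf x = p) (hcomm : ∀ g : C, Commute x g)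
    {K : Subgroup C} (hK : IsComplement' (zpowers x) K) (hp : ¬ p ∣ Nat.card K) {m : ℕ} (hm : ¬ p ∣ m) :
    Nat.card {g : C // orderOf g = m} = Nat.card {g : K // orderOf g = m} ∧
      Nat.card {g : C // orderOf g = p * m} = (p - 1) * Nat.card {g : K // orderOf g = m} := by
  classical
  have hord : ∀ (i : zpowers x) (k : K), orderOf ((i : C) * (k : C)) = orderOf i * orderOf k := by
    intro i k
    obtain ⟨j, hj⟩ := mem_zpowers_iff.1 i.2
    have hc : Commute (i : C) (k : C) := by rw [← hj]; exact (hcomm k).zpow_left j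
    rw [hc.orderOf_mul_eq_mul_orderOf_of_coprime, Subgroup.orderOf_coe, Subgroup.orderOf_coe]
    rw [Subgroup.orderOf_coe, Subgroup.orderOf_coe]
    have h1 : orderOf i ∣ p := hx ▸ (Nat.card_zpowers x) ▸ orderOf_dvd_natCard i
    exact Nat.Coprime.coprime_dvd_left h1 (Nat.Coprime.coprime_dvd_right (orderOf_dvd_natCard k)
      (((Fact.out : p.Prime).coprime_iff_not_dvd).2 hp))
  have hi : ∀ i : zpowers x, orderOf i = 1 ∨ orderOf i = p := fun i => by
    have h1 : orderOf i ∣ p := hx ▸ (Nat.card_zpowers x) ▸ orderOf_dvd_natCard i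
    exact (Nat.dvd_prime Fact.out).1 h1
  let e : zpowers x × K ≃ C := Equiv.ofBijective _ hK
  have he : ∀ n, Nat.card {g : C // orderOf g = n} =
      Nat.card {u : zpowers x × K // orderOf u.1 * orderOf u.2 = n} := fun n =>
    (Nat.card_congr (e.subtypeEquiv fun u => by
      show orderOf u.1 * orderOf u.2 = n ↔ orderOf ((u.1 : C) * (u.2 : C)) = n
      rw [hord])).symm
  have hk : ∀ k : K, ¬ p ∣ orderOf k := fun k h => hp (h.trans (orderOf_dvd_natCard k))
  refine ⟨?_, ?_⟩
  · rw [he]
    refine Nat.card_congr
      { toFun := fun u => ⟨u.1.2, ?_⟩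
        invFun := fun k => ⟨(1, k.1), by rw [orderOf_one, one_mul]; exact k.2⟩
        left_inv := fun u => ?_
        right_inv := fun k => rfl }
    · rcases hi u.1.1 with h | h
      · have := u.2; rwa [h, one_mul] at this
      · exact absurd ⟨_, u.2.symm.trans (by rw [h])⟩ hm
    · rcases hi u.1.1 with h | h
      · exact Subtype.ext (Prod.ext (orderOf_eq_one_iff.1 h).symm rfl)
      · exact absurd ⟨_, u.2.symm.trans (by rw [h])⟩ hm
  · rw [he, ← show Nat.card {i : zpowers x // orderOf i = p} = p - 1 by
      haveI : IsCyclic (zpowers x) := inferInstance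
      rw [count_cyclic, Nat.card_zpowers, hx, if_pos dvd_rfl, Nat.totient_prime Fact.out], ← Nat.card_prod]
    refine Nat.card_congr
      { toFun := fun u => (⟨u.1.1, ?_⟩, ⟨u.1.2, ?_⟩)
        invFun := fun v => ⟨(v.1.1, v.2.1), by rw [v.1.2, v.2.2]⟩
        left_inv := fun u => rfl
        right_inv := fun v => rfl }
    · rcases hi u.1.1 with h | h
      · have := u.2
        rw [h, one_mul] at this
        exact absurd ⟨m, this⟩ (hk u.1.2)
      · exact h
    · rcases hi u.1.1 with h | h
      · have := u.2
        rw [h, one_mul] at this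
        exact absurd ⟨m, this⟩ (hk u.1.2)
      · have := u.2
        rw [h] at this
        exact Nat.eq_of_mul_eq_mul_left (Fact.out : p.Prime).pos this

end Product

section Order24

variable {K : Type*} [Group K] [Finite K]

/-- Involutions normalising but not centralising a subgroup of order three multiply into its centraliser. -/
theorem mul_mem_centralizer {Q : Subgroup K} (hQ : Nat.card Q = 3) {t u : K}
    (ht : t ∈ normalizer (Q : Set K)) (hu : u ∈ normalizer (Q : Set K))
    (ht' : t ∉ centralizer (Q : Set K)) (hu' : u ∉ centralizer (Q : Set K)) : t * u ∈ centralizer (Q : Set K) := by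
  haveI : Fact (Nat.Prime 3) := ⟨Nat.prime_three⟩
  have hd := CfsgLib.SmallGroups.card_normalizer_dvd_of_card_prime hQ
  have hle := CfsgLib.SmallGroups.centralizer_le_normalizer' Q
  have hc := CfsgLib.SmallGroups.Order459648.card_centralizer_mul_relIndex Q
  rw [← hc, mul_comm (3 - 1)] at hd
  have h2 := Nat.dvd_of_mul_dvd_mul_left Nat.card_pos hd
  have hne : (centralizer (Q : Set K)).relIndex (normalizer (Q : Set K)) ≠ 1 := fun h =>
    ht' (relIndex_eq_one.1 h ht)
  have htwo : ((centralizer (Q : Set K)).subgroupOf (normalizer (Q : Set K))).index = 2 :=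
    ((Nat.dvd_prime Nat.prime_two).1 h2).resolve_left hne
  have h := (mul_mem_iff_of_index_two htwo (a := ⟨t, ht⟩) (b := ⟨u, hu⟩)).2 (iff_of_false ht' hu')
  exact h

theorem count_six_ge (P : Sylow 3 K) (hP : Nat.card (P : Subgroup K) = 3)
    [Fact (Nat.Prime 3)] {j : ℕ} (hn : Nat.card (Sylow 3 K) = 1)
    (hj : Nat.card {t : centralizer ((P : Subgroup K) : Set K) // orderOf t = 2} = j) :
    Nat.card {g : K // orderOf g = 6} = 2 * j := by
  classical
  haveI : Subsingleton (Sylow 3 K) := (Nat.card_eq_one_iff_unique.1 hn).1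
  have hord : ∀ g : K, orderOf g = 3 → g ∈ (P : Subgroup K) := fun g hg => by
    obtain ⟨Q, hQ⟩ := (IsPGroup.of_card (p := 3) (n := 1) (by rw [Nat.card_zpowers, hg, pow_one]) :
      IsPGroup 3 (zpowers g)).exists_le_sylow
    rw [Subsingleton.elim Q P] at hQ
    exact hQ (mem_zpowers g)
  have hPc : ∀ g : K, g ∈ (P : Subgroup K) → g ≠ 1 → orderOf g = 3 := fun g hg h1 => by
    rcases (Nat.dvd_prime Nat.prime_three).1 (hP ▸ Subgroup.orderOf_dvd_natCard _ hg) with h | h
    · exact absurd (orderOf_eq_one_iff.1 h) h1
    · exact h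
  have hP2 : Nat.card {i : (P : Subgroup K) // orderOf i = 3} = 2 := by
    haveI : IsCyclic (P : Subgroup K) := isCyclic_of_prime_card hP
    rw [count_cyclic, hP, if_pos dvd_rfl, Nat.totient_prime Nat.prime_three]
  have hcm : ∀ (i : (P : Subgroup K)) (t : centralizer ((P : Subgroup K) : Set K)), Commute (i : K) (t : K) :=
    fun i t => mem_centralizer_iff.1 t.2 i i.2
  have h6 : ∀ g : K, orderOf g = 6 → orderOf (g ^ 4) = 3 ∧ orderOf (g ^ 3) = 2 := fun g hg => by
    refine ⟨?_, ?_⟩ <;> rw [orderOf_pow, hg] <;> norm_num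
  rw [← hj]
  refine Eq.trans ?_ (congrArg (fun n => n * _) hP2)
  rw [← Nat.card_prod]
  refine Nat.card_congr
    { toFun := fun g => (⟨⟨(g : K) ^ 4, hord _ (h6 _ g.2).1⟩, by rw [Subgroup.orderOf_mk]; exact (h6 _ g.2).1⟩,
        ⟨⟨(g : K) ^ 3, ?_⟩, by rw [Subgroup.orderOf_mk]; exact (h6 _ g.2).2⟩)
      invFun := fun v => ⟨(v.1.1 : K) * (v.2.1 : K), ?_⟩
      left_inv := fun g => Subtype.ext ?_
      right_inv := fun v => ?_ }
  · rw [mem_centralizer_iff]
    intro q hq
    rcases eq_or_ne q 1 with rfl | hq1
    · simp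
    have hz : zpowers ((g : K) ^ 4) = (P : Subgroup K) := eq_of_le_of_card_ge
      (zpowers_le.2 (hord _ (h6 _ g.2).1)) (by rw [Nat.card_zpowers, (h6 _ g.2).1, hP])
    obtain ⟨i, hi⟩ := mem_zpowers_iff.1 (hz ▸ hq : q ∈ zpowers ((g : K) ^ 4))
    rw [← hi]
    exact ((Commute.pow_pow_self (g : K) 4 3).zpow_left i).eq
  · rw [(hcm v.1.1 v.2.1).orderOf_mul_eq_mul_orderOf_of_coprime, Subgroup.orderOf_coe, Subgroup.orderOf_coe,
      v.1.2, v.2.2]
    rw [Subgroup.orderOf_coe, Subgroup.orderOf_coe, v.1.2, v.2.2]
    norm_num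
  · show (g : K) ^ 4 * (g : K) ^ 3 = g
    rw [← pow_add, show 4 + 3 = 6 + 1 by norm_num, pow_succ,
      show (g : K) ^ 6 = 1 from orderOf_dvd_iff_pow_eq_one.1 (dvd_of_eq g.2), one_mul]
  · obtain ⟨⟨i, hi⟩, ⟨t, ht⟩⟩ := v
    have hc := hcm i t
    have hi' : orderOf (i : K) = 3 := by rw [Subgroup.orderOf_coe, hi]
    have ht' : orderOf (t : K) = 2 := by rw [Subgroup.orderOf_coe, ht]
    have a : (i : K) ^ 3 = 1 := orderOf_dvd_iff_pow_eq_one.1 (dvd_of_eq hi')
    have b : (t : K) ^ 2 = 1 := orderOf_dvd_iff_pow_eq_one.1 (dvd_of_eq ht')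
    refine Prod.ext (Subtype.ext (Subtype.ext ?_)) (Subtype.ext (Subtype.ext ?_))
    · show ((i : K) * (t : K)) ^ 4 = i
      rw [hc.mul_pow, show 4 = 3 + 1 by norm_num, pow_succ, a, one_mul, show 3 + 1 = 2 * 2 by norm_num, pow_mul, b,
        one_pow, mul_one]
    · show ((i : K) * (t : K)) ^ 3 = t
      rw [hc.mul_pow, a, one_mul, pow_succ, b, one_mul]

theorem centralizer_eq_singleton {Q : Subgroup K} {r : K} (hr : r ∈ Q) (h : orderOf r = Nat.card Q) :
    centralizer (Q : Set K) = centralizer ({r} : Set K) := by
  have e : zpowers r = Q := eq_of_le_of_card_ge (zpowers_le.2 hr) (by rw [Nat.card_zpowers, h])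
  subst e
  rw [zpowers_eq_closure, centralizer_closure]

/-- The counts of distinct orders add up to at most the order. -/
theorem count_sum_le (S : Finset ℕ) : ∑ k ∈ S, Nat.card {g : K // orderOf g = k} ≤ Nat.card K := by
  classical
  haveI := Fintype.ofFinite K
  rw [Finset.sum_congr rfl fun k _ => (Nat.card_eq_fintype_card.trans (Fintype.card_subtype _) :
    Nat.card {g : K // orderOf g = k} = (Finset.univ.filter fun g : K => orderOf g = k).card),
    ← Finset.card_biUnion, Nat.card_eq_fintype_card]
  · exact Finset.card_le_univ _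
  · intro a _ b _ hab
    exact Finset.disjoint_filter.2 fun g _ h1 h2 => hab (h1.symm.trans h2)

theorem count_one : Nat.card {g : K // orderOf g = 1} = 1 :=
  Nat.card_eq_one_iff_exists.2 ⟨⟨1, orderOf_one⟩, fun g => Subtype.ext (orderOf_eq_one_iff.1 g.2)⟩

/-- A group of order 24 with three involutions modulo five has another count that is one or four modulo five. -/
theorem order24_residue (hK : Nat.card K = 24) (h2 : Nat.card {g : K // orderOf g = 2} % 5 = 3) :
    ∃ m ∈ ({3, 6, 12} : Finset ℕ),
      Nat.card {g : K // orderOf g = m} % 5 = 1 ∨ Nat.card {g : K // orderOf g = m} % 5 = 4 := by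
  classical
  haveI : Fact (Nat.Prime 3) := ⟨Nat.prime_three⟩
  haveI : Fact (Nat.Prime 2) := ⟨Nat.prime_two⟩
  obtain ⟨P⟩ : Nonempty (Sylow 3 K) := inferInstance
  have hPs : ∀ P : Sylow 3 K, Nat.card (P : Subgroup K) = 3 := fun P => by
    simpa using CfsgLib.SmallGroups.card_sylow_eq (a := 1) (m := 8) (by rw [hK]; norm_num) (by norm_num) P
  have hn := CfsgLib.SmallGroups.card_sylow_mul_card_normalizer P
  have hmod := CfsgLib.SmallGroups.mod_eq_one_card_sylow (p := 3) (G := K)
  rw [hK] at hn
  have hc3 := CfsgLib.Classical.Dickson.card_orderOf_eq hPs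
  set C := centralizer ((P : Subgroup K) : Set K) with hC
  have hPle : (P : Subgroup K) ≤ C := by
    haveI : IsCyclic (P : Subgroup K) := isCyclic_of_prime_card (hPs P)
    haveI : IsMulCommutative (P : Subgroup K) := IsCyclic.isMulCommutative
    exact le_centralizer _
  have h3C : 3 ∣ Nat.card C := hPs P ▸ card_dvd_of_le hPle
  have hCN : Nat.card C ∣ Nat.card (normalizer ((P : Subgroup K) : Set K)) :=
    card_dvd_of_le (CfsgLib.SmallGroups.centralizer_le_normalizer' _)
  have hd := CfsgLib.SmallGroups.card_normalizer_dvd_of_card_prime (hPs P)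
  set N := Nat.card (normalizer ((P : Subgroup K) : Set K)) with hN
  have hn3 : Nat.card (Sylow 3 K) ∈ Nat.divisors 24 := Nat.mem_divisors.2 ⟨Dvd.intro _ hn, by norm_num⟩
  obtain ⟨σ, hσ⟩ := exists_prime_orderOf_dvd_card' (G := (P : Subgroup K)) 3 (by rw [hPs])
  have hσK : orderOf (σ : K) = 3 := by rw [Subgroup.orderOf_coe, hσ]
  have hCσ : centralizer ({(σ : K)} : Set K) = C := by
    have hz : zpowers (σ : K) = (P : Subgroup K) :=
      eq_of_le_of_card_ge (zpowers_le.2 σ.2) (by rw [Nat.card_zpowers, hσK, hPs])
    rw [hC, ← centralizer_closure, ← zpowers_eq_closure, hz]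
  have hfix : Nat.card {g : K // orderOf g = 2} % 3 = Nat.card {t : C // orderOf t = 2} % 3 := by
    have h := count_modEq hσK 2
    rw [hCσ] at h
    exact h
  have hodd := count_two_odd (G := K) (by rw [hK]; norm_num)
  have hjle : Nat.card {t : C // orderOf t = 2} ≤ Nat.card {g : K // orderOf g = 2} :=
    Nat.card_le_card_of_injective (fun t => ⟨((t : C) : K), (Subgroup.orderOf_coe _).trans t.2⟩)
      fun a b h => Subtype.ext (Subtype.ext (congrArg (fun u : {g : K // orderOf g = 2} => (u : K)) h))
  have hcases : Nat.card (Sylow 3 K) = 1 ∨ Nat.card (Sylow 3 K) = 4 := by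
    have key : ∀ n ∈ Nat.divisors 24, n % 3 = 1 → n = 1 ∨ n = 4 := by decide
    exact key _ hn3 hmod
  rcases hcases with h1 | h4
  · rw [h1, one_mul] at hn
    have hc : Nat.card C = 12 ∨ Nat.card C = 24 := by
      have key : ∀ c ∈ Nat.divisors 24, 24 ∣ (3 - 1) * c → c = 12 ∨ c = 24 := by decide
      exact key _ (Nat.mem_divisors.2 ⟨hn ▸ hCN, by norm_num⟩) (hn ▸ hd)
    have h6 := count_six_ge P (hPs P) h1 rfl
    have hjodd := count_two_odd (G := C) (by rcases hc with h | h <;> rw [h] <;> norm_num)
    by_contra hcon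
    push Not at hcon
    have k6 := hcon 6 (by simp)
    rw [h6] at k6
    rcases hc with hc | hc
    · have hj12 : Nat.card {t : C // orderOf t = 2} = 1 ∨ Nat.card {t : C // orderOf t = 2} = 3 := by
        have hQ : ∀ Q : Sylow 2 C, Nat.card (Q : Subgroup C) = 4 := fun Q => by
          simpa using CfsgLib.SmallGroups.card_sylow_eq (a := 2) (m := 3) (by rw [hc]; norm_num) (by norm_num) Q
        obtain ⟨Q⟩ : Nonempty (Sylow 2 C) := inferInstance
        have hQn : (Q : Subgroup C).Normal := by
          have hnC := CfsgLib.SmallGroups.card_sylow_mul_card_normalizer Q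
          rw [hc] at hnC
          have hσC : (⟨σ, hPle σ.2⟩ : C) ∈ normalizer ((Q : Subgroup C) : Set C) := by
            refine mem_normalizer_iff.2 fun g => ?_
            have hcg : (⟨σ, hPle σ.2⟩ : C) * g = g * ⟨σ, hPle σ.2⟩ :=
              Subtype.ext (mem_centralizer_iff.1 g.2 σ σ.2)
            rw [hcg, mul_inv_cancel_right]
          have h3 := Subgroup.orderOf_dvd_natCard _ hσC
          rw [Subgroup.orderOf_mk, hσK] at h3
          have h4' := card_dvd_of_le (le_normalizer (H := (Q : Subgroup C)))
          rw [hQ] at h4'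
          have h12 : 12 ≤ Nat.card (normalizer ((Q : Subgroup C) : Set C)) :=
            Nat.le_of_dvd Nat.card_pos (Nat.Coprime.mul_dvd_of_dvd_of_dvd (by norm_num : Nat.Coprime 3 4) h3 h4')
          exact normalizer_eq_top_iff.1 (eq_top_of_le_card _ (by rw [hc]; exact h12))
        haveI := hQn
        have hle : Nat.card {t : C // orderOf t = 2} ≤ Nat.card {q : (Q : Subgroup C) // q ≠ 1} := by
          have hmem : ∀ t : C, orderOf t = 2 → t ∈ (Q : Subgroup C) := fun t ht => by
            obtain ⟨R, hR⟩ := (IsPGroup.of_card (p := 2) (n := 1) (by rw [Nat.card_zpowers, ht, pow_one]) :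
              IsPGroup 2 (zpowers t)).exists_le_sylow
            haveI := Q.unique_of_normal hQn
            rw [Subsingleton.elim R Q] at hR
            exact hR (mem_zpowers t)
          refine Nat.card_le_card_of_injective (fun t => ⟨⟨t, hmem _ t.2⟩, fun h => ?_⟩) fun a b h => ?_
          · have h' : (t : C) = 1 := congrArg Subtype.val h
            have := t.2
            rw [h', orderOf_one] at this
            norm_num at this
          · exact Subtype.ext (congrArg (fun u : {q : (Q : Subgroup C) // q ≠ 1} => ((u : (Q : Subgroup C)) : C)) h)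
        have h3q : Nat.card {q : (Q : Subgroup C) // q ≠ 1} = 3 := by
          haveI := Fintype.ofFinite (Q : Subgroup C)
          rw [Nat.card_eq_fintype_card, Fintype.card_subtype_compl, Fintype.card_subtype_eq, ← Nat.card_eq_fintype_card, hQ]
        omega
      rcases hj12 with hj | hj
      · -- cyclic of order twelve
        have hQc : ∀ Q : Sylow 2 C, IsCyclic (Q : Subgroup C) := fun Q => by
          haveI := Fintype.ofFinite (Q : Subgroup C)
          have hQ : Nat.card (Q : Subgroup C) = 4 := by
            simpa using CfsgLib.SmallGroups.card_sylow_eq (a := 2) (m := 3) (by rw [hc]; norm_num) (by norm_num) Q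
          by_contra hnc
          have hexp : ∀ q : (Q : Subgroup C), q ≠ 1 → orderOf q = 2 := fun q hq => by
            have hd4 : orderOf q ∈ Nat.divisors 4 := Nat.mem_divisors.2 ⟨hQ ▸ orderOf_dvd_natCard q, by norm_num⟩
            have key : ∀ d ∈ Nat.divisors 4, d = 1 ∨ d = 2 ∨ d = 4 := by decide
            rcases key _ hd4 with h | h | h
            · exact absurd (orderOf_eq_one_iff.1 h) hq
            · exact h
            · exact absurd (isCyclic_of_orderOf_eq_card q (h.trans hQ.symm)) hnc
          have h3le : Nat.card {q : (Q : Subgroup C) // q ≠ 1} ≤ Nat.card {t : C // orderOf t = 2} :=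
            Nat.card_le_card_of_injective (fun q => ⟨(q : (Q : Subgroup C)), by
              rw [Subgroup.orderOf_coe]; exact hexp _ q.2⟩)
              fun a b h => Subtype.ext (Subtype.ext (congrArg (fun u : {t : C // orderOf t = 2} => (u : C)) h))
          rw [Nat.card_eq_fintype_card, Fintype.card_subtype_compl, Fintype.card_subtype_eq,
            ← Nat.card_eq_fintype_card, hQ, hj] at h3le
          omega
        obtain ⟨Q⟩ : Nonempty (Sylow 2 C) := inferInstance
        haveI := hQc Q
        obtain ⟨q, hq⟩ := IsCyclic.exists_ofOrder_eq_natCard (α := (Q : Subgroup C))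
        have hQ : Nat.card (Q : Subgroup C) = 4 := by
          simpa using CfsgLib.SmallGroups.card_sylow_eq (a := 2) (m := 3) (by rw [hc]; norm_num) (by norm_num) Q
        have hq' : orderOf (q : C) = 4 := by rw [Subgroup.orderOf_coe, hq, hQ]
        have hσ' : orderOf (⟨σ, hPle σ.2⟩ : C) = 3 := by rw [Subgroup.orderOf_mk, hσK]
        have hcq : Commute (q : C) ⟨σ, hPle σ.2⟩ :=
          Subtype.ext (mem_centralizer_iff.1 (q : C).2 σ σ.2).symm
        haveI : IsCyclic C := isCyclic_of_orderOf_eq_card ((q : C) * ⟨σ, hPle σ.2⟩) (by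
          rw [hcq.orderOf_mul_eq_mul_orderOf_of_coprime (by rw [hq', hσ']; norm_num), hq', hσ', hc])
        have k12 := hcon 12 (by simp)
        have hmem : ∀ g : K, orderOf g = 12 → g ∈ C := fun g hg => by
          have h4 : orderOf (g ^ 4) = 3 := by rw [orderOf_pow, hg]; norm_num
          haveI : Subsingleton (Sylow 3 K) := (Nat.card_eq_one_iff_unique.1 h1).1
          obtain ⟨R, hR⟩ := (IsPGroup.of_card (p := 3) (n := 1) (by rw [Nat.card_zpowers, h4, pow_one]) :
            IsPGroup 3 (zpowers (g ^ 4))).exists_le_sylow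
          rw [Subsingleton.elim R P] at hR
          have hz : zpowers (g ^ 4) = (P : Subgroup K) :=
            eq_of_le_of_card_ge hR (by rw [hPs, Nat.card_zpowers, h4])
          rw [hC, ← hz, zpowers_eq_closure, centralizer_closure, mem_centralizer_singleton_iff]
          exact (Commute.self_pow g 4).eq
        have e12 : Nat.card {g : K // orderOf g = 12} = 4 := by
          have h := count_cyclic C 12
          rw [hc, if_pos dvd_rfl, show Nat.totient 12 = 4 by decide] at h
          rw [← h]
          exact Nat.card_congr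
            { toFun := fun g => ⟨⟨g, hmem _ g.2⟩, (Subgroup.orderOf_mk _ _).trans g.2⟩
              invFun := fun g => ⟨(g : C), (Subgroup.orderOf_coe _).trans g.2⟩
              left_inv := fun g => rfl
              right_inv := fun g => rfl }
        rw [e12] at k12
        omega
      · rw [hj] at k6
        omega
    · have e : Nat.card {t : C // orderOf t = 2} = Nat.card {g : K // orderOf g = 2} := by
        have htop : ∀ g : K, g ∈ C := fun g => by rw [eq_top_of_le_card C (by rw [hK, hc])]; trivial
        exact Nat.card_congr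
          { toFun := fun g => ⟨(g : C), (Subgroup.orderOf_coe _).trans g.2⟩
            invFun := fun g => ⟨⟨g, htop _⟩, (Subgroup.orderOf_mk _ _).trans g.2⟩
            left_inv := fun g => rfl
            right_inv := fun g => rfl }
      rw [e, Nat.mul_mod, h2] at k6
      omega
  · rw [h4] at hn
    have hN6 : N = 6 := by omega
    have hc : Nat.card C = 3 ∨ Nat.card C = 6 := by
      have key : ∀ c ∈ Nat.divisors 6, 3 ∣ c → c = 3 ∨ c = 6 := by decide
      exact key _ (Nat.mem_divisors.2 ⟨hN6 ▸ hCN, by norm_num⟩) h3C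
    exfalso
    haveI := Fintype.ofFinite K
    rcases hc with hc | hc
    · have hj : Nat.card {t : C // orderOf t = 2} = 0 :=
        Nat.card_eq_zero.2 (Or.inl ⟨fun t => by
          have h := t.2 ▸ orderOf_dvd_natCard (t : C)
          rw [hc] at h; norm_num at h⟩)
      rw [hj] at hfix
      have hle : Nat.card {g : K // orderOf g = 2} ≤ 15 := by
        have h8 : Nat.card {g : K // orderOf g = 3} = 8 := by rw [hc3, h4]
        have := count_sum_le (K := K) {1, 2, 3}
        rw [Finset.sum_insert (by decide), Finset.sum_insert (by decide), Finset.sum_singleton, count_one, h8, hK] at this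
        omega
      have hi2 : Nat.card {g : K // orderOf g = 2} = 3 := by omega
      have hall : ∀ (Q : Sylow 3 K) (t : K), orderOf t = 2 →
          t ∈ normalizer ((Q : Subgroup K) : Set K) ∧ t ∉ centralizer ((Q : Subgroup K) : Set K) ∧
            Nat.card (centralizer ((Q : Subgroup K) : Set K)) = 3 := by
        intro Q
        obtain ⟨g, rfl⟩ := MulAction.exists_smul_eq K P Q
        have hCg : Nat.card (centralizer (((g • P : Sylow 3 K) : Subgroup K) : Set K)) = 3 := by
          refine Eq.trans ?_ hc
          rw [hC]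
          refine (Nat.card_congr ((MulAut.conj g).toEquiv.subtypeEquiv fun a => ?_)).symm
          show a ∈ centralizer ((P : Subgroup K) : Set K) ↔
            g * a * g⁻¹ ∈ centralizer (((g • P : Sylow 3 K) : Subgroup K) : Set K)
          rw [mem_centralizer_iff, mem_centralizer_iff, Sylow.coe_subgroup_smul]
          constructor
          · intro h q hq
            obtain ⟨r, hr, rfl⟩ := Subgroup.mem_map.1 hq
            show g * r * g⁻¹ * (g * a * g⁻¹) = g * a * g⁻¹ * (g * r * g⁻¹)
            have := h r hr
            calc _ = g * (r * a) * g⁻¹ := by group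
              _ = _ := by rw [this]; group
          · intro h r hr
            have := h (g * r * g⁻¹) (Subgroup.mem_map.2 ⟨r, hr, rfl⟩)
            calc r * a = g⁻¹ * (g * r * g⁻¹ * (g * a * g⁻¹)) * g := by group
              _ = _ := by rw [this]; group
        intro t ht
        have hNg : Nat.card (normalizer (((g • P : Sylow 3 K) : Subgroup K) : Set K)) = 6 := by
          have h' := CfsgLib.SmallGroups.card_sylow_mul_card_normalizer (g • P)
          rw [hK, h4] at h'
          omega
        have hno : ∀ s : K, orderOf s = 2 → s ∉ centralizer (((g • P : Sylow 3 K) : Subgroup K) : Set K) :=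
          fun s hs hsC => by
            have := hs ▸ Subgroup.orderOf_dvd_natCard _ hsC
            rw [hCg] at this; norm_num at this
        refine ⟨?_, hno t ht, hCg⟩
        set H := normalizer (((g • P : Sylow 3 K) : Subgroup K) : Set K)
        have h3le : 3 ≤ Nat.card {s : H // orderOf s = 2} := by
          obtain ⟨s, hs⟩ := exists_prime_orderOf_dvd_card' (G := H) 2 (by rw [hNg]; norm_num)
          obtain ⟨r, hr⟩ := exists_prime_orderOf_dvd_card' (G := ((g • P : Sylow 3 K) : Subgroup K)) 3 (by rw [hPs])
          have hrH : (r : K) ∈ H := le_normalizer r.2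
          have hmod3 := count_modEq (G := H) (x := ⟨(r : K), hrH⟩) (p := 3)
            (by rw [Subgroup.orderOf_mk, Subgroup.orderOf_coe, hr]) 2
          have h0 : Nat.card {u : centralizer ({(⟨(r : K), hrH⟩ : H)} : Set H) // orderOf u = 2} = 0 := by
            refine Nat.card_eq_zero.2 (Or.inl ⟨fun u => hno ((u.1 : H) : K)
              (by rw [Subgroup.orderOf_coe, Subgroup.orderOf_coe, u.2]) ?_⟩)
            rw [centralizer_eq_singleton r.2 (by rw [Subgroup.orderOf_coe, hr, hPs]), mem_centralizer_singleton_iff]
            exact congrArg Subtype.val (mem_centralizer_singleton_iff.1 u.1.2)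
          rw [h0, Nat.ModEq] at hmod3
          have : 0 < Nat.card {s : H // orderOf s = 2} := Nat.card_pos_iff.2 ⟨⟨⟨s, hs⟩⟩, inferInstance⟩
          omega
        have hb : Function.Bijective (fun s : {s : H // orderOf s = 2} =>
            (⟨((s : H) : K), (Subgroup.orderOf_coe _).trans s.2⟩ : {g : K // orderOf g = 2})) :=
          Function.Injective.bijective_of_nat_card_le
            (fun a b h => Subtype.ext (Subtype.ext (congrArg (fun u : {g : K // orderOf g = 2} => (u : K)) h))) (by omega)
        obtain ⟨s, hs⟩ := hb.2 ⟨t, ht⟩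
        have e : ((s : H) : K) = t := congrArg (fun u : {g : K // orderOf g = 2} => (u : K)) hs
        exact e ▸ (s : H).2
      obtain ⟨t, ht⟩ := exists_prime_orderOf_dvd_card' (G := K) 2 (by rw [hK]; norm_num)
      obtain ⟨u, hu, hut⟩ : ∃ u : K, orderOf u = 2 ∧ u ≠ t := by
        by_contra hcon
        push Not at hcon
        have : Nat.card {g : K // orderOf g = 2} ≤ 1 := by
          haveI : Subsingleton {g : K // orderOf g = 2} :=
            ⟨fun a b => Subtype.ext ((hcon a a.2).trans (hcon b b.2).symm)⟩
          exact Finite.card_le_one_iff_subsingleton.2 inferInstance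
        omega
      obtain ⟨Q, hQ⟩ : ∃ Q : Sylow 3 K, Q ≠ P := by
        by_contra hcon
        push Not at hcon
        haveI : Subsingleton (Sylow 3 K) := ⟨fun a b => (hcon a).trans (hcon b).symm⟩
        rw [Nat.card_of_subsingleton P] at h4
        omega
      have hin : ∀ R : Sylow 3 K, t * u ∈ (R : Subgroup K) := fun R => by
        obtain ⟨a1, a2, a3⟩ := hall R t ht
        obtain ⟨b1, b2, -⟩ := hall R u hu
        have hle : (R : Subgroup K) ≤ centralizer ((R : Subgroup K) : Set K) := by
          haveI : IsCyclic (R : Subgroup K) := isCyclic_of_prime_card (hPs R)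
          haveI : IsMulCommutative (R : Subgroup K) := IsCyclic.isMulCommutative
          exact le_centralizer _
        rw [eq_of_le_of_card_ge hle (by rw [a3, hPs])]
        exact mul_mem_centralizer (hPs R) a1 b1 a2 b2
      refine hQ (Sylow.ext ?_)
      have htu : t * u ≠ 1 := fun e => hut (by
        rw [mul_eq_one_iff_eq_inv] at e
        rw [e, inv_eq_of_mul_eq_one_right (by rw [← pow_two]; exact orderOf_dvd_iff_pow_eq_one.1 (dvd_of_eq hu))])
      have hz : ∀ R : Sylow 3 K, zpowers (t * u) = (R : Subgroup K) := fun R =>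
        eq_of_le_of_card_ge (zpowers_le.2 (hin R)) (by
          rcases (Nat.dvd_prime Nat.prime_three).1 (hPs R ▸ Subgroup.orderOf_dvd_natCard _ (hin R)) with h | h
          · exact absurd (orderOf_eq_one_iff.1 h) htu
          · rw [hPs, Nat.card_zpowers, h])
      exact (hz Q).symm.trans (hz P)
    · have hCc : ∀ g : K, orderOf g = 3 → ∃! z : K, orderOf z = 2 ∧ Commute g z := by
        intro g hg
        obtain ⟨Q, hQ⟩ := (IsPGroup.of_card (p := 3) (n := 1) (by rw [Nat.card_zpowers, hg, pow_one]) :
          IsPGroup 3 (zpowers g)).exists_le_sylow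
        obtain ⟨a, rfl⟩ := MulAction.exists_smul_eq K P Q
        have hg' : g = a * (a⁻¹ * g * a) * a⁻¹ := by group
        have hgP : a⁻¹ * g * a ∈ (P : Subgroup K) := by
          have := hQ (mem_zpowers g)
          rw [Sylow.coe_subgroup_smul] at this
          obtain ⟨r, hr, e⟩ := Subgroup.mem_map.1 this
          have e' : a * r * a⁻¹ = g := e
          rw [← e']
          simpa [mul_assoc] using hr
        have hz : zpowers (a⁻¹ * g * a) = (P : Subgroup K) := eq_of_le_of_card_ge (zpowers_le.2 hgP) (by
          rw [hPs, Nat.card_zpowers, show orderOf (a⁻¹ * g * a) = orderOf g by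
            rw [← MulEquiv.orderOf_eq (MulAut.conj a⁻¹) g]; simp [MulAut.conj_apply], hg])
        have hiff : ∀ w : K, Commute g w ↔ a⁻¹ * w * a ∈ C := fun w => by
          rw [hC, ← hz, zpowers_eq_closure, centralizer_closure, mem_centralizer_singleton_iff]
          constructor
          · intro h
            calc a⁻¹ * w * a * (a⁻¹ * g * a) = a⁻¹ * (w * g) * a := by group
              _ = _ := by rw [← h.eq]; group
          · intro h
            show g * w = w * g
            calc g * w = a * (a⁻¹ * g * a * (a⁻¹ * w * a)) * a⁻¹ := by group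
              _ = _ := by rw [← h]; group
        haveI : IsCyclic C := by
          rw [← hCσ]
          exact isCyclic_centralizer (p := 3) (q := 2) Nat.prime_three (by norm_num) hσK (by rw [hCσ, hc])
        have h1 := count_cyclic C 2
        rw [hc, if_pos (by norm_num), Nat.totient_two] at h1
        obtain ⟨z, hz'⟩ := Nat.card_eq_one_iff_exists.1 h1
        have hord : ∀ w : K, orderOf (a⁻¹ * w * a) = orderOf w := fun w => by
          rw [← MulEquiv.orderOf_eq (MulAut.conj a⁻¹) w]; simp [MulAut.conj_apply]
        refine ⟨a * ((z : C) : K) * a⁻¹, ⟨?_, ?_⟩, ?_⟩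
        · rw [← hord, show a⁻¹ * (a * ((z : C) : K) * a⁻¹) * a = ((z : C) : K) by group, Subgroup.orderOf_coe, z.2]
        · rw [hiff, show a⁻¹ * (a * ((z : C) : K) * a⁻¹) * a = ((z : C) : K) by group]
          exact (z : C).2
        · rintro w ⟨hw2, hw⟩
          have := congrArg (fun u : {t : C // orderOf t = 2} => ((u : C) : K))
            (hz' ⟨⟨_, (hiff w).1 hw⟩, by rw [Subgroup.orderOf_mk, hord, hw2]⟩)
          simp only at this
          rw [← this]
          group
      choose zf hzf using fun g : {g : K // orderOf g = 3} => (hCc g g.2).exists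
      have h66 : 8 ≤ Nat.card {g : K // orderOf g = 6} := by
        have h8 : Nat.card {g : K // orderOf g = 3} = 8 := by rw [hc3, h4]
        rw [← h8]
        refine Nat.card_le_card_of_injective (fun g => ⟨(g : K) * zf g, ?_⟩) fun g h e => ?_
        · rw [(hzf g).2.orderOf_mul_eq_mul_orderOf_of_coprime (by rw [g.2, (hzf g).1]; norm_num), g.2, (hzf g).1]
        · have e' : (g : K) * zf g = (h : K) * zf h := congrArg Subtype.val e
          have hp4 : ∀ u : {g : K // orderOf g = 3}, ((u : K) * zf u) ^ 4 = u := fun u => by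
            rw [(hzf u).2.mul_pow, show (4 : ℕ) = 3 + 1 by norm_num, pow_succ,
              show (u : K) ^ 3 = 1 from orderOf_dvd_iff_pow_eq_one.1 (dvd_of_eq u.2), one_mul,
              show 3 + 1 = 2 * 2 by norm_num, pow_mul,
              show zf u ^ 2 = 1 from orderOf_dvd_iff_pow_eq_one.1 (dvd_of_eq (hzf u).1), one_pow, mul_one]
          exact Subtype.ext (by rw [← hp4 g, ← hp4 h, e'])
      have hj : Nat.card {t : C // orderOf t = 2} = 1 := by
        haveI : IsCyclic C := by
          rw [← hCσ]
          exact isCyclic_centralizer (p := 3) (q := 2) Nat.prime_three (by norm_num) hσK (by rw [hCσ, hc])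
        rw [count_cyclic, hc, if_pos (by norm_num), Nat.totient_two]
      rw [hj] at hfix
      have hsum : Nat.card {g : K // orderOf g = 2} + 8 + Nat.card {g : K // orderOf g = 6} + 1 ≤ 24 := by
        have h8 : Nat.card {g : K // orderOf g = 3} = 8 := by rw [hc3, h4]
        have := count_sum_le (K := K) {1, 2, 3, 6}
        rw [Finset.sum_insert (by decide), Finset.sum_insert (by decide), Finset.sum_insert (by decide), Finset.sum_singleton,
          count_one, h8, hK] at this
        omega
      omega

end Order24

end CfsgLib.MTwentyFourUnique
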