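import Cfsg.Agent.Lib.MTwentyFourUnique.Concrete
import Cfsg.Agent.Lib.MTwentyFourUnique.TwentyFour
import Cfsg.Agent.Lib.MTwentyThreeUnique.NSE
import Mathlib

/-!
A group with the order and the numbers of elements of equal order of M24 has the local facts at 5, 7, 11, 23.
-/

set_option autoImplicit false
set_option linter.style.haveILetI false

noncomputable section

namespace CfsgLib.MTwentyFourUnique

open Subgroup Cfsg CfsgLib.MTwentyTwoUnique CfsgLib.MTwentyThreeUnique

/-- A tabulated count is zero off the table. -/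
theorem tabulated_zero {n : ℕ} {os : List ℕ} (h : os.length = n) {k : ℕ} (hk : k ∉ os) :
    (Finset.univ.filter fun i : Fin n => os.getD i 0 = k).card = 0 := by
  rw [Finset.card_eq_zero, Finset.filter_eq_empty_iff]
  intro i _ e
  rw [List.getD_eq_getElem _ _ (h ▸ i.2 : (i : ℕ) < os.length)] at e
  exact hk (e ▸ List.getElem_mem _)

theorem five_residue {k r : ℕ} (hr : r ≠ 0)
    (h : Nat.card {g : centralizer ({xM5} : Set ↥M24) // orderOf g = k} % 5 = r) : k ∈ ord5L := by
  by_contra hk
  rw [five_count.2, tabulated_zero (by decide) hk, Nat.zero_mod] at h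
  exact hr h.symm

theorem seven_residue {k r : ℕ} (hr : r ≠ 0)
    (h : Nat.card {g : centralizer ({xM7} : Set ↥M24) // orderOf g = k} % 7 = r) : k ∈ ord7L := by
  by_contra hk
  rw [seven_count, tabulated_zero (by decide) hk, Nat.zero_mod] at h
  exact hr h.symm

variable {G : Type*} [Group G] [Finite G]

/-- Transfer of the count of elements of prime order, with the counts in the centralizer of `M` known. -/
theorem count_transfer_gen {M : Type*} [Group M] [Finite M]
    (hnse : {c : ℕ | 0 < c ∧ ∃ n : ℕ, c = Nat.card {g : G // orderOf g = n}} =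
      {c : ℕ | 0 < c ∧ ∃ n : ℕ, c = Nat.card {g : M // orderOf g = n}})
    {p : ℕ} [Fact p.Prime] (hP : ∀ P : Sylow p G, Nat.card (P : Subgroup G) = p) {x : M} (hx : orderOf x = p)
    (key : ∀ k, Nat.card {g : centralizer ({x} : Set M) // orderOf g = k} % p = p - 1 →
      Nat.card {g : M // orderOf g = k} = Nat.card {g : M // orderOf g = p}) :
    Nat.card {g : G // orderOf g = p} = Nat.card {g : M // orderOf g = p} := by
  have hp2 := (Fact.out : p.Prime).two_le
  have hcard := CfsgLib.Classical.Dickson.card_orderOf_eq hP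
  have hn := CfsgLib.SmallGroups.mod_eq_one_card_sylow (p := p) (G := G)
  have hres : Nat.card {g : G // orderOf g = p} % p = p - 1 := by
    rw [hcard, Nat.mul_mod, hn, one_mul, Nat.mod_mod, Nat.mod_eq_of_lt (by omega)]
  have hmem : Nat.card {g : G // orderOf g = p} ∈
      {c : ℕ | 0 < c ∧ ∃ n : ℕ, c = Nat.card {g : G // orderOf g = n}} :=
    ⟨Nat.pos_of_ne_zero fun h => by rw [h, Nat.zero_mod] at hres; omega, p, rfl⟩
  rw [hnse] at hmem
  obtain ⟨-, k, hk⟩ := hmem
  rw [hk] at hres ⊢
  rw [count_modEq hx k] at hres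
  exact key k hres

/-- Order and equal counts give the local facts. -/
theorem local_of_nse (hcard : Nat.card G = Nat.card ↥M24)
    (hnse : {c : ℕ | 0 < c ∧ ∃ n : ℕ, c = Nat.card {g : G // orderOf g = n}} =
      {c : ℕ | 0 < c ∧ ∃ n : ℕ, c = Nat.card {g : ↥M24 // orderOf g = n}}) : Local G := by
  classical
  haveI : Fact (Nat.Prime 2) := ⟨Nat.prime_two⟩
  haveI : Fact (Nat.Prime 5) := ⟨by norm_num⟩
  haveI : Fact (Nat.Prime 7) := ⟨by norm_num⟩
  haveI : Fact (Nat.Prime 11) := ⟨by norm_num⟩
  haveI : Fact (Nat.Prime 23) := ⟨by norm_num⟩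
  obtain ⟨hsimple, hG⟩ := CfsgLib.MathieuNSE.isM24_of_nse hcard hnse
  haveI := hsimple
  have hna : ¬ IsMulCommutative G :=
    CfsgLib.SmallGroups.not_isMulCommutative_of_not_prime (by rw [hG]; norm_num)
  have L := local_M24
  obtain ⟨c, hc⟩ := exists_prime_orderOf_dvd_card' (G := ↥M24) 11 (by rw [L.card]; norm_num)
  obtain ⟨d, hd⟩ := exists_prime_orderOf_dvd_card' (G := ↥M24) 23 (by rw [L.card]; norm_num)
  haveI := isCyclic_self (p := 11) (L.eleven c hc).1
  haveI := isCyclic_self (p := 23) (L.twentyThree d hd).1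
  have hP5 : ∀ P : Sylow 5 G, Nat.card (P : Subgroup G) = 5 :=
    sylow_card_of_one (m := 48964608) (by rw [hG]; norm_num) (by norm_num)
  have hP7 : ∀ P : Sylow 7 G, Nat.card (P : Subgroup G) = 7 :=
    sylow_card_of_one (m := 34974720) (by rw [hG]; norm_num) (by norm_num)
  have hP11 : ∀ P : Sylow 11 G, Nat.card (P : Subgroup G) = 11 :=
    sylow_card_of_one (m := 22256640) (by rw [hG]; norm_num) (by norm_num)
  have hP23 : ∀ P : Sylow 23 G, Nat.card (P : Subgroup G) = 23 :=
    sylow_card_of_one (m := 10644480) (by rw [hG]; norm_num) (by norm_num)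
  have c5 := count_transfer_gen hnse hP5 orderOf_xM5 fun k hr => by
    have key : ∀ k ∈ ord5L, (Finset.univ.filter fun i : Fin cent5L.length => ord5L.getD i 0 = k).card % 5 = 4 →
        k = 5 := by decide +kernel
    have hk := five_residue (by norm_num) hr
    rw [five_count.2] at hr
    rw [key k hk hr]
  have c7 := count_transfer_gen hnse hP7 orderOf_xM7 fun k hr => by
    have key : ∀ k ∈ ord7L, (Finset.univ.filter fun i : Fin cent7L.length => ord7L.getD i 0 = k).card % 7 = 6 →
        k = 7 := by decide +kernel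
    have hk := seven_residue (by norm_num) hr
    rw [seven_count] at hr
    rw [key k hk hr]
  have c11 := count_transfer hnse hP11 hc fun k hk hr => by
    rw [(L.eleven c hc).1] at hk
    have key : ∀ k ∈ Nat.divisors 11, k.totient % 11 = 10 → k = 11 := by decide +kernel
    rw [key k hk hr]
  have c23 := count_transfer hnse hP23 hd fun k hk hr => by
    rw [(L.twentyThree d hd).1] at hk
    have key : ∀ k ∈ Nat.divisors 23, k.totient % 23 = 22 → k = 23 := by decide +kernel
    rw [key k hk hr]
  have e5 := count_prime (fun P => sylow_card_of_one (m := 48964608) (by rw [L.card]; norm_num) (by norm_num) P)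
    fun x hx => (L.five x hx).2
  have e7 := count_prime (fun P => sylow_card_of_one (m := 34974720) (by rw [L.card]; norm_num) (by norm_num) P)
    fun x hx => (L.seven x hx).2
  have e11 := count_prime (fun P => sylow_card_of_one (m := 22256640) (by rw [L.card]; norm_num) (by norm_num) P)
    fun x hx => (L.eleven x hx).2
  have e23 := count_prime (fun P => sylow_card_of_one (m := 10644480) (by rw [L.card]; norm_num) (by norm_num) P)
    fun x hx => (L.twentyThree x hx).2
  rw [L.card] at e5 e7 e11 e23
  have n5 : ∀ x : G, orderOf x = 5 → Nat.card (normalizer ((zpowers x : Subgroup G) : Set G)) = 240 := fun x hx =>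
    normalizer_of_count hP5 c5 (by omega) (by rw [hG]; exact e5) hx
  have n7 : ∀ x : G, orderOf x = 7 → Nat.card (normalizer ((zpowers x : Subgroup G) : Set G)) = 126 := fun x hx =>
    normalizer_of_count hP7 c7 (by omega) (by rw [hG]; exact e7) hx
  have n11 : ∀ x : G, orderOf x = 11 → Nat.card (normalizer ((zpowers x : Subgroup G) : Set G)) = 110 := fun x hx =>
    normalizer_of_count hP11 c11 (by omega) (by rw [hG]; exact e11) hx
  have n23 : ∀ x : G, orderOf x = 23 → Nat.card (normalizer ((zpowers x : Subgroup G) : Set G)) = 253 := fun x hx =>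
    normalizer_of_count hP23 c23 (by omega) (by rw [hG]; exact e23) hx
  have t5 : Nat.card {g : ↥M24 // orderOf g = 2} % 5 = 3 := by
    rw [count_modEq orderOf_xM5 2, five_count.2]
    decide +kernel
  have t7 : Nat.card {g : ↥M24 // orderOf g = 2} % 7 = 3 := by
    rw [count_modEq orderOf_xM7 2, seven_count]
    decide +kernel
  have t11 : Nat.card {g : ↥M24 // orderOf g = 2} % 11 = 0 := by
    rw [count_mod_cyclic hc, (L.eleven c hc).1, if_neg (by norm_num)]
  have t2 := count_two_transfer hnse (by rw [L.card]; norm_num) (by omega)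
  have f11 : Nat.card {g : ↥M24 // orderOf g = 5} % 11 = 0 := by
    rw [count_mod_cyclic hc, (L.eleven c hc).1, if_neg (by norm_num)]
  -- no count other than one is one modulo five
  have hone : ∀ k, k ≠ 1 → Nat.card {g : G // orderOf g = k} % 5 ≠ 1 := by
    intro k hk1 hr
    have hmem : Nat.card {g : G // orderOf g = k} ∈
        {c : ℕ | 0 < c ∧ ∃ n : ℕ, c = Nat.card {g : G // orderOf g = n}} := ⟨by omega, k, rfl⟩
    rw [hnse] at hmem
    obtain ⟨-, j, hj⟩ := hmem
    have hr' := hr
    rw [hj, count_modEq orderOf_xM5 j] at hr'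
    have key : ∀ j ∈ ord5L, (Finset.univ.filter fun i : Fin cent5L.length => ord5L.getD i 0 = j).card % 5 = 1 →
        j = 1 := by decide +kernel
    have hjm := five_residue (by norm_num) hr'
    rw [five_count.2] at hr'
    rw [key j hjm hr', count_one] at hj
    rcases eq_or_ne k 2 with rfl | hk2
    · rw [t2] at hr
      omega
    · have := count_even (G := G) hk1 hk2
      omega
  refine ⟨hG, hsimple, fun x hx => ⟨?_, n23 x hx⟩, fun x hx => ⟨?_, n11 x hx⟩, fun x hx => ⟨?_, n7 x hx⟩,
    fun x hx => ⟨?_, n5 x hx⟩⟩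
  · exact centralizer_of_normalizer hna (q := 11) (by norm_num) hP23 (fun y hy => n23 y hy) hx
  · obtain ⟨hm, h11, hne, hN⟩ := centralizer_bounds hna hP11 hx (n11 x hx)
    have key : ∀ c ∈ Nat.divisors 110, 11 ∣ c → c ≠ 110 → c = 11 ∨ c = 22 ∨ c = 55 := by decide +kernel
    rcases key _ hm h11 hne with h | h | h
    · exact h
    · exfalso
      haveI := isCyclic_centralizer (p := 11) (q := 2) (by norm_num) (by norm_num) hx h
      have hc2 := count_mod_cyclic hx 2
      rw [h, if_pos (by norm_num), Nat.totient_two, t2, t11] at hc2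
      omega
    · exfalso
      haveI := isCyclic_centralizer (p := 11) (q := 5) (by norm_num) (by norm_num) hx h
      have hc5 := count_mod_cyclic hx 5
      rw [h, if_pos (by norm_num), Nat.totient_prime (by norm_num), c5, f11] at hc5
      omega
  · obtain ⟨hm, h7, hne, hN⟩ := centralizer_bounds hna hP7 hx (n7 x hx)
    have key : ∀ c ∈ Nat.divisors 126, 7 ∣ c → c ≠ 126 → 126 ∣ (7 - 1) * c → c = 42 ∨ ¬ 2 ∣ c := by decide +kernel
    refine (key _ hm h7 hne hN).resolve_right fun hodd => ?_
    have h := count_modEq hx 2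
    have h0 : Nat.card {g : centralizer ({x} : Set G) // orderOf g = 2} = 0 :=
      Nat.card_eq_zero.2 (Or.inl ⟨fun g => hodd (g.2 ▸ orderOf_dvd_natCard g.1)⟩)
    rw [h0, t2, Nat.ModEq, t7] at h
    omega
  · obtain ⟨hm, h5, hne, hN⟩ := centralizer_bounds hna hP5 hx (n5 x hx)
    have key : ∀ c ∈ Nat.divisors 240, 5 ∣ c → c ≠ 240 → 240 ∣ (5 - 1) * c → c = 60 ∨ c = 120 := by decide +kernel
    refine (key _ hm h5 hne hN).resolve_right fun h120 => ?_
    set C := centralizer ({x} : Set G) with hC
    have hxC : x ∈ C := mem_centralizer_singleton_iff.2 rfl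
    have hx' : orderOf (⟨x, hxC⟩ : C) = 5 := by rw [Subgroup.orderOf_mk, hx]
    have hcomm : ∀ g : C, Commute (⟨x, hxC⟩ : C) g := fun g =>
      Subtype.ext (show Commute (g : G) x from mem_centralizer_singleton_iff.1 g.2).symm.eq
    haveI : (zpowers (⟨x, hxC⟩ : C)).Normal :=
      ⟨fun n hn g => by
        obtain ⟨i, rfl⟩ := mem_zpowers_iff.1 hn
        rw [((hcomm g).zpow_left i).symm.eq, mul_inv_cancel_right]
        exact zpow_mem_zpowers _ i⟩
    have hidx : (zpowers (⟨x, hxC⟩ : C)).index = 24 := by
      have h := (zpowers (⟨x, hxC⟩ : C)).card_mul_index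
      rw [Nat.card_zpowers, hx', h120] at h
      omega
    obtain ⟨K, hK⟩ := exists_right_complement'_of_coprime (N := zpowers (⟨x, hxC⟩ : C))
      (by rw [Nat.card_zpowers, hx', hidx]; norm_num)
    have hKc : Nat.card K = 24 := by
      have h := hK.card_mul
      rw [Nat.card_zpowers, hx', h120] at h
      omega
    have hprod := fun (m : ℕ) (hm : ¬ 5 ∣ m) =>
      count_prod (p := 5) hx' hcomm hK (by rw [hKc]; norm_num) hm
    have hmod : ∀ k, Nat.card {g : G // orderOf g = k} % 5 = Nat.card {g : C // orderOf g = k} % 5 := fun k =>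
      count_modEq hx k
    have k2 : Nat.card {g : K // orderOf g = 2} % 5 = 3 := by
      rw [← (hprod 2 (by norm_num)).1, ← hmod, t2, t5]
    obtain ⟨m, hm', h14⟩ := order24_residue hKc k2
    have hm5 : ¬ 5 ∣ m ∧ m ≠ 1 ∧ 5 * m ≠ 1 := by
      simp only [Finset.mem_insert, Finset.mem_singleton] at hm'
      rcases hm' with rfl | rfl | rfl <;> norm_num
    rcases h14 with h1 | h4
    · exact hone m hm5.2.1 (by rw [hmod, (hprod m hm5.1).1, h1])
    · exact hone (5 * m) hm5.2.2 (by rw [hmod, (hprod m hm5.1).2, Nat.mul_mod, h4])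

end CfsgLib.MTwentyFourUnique
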