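import Cfsg.Agent.Lib.MTwentyFourUnique.Index24
import Cfsg.Agent.Lib.MTwentyThreeUnique.Iso
import Cfsg.Agent.Lib.SmallGroups.Basic
import Mathlib

/-!
The point stabiliser of the action on twenty-four points has the local facts of the Mathieu group of degree 23.
-/

set_option autoImplicit false
set_option linter.style.haveILetI false

noncomputable section

namespace CfsgLib.MTwentyFourUnique

open Subgroup Cfsg
/-- The Sylow congruences of the stabiliser. -/
theorem cong_lists : (∀ n ∈ [23, 253], 10200960 / n % 23 = 1 → n = 253) ∧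
    (∀ n ∈ [11, 22, 55, 110], 10200960 / n % 11 = 1 → n = 55) ∧
    (∀ n ∈ [7, 14, 21, 42, 63, 126], 10200960 % n = 0 → 10200960 / n % 7 = 1 → n = 42) ∧
    ∀ n ∈ [5, 10, 15, 20, 30, 40, 60, 80, 120, 240],
      10200960 % n = 0 → 10200960 / n % 5 = 1 → n = 10 ∨ n = 60 := by
  decide +kernel

attribute [local instance] Classical.propDecidable

universe w

variable {G : Type w} [Group G] [Finite G] (hL : Local G) (H : Subgroup G) (hH : H.index = 24)

include hL hH

theorem card_stab : Nat.card H = 10200960 := by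
  have := H.card_mul_index
  rw [hL.card, hH] at this
  omega

theorem act_injective : Function.Injective (MulAction.toPermHom G (G ⧸ H)) := by
  haveI := hL.simple
  rw [← MonoidHom.ker_eq_bot_iff, ← Subgroup.normalCore_eq_ker]
  refine (Subgroup.Normal.eq_bot_or_eq_top (H := H.normalCore) inferInstance).resolve_right fun ht => ?_
  have hle := H.normalCore_le
  rw [ht, top_le_iff] at hle
  rw [hle, Subgroup.index_top] at hH
  norm_num at hH

omit hL hH in
theorem mem_iff_fix (g : G) : g • ((1 : G) : G ⧸ H) = ((1 : G) : G ⧸ H) ↔ g ∈ H := by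
  rw [← MulAction.mem_stabilizer_iff, MulAction.stabilizer_quotient]

/-- The stabiliser is transitive on the other points. -/
theorem stab_transitive (p q : G ⧸ H) (hp : p ≠ ((1 : G) : G ⧸ H)) (hq : q ≠ ((1 : G) : G ⧸ H)) :
    ∃ h ∈ H, h • p = q := by
  classical
  haveI : Fintype (G ⧸ H) := Fintype.ofFinite _
  haveI : Fact (Nat.Prime 23) := ⟨by norm_num⟩
  obtain ⟨⟨u, huH⟩, hu⟩ := exists_prime_orderOf_dvd_card' (G := H) 23 (by rw [card_stab hL H hH]; norm_num)
  rw [Subgroup.orderOf_mk] at hu
  set σ := MulAction.toPermHom G (G ⧸ H) u with hσ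
  have ho : orderOf σ = 23 := by rw [hσ, orderOf_injective _ (act_injective hL H hH), hu]
  have h24 : Fintype.card (G ⧸ H) = 24 := by rw [← Nat.card_eq_fintype_card, ← Subgroup.index, hH]
  have hcyc : σ.IsCycle := Equiv.Perm.isCycle_of_prime_order' (by rw [ho]; norm_num) (by rw [ho, h24]; norm_num)
  have hsupp : σ.support.card = 23 := hcyc.orderOf.symm.trans ho
  have hmov : ∀ r, r ≠ ((1 : G) : G ⧸ H) → σ r ≠ r := fun r hr => by
    have hb : ((1 : G) : G ⧸ H) ∈ σ.supportᶜ := by simp [hσ, (mem_iff_fix H u).2 huH]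
    have hc : σ.supportᶜ.card = 1 := by rw [Finset.card_compl, hsupp, h24]
    intro he
    obtain ⟨z, hz⟩ := Finset.card_eq_one.1 hc
    have h1 : r ∈ σ.supportᶜ := by simp [he]
    rw [hz, Finset.mem_singleton] at h1 hb
    exact hr (h1.trans hb.symm)
  obtain ⟨i, hi⟩ := hcyc.exists_zpow_eq (hmov p hp) (hmov q hq)
  refine ⟨u ^ i, zpow_mem huH i, ?_⟩
  rw [hσ, ← map_zpow] at hi
  exact hi

/-- The stabiliser is simple. -/
theorem stab_simple : IsSimpleGroup H := by
  classical
  haveI : Fact (Nat.Prime 23) := ⟨by norm_num⟩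
  haveI : Fintype (G ⧸ H) := Fintype.ofFinite _
  set a : G ⧸ H := ((1 : G) : G ⧸ H) with ha
  have hcard := card_stab hL H hH
  haveI : Nontrivial H := Finite.one_lt_card_iff_nontrivial.1 (by rw [hcard]; norm_num)
  obtain ⟨b, hb⟩ : ∃ b : G ⧸ H, b ≠ a := Fintype.exists_ne_of_one_lt_card
    (by rw [← Nat.card_eq_fintype_card, ← Subgroup.index, hH]; norm_num) a
  set S : Subgroup H := MulAction.stabilizer H b with hS
  have hfixa : ∀ h : H, (h : G) • a = a := fun h => (mem_iff_fix H _).2 h.2
  have hSi : S.index = 23 := by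
    rw [hS, MulAction.index_stabilizer, show MulAction.orbit H b = {p | p ≠ a} from ?_, ← Nat.card_coe_set_eq,
      Nat.card_eq_fintype_card, Set.card_ne_eq, ← Nat.card_eq_fintype_card, ← Subgroup.index, hH]
    ext p
    constructor
    · rintro ⟨h, rfl⟩ (e : (h : G) • b = a)
      exact hb (smul_left_cancel (h : G) (e.trans (hfixa h).symm))
    · intro hp
      obtain ⟨h, hh, e⟩ := stab_transitive hL H hH b p hb hp
      exact ⟨⟨h, hh⟩, e⟩
  have key : ∀ N : Subgroup H, N.Normal → N ≠ ⊥ → 23 ∣ Nat.card N := by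
    intro N hN hne
    by_contra h23
    have hNS : N ≤ S := by
      by_contra hns
      set q := QuotientGroup.mk' N
      have htop : S.map q = ⊤ := by
        have hle : S ≤ (S.map q).comap q := le_comap_map q S
        have hd := Subgroup.index_dvd_of_le hle
        rw [hSi] at hd
        rcases (Nat.dvd_prime (by norm_num)).1 hd with h1 | h1
        · rw [Subgroup.index_eq_one] at h1
          rw [eq_top_iff]
          intro x _
          obtain ⟨y, rfl⟩ := QuotientGroup.mk'_surjective N x
          have : y ∈ (S.map q).comap q := h1 ▸ mem_top y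
          exact this
        · exfalso
          refine hns fun x hx => ?_
          have hr := Subgroup.relIndex_mul_index hle
          rw [h1, hSi] at hr
          have hrel : S.relIndex ((S.map q).comap q) = 1 := by omega
          refine Subgroup.relIndex_eq_one.1 hrel ?_
          rw [mem_comap, show q x = 1 from (QuotientGroup.eq_one_iff x).2 hx]
          exact one_mem _
      have hd := Subgroup.card_map_dvd S q
      rw [htop, Subgroup.card_top] at hd
      have h1 : Nat.card H ∣ Nat.card S * Nat.card N := by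
        rw [Subgroup.card_eq_card_quotient_mul_card_subgroup N]
        exact Nat.mul_dvd_mul_right hd _
      rw [← S.card_mul_index, hSi] at h1
      exact h23 (Nat.dvd_of_mul_dvd_mul_left Nat.card_pos h1)
    refine hne (eq_bot_iff.2 fun x hx => ?_)
    rw [mem_bot]
    apply Subtype.ext
    refine act_injective hL H hH (Equiv.ext fun p => ?_)
    show (x : G) • p = (1 : G) • p
    rw [one_smul]
    by_cases hp : p = a
    · rw [hp]; exact hfixa x
    obtain ⟨h, hh, rfl⟩ := stab_transitive hL H hH b p hb hp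
    have hx' : (⟨h, hh⟩ : H)⁻¹ * x * ⟨h, hh⟩ ∈ N := by
      have := hN.conj_mem x hx (⟨h, hh⟩ : H)⁻¹
      rwa [inv_inv] at this
    have e : (h⁻¹ * (x : G) * h) • b = b := hNS hx'
    rw [mul_smul, mul_smul, inv_smul_eq_iff] at e
    exact e
  refine { eq_bot_or_eq_top_of_normal := fun N hN => ?_ }
  by_cases hne : N = ⊥
  · exact Or.inl hne
  refine Or.inr ?_
  haveI := hN
  obtain ⟨P⟩ : Nonempty (Sylow 23 N) := inferInstance
  have hsup : normalizer (((P : Subgroup N).map N.subtype : Subgroup H) : Set H) ⊔ N = ⊤ :=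
    Sylow.normalizer_sup_eq_top P
  set Q := (P : Subgroup N).map N.subtype with hQ
  have hQc : Nat.card Q = 23 := by
    rw [hQ, Subgroup.card_map_of_injective N.subtype_injective]
    obtain ⟨k, hk⟩ := P.2.exists_card_eq
    rw [hk]
    have hd : 23 ^ k ∣ Nat.card H := hk ▸ (Subgroup.card_subgroup_dvd_card _).trans (Subgroup.card_subgroup_dvd_card N)
    rw [hcard] at hd
    have hk1 : k ≤ 1 := by
      by_contra h
      have := (pow_dvd_pow 23 (by omega : 2 ≤ k)).trans hd
      norm_num at this
    have hk0 : k ≠ 0 := fun e => by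
      have := P.dvd_card_of_dvd_card (key N hN hne)
      rw [hk, e] at this
      norm_num at this
    rw [show k = 1 by omega, pow_one]
  obtain ⟨x, hx⟩ := exists_prime_orderOf_dvd_card' (G := Q) 23 (by rw [hQc])
  have hQx : Q = zpowers (x : H) := (Subgroup.eq_of_le_of_card_ge (zpowers_le.2 x.2)
    (by rw [hQc, Nat.card_zpowers, Subgroup.orderOf_coe, hx])).symm
  have hxG : orderOf ((x : H) : G) = 23 := by rw [Subgroup.orderOf_coe, Subgroup.orderOf_coe, hx]
  -- the normalizer in the stabiliser has order dividing 253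
  set M := normalizer (Q : Set H) with hM
  have hMd : Nat.card M ∣ 253 := by
    rw [← (hL.twentyThree _ hxG).2]
    have hle : M.map H.subtype ≤ normalizer ((zpowers ((x : H) : G) : Subgroup G) : Set G) := by
      have := le_normalizer_map (H := Q) H.subtype
      rw [(congrArg (Subgroup.map H.subtype) hQx).trans (MonoidHom.map_zpowers _ _)] at this
      exact this
    have := card_dvd_of_le hle
    rwa [Subgroup.card_map_of_injective H.subtype_injective] at this
  by_cases hMN : M ≤ N
  · rw [sup_eq_right.2 hMN] at hsup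
    exact hsup
  exfalso
  have hQN : Q ≤ N := Subgroup.map_subtype_le _
  have hNM : Nat.card (M ⊓ N : Subgroup H) = 23 := by
    have h1 : 23 ∣ Nat.card (M ⊓ N : Subgroup H) := hQc ▸ card_dvd_of_le (le_inf Subgroup.le_normalizer hQN)
    have h2 := (card_dvd_of_le (inf_le_left : M ⊓ N ≤ M)).trans hMd
    have h3 : Nat.card (M ⊓ N : Subgroup H) ≠ 253 := fun e => hMN (by
      have : M ⊓ N = M := Subgroup.eq_of_le_of_card_ge inf_le_left (by rw [e]; exact Nat.le_of_dvd (by norm_num) hMd)
      exact inf_eq_left.1 this)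
    have hmem : Nat.card (M ⊓ N : Subgroup H) ∈ Nat.divisors 253 := Nat.mem_divisors.2 ⟨h2, by norm_num⟩
    rw [show Nat.divisors 253 = {1, 11, 23, 253} by decide +kernel] at hmem
    simp only [Finset.mem_insert, Finset.mem_singleton] at hmem
    omega
  have hMQ : M ⊓ N = Q := (Subgroup.eq_of_le_of_card_ge (le_inf Subgroup.le_normalizer hQN) (by rw [hNM, hQc])).symm
  have hle : normalizer ((P : Subgroup N) : Set N) ≤ centralizer ((P : Subgroup N) : Set N) := by
    intro g hg
    have hgM : (g : H) ∈ M := by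
      have := le_normalizer_map (H := (P : Subgroup N)) N.subtype ⟨g, hg, rfl⟩
      exact this
    have hgQ : (g : H) ∈ Q := hMQ ▸ ⟨hgM, g.2⟩
    replace hgQ := hQx.le hgQ
    rw [mem_centralizer_iff]
    intro y hy
    have hyQ : (y : H) ∈ Q := ⟨y, hy, rfl⟩
    replace hyQ := hQx.le hyQ
    obtain ⟨i, hi⟩ := mem_zpowers_iff.1 hgQ
    obtain ⟨j, hj⟩ := mem_zpowers_iff.1 hyQ
    apply Subtype.ext
    show (y : H) * g = g * y
    rw [← hi, ← hj, ← zpow_add, ← zpow_add, add_comm]
  set K := (MonoidHom.transferSylow P hle).ker with hK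
  have hcompl : IsComplement' K (P : Subgroup N) := MonoidHom.ker_transferSylow_isComplement' P hle
  have hndvd := MonoidHom.not_dvd_card_ker_transferSylow P hle
  have hmemK : ∀ z : N, ¬ 23 ∣ orderOf z → z ∈ K := fun z hz => by
    have h1 := orderOf_map_dvd (MonoidHom.transferSylow P hle) z
    have h2 : orderOf (MonoidHom.transferSylow P hle z) ∣ 23 := by
      have := orderOf_dvd_natCard (MonoidHom.transferSylow P hle z)
      rwa [← Subgroup.card_map_of_injective N.subtype_injective, ← hQ, hQc] at this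
    rcases (Nat.dvd_prime (by norm_num)).1 h2 with e | e
    · exact MonoidHom.mem_ker.2 (orderOf_eq_one_iff.1 e)
    · exact absurd (e ▸ h1) hz
  set K' := K.map N.subtype with hK'
  have hK'n : K'.Normal := ⟨by
    rintro _ ⟨z, hz, rfl⟩ g
    refine ⟨⟨g * z * g⁻¹, hN.conj_mem _ z.2 g⟩, hmemK _ fun hd => hndvd ?_, rfl⟩
    rw [← Subgroup.orderOf_coe] at hd
    replace hd : 23 ∣ orderOf ((z : H)) := by
      have e : orderOf (g * (z : H) * g⁻¹) = orderOf (z : H) :=
        orderOf_injective (MulAut.conj g).toMonoidHom (MulAut.conj g).injective (z : H)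
      rwa [e] at hd
    rw [Subgroup.orderOf_coe] at hd
    exact hd.trans (Subgroup.orderOf_dvd_natCard (s := K) hz)⟩
  have hK'c : ¬ 23 ∣ Nat.card K' := by rw [hK', Subgroup.card_map_of_injective N.subtype_injective]; exact hndvd
  have hK'bot : K' = ⊥ := by
    by_contra hne'
    exact hK'c (key K' hK'n hne')
  have hNQ : N = Q := by
    rw [hK', Subgroup.map_eq_bot_iff_of_injective _ N.subtype_injective] at hK'bot
    rw [hK'bot, Subgroup.isComplement'_bot_left] at hcompl
    rw [hQ, hcompl, ← MonoidHom.range_eq_map, Subgroup.range_subtype]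
  have : M = ⊤ := by rw [hM, ← hNQ, Subgroup.normalizer_eq_top_iff]; exact hN
  rw [this, Subgroup.card_top, hcard] at hMd
  norm_num at hMd

omit hL hH in
/-- The local data in the stabiliser as cards of intersections. -/
theorem card_in_stab (x : H) :
    Nat.card (centralizer ({x} : Set H)) = Nat.card (centralizer ({(x : G)} : Set G) ⊓ H : Subgroup G) ∧
      Nat.card (normalizer ((zpowers x : Subgroup H) : Set H)) =
        Nat.card (normalizer ((zpowers (x : G) : Subgroup G) : Set G) ⊓ H : Subgroup G) := by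
  constructor
  · exact Nat.card_congr
      { toFun := fun g => ⟨((g : H) : G), mem_centralizer_singleton_iff.2
          (congrArg Subtype.val (mem_centralizer_singleton_iff.1 g.2)), (g : H).2⟩
        invFun := fun g => ⟨⟨g, g.2.2⟩, mem_centralizer_singleton_iff.2
          (Subtype.ext (mem_centralizer_singleton_iff.1 g.2.1))⟩
        left_inv := fun _ => rfl
        right_inv := fun _ => rfl }
  · have hiff : ∀ y : H, y ∈ zpowers x ↔ (y : G) ∈ zpowers (x : G) := fun y => by
      simp only [mem_zpowers_iff, Subtype.ext_iff, SubgroupClass.coe_zpow]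
    have hmem : ∀ g : H, g ∈ normalizer ((zpowers x : Subgroup H) : Set H) ↔
        (g : G) ∈ normalizer ((zpowers (x : G) : Subgroup G) : Set G) := fun g => by
      constructor
      · intro h y
        constructor
        · intro hy
          have hyH : y ∈ H := (zpowers_le.2 x.2) hy
          exact (hiff _).1 ((h ⟨y, hyH⟩).1 ((hiff _).2 hy))
        · intro hy
          have hyH : y ∈ H := by
            have := H.mul_mem (H.mul_mem (H.inv_mem g.2) ((zpowers_le.2 x.2) hy)) g.2
            rwa [show (g : G)⁻¹ * ((g : G) * y * (g : G)⁻¹) * g = y by group] at this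
          exact (hiff _).1 ((h ⟨y, hyH⟩).2 ((hiff _).2 hy))
      · intro h y
        rw [SetLike.mem_coe, SetLike.mem_coe, hiff, hiff]
        exact h y
    exact Nat.card_congr
      { toFun := fun g => ⟨((g : H) : G), (hmem _).1 g.2, (g : H).2⟩
        invFun := fun g => ⟨⟨g, g.2.2⟩, (hmem _).2 g.2.1⟩
        left_inv := fun _ => rfl
        right_inv := fun _ => rfl }

/-- An element of prime order is not central in its normalizer in the stabiliser. -/
theorem card_normalizer_ne {p : ℕ} [Fact p.Prime] (hp : ¬ p * p ∣ Nat.card H) {x : H} (hx : orderOf x = p) :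
    Nat.card (normalizer ((zpowers x : Subgroup H) : Set H)) ≠ Nat.card (centralizer ({x} : Set H)) := by
  intro he
  haveI := stab_simple hL H hH
  have hna : ¬ IsMulCommutative H :=
    CfsgLib.SmallGroups.not_isMulCommutative_of_not_prime (by rw [card_stab hL H hH]; norm_num)
  have hcle : centralizer ((zpowers x : Subgroup H) : Set H) = centralizer ({x} : Set H) := by
    rw [zpowers_eq_closure, centralizer_closure]
  have hle := CfsgLib.SmallGroups.centralizer_le_normalizer' (zpowers x : Subgroup H)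
  rw [hcle] at hle
  have heq := Subgroup.eq_of_le_of_card_ge hle (le_of_eq he)
  obtain ⟨P, hP⟩ := (IsPGroup.of_card (p := p) (n := 1) (by rw [Nat.card_zpowers, hx, pow_one]) :
    IsPGroup p (zpowers x)).exists_le_sylow
  have hPe : (P : Subgroup H) = zpowers x := (Subgroup.eq_of_le_of_card_ge hP (by
    rw [Nat.card_zpowers, hx]
    obtain ⟨k, hk⟩ := P.2.exists_card_eq
    rw [hk]
    have hk2 : k < 2 := by
      by_contra h
      exact hp ((pow_two p ▸ pow_dvd_pow p (by omega : 2 ≤ k)).trans (hk ▸ Subgroup.card_subgroup_dvd_card _))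
    calc p ^ k ≤ p ^ 1 := Nat.pow_le_pow_right (Fact.out : p.Prime).pos (by omega)
      _ = p := pow_one p)).symm
  refine CfsgLib.SmallGroups.not_normalizer_le_centralizer hna (hx ▸ orderOf_dvd_natCard x) P ?_
  rw [hPe, hcle, heq]

omit hH in
/-- The normalizer orbit of the base point lies among the fixed points. -/
theorem fix_orbit {x : G} (hx : x ∈ H) {c : ℕ}
    (hc : Nat.card (normalizer ((zpowers x : Subgroup G) : Set G)) = c)
    (h24 : Nat.card (normalizer ((zpowers x : Subgroup G) : Set G) ⊓ H : Subgroup G) * 24 = c)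
    (hH' : H.index = 24) : x = 1 := by
  classical
  haveI : Fintype (G ⧸ H) := Fintype.ofFinite _
  set N := normalizer ((zpowers x : Subgroup G) : Set G) with hN
  set a : G ⧸ H := ((1 : G) : G ⧸ H) with ha
  have hst : Nat.card (MulAction.stabilizer N a) = Nat.card (N ⊓ H : Subgroup G) :=
    Nat.card_congr
      { toFun := fun g => ⟨((g : N) : G), (g : N).2, (mem_iff_fix H _).1 g.2⟩
        invFun := fun g => ⟨⟨g, g.2.1⟩, (mem_iff_fix H _).2 g.2.2⟩
        left_inv := fun _ => rfl
        right_inv := fun _ => rfl }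
  have h := (MulAction.stabilizer N a).card_mul_index
  rw [MulAction.index_stabilizer, hst, hc, ← h24] at h
  have horb : (MulAction.orbit N a).ncard = 24 := mul_left_cancel₀ Nat.card_pos.ne' h
  have huniv : MulAction.orbit N a = Set.univ := by
    refine (Set.eq_univ_iff_ncard _).2 ?_
    rw [horb, ← Subgroup.index, hH']
  refine act_injective hL H hH' (Equiv.ext fun p => ?_)
  obtain ⟨g, rfl⟩ : p ∈ MulAction.orbit N a := huniv ▸ Set.mem_univ p
  show x • (g : G) • a = (1 : G) • (g : G) • a
  rw [one_smul]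
  have hgx : (g : G)⁻¹ * x * (g : G) ∈ zpowers x := by
    have h2 := (inv_mem g.2 x).1 (mem_zpowers x)
    rwa [inv_inv] at h2
  have h3 : ((g : G)⁻¹ * x * (g : G)) • a = a := (mem_iff_fix H _).2 (zpowers_le.2 hx hgx)
  rw [mul_smul, mul_smul, inv_smul_eq_iff] at h3
  exact h3

/-- The stabiliser has the local facts. -/
theorem stab_local (hE : Extra G) : CfsgLib.MTwentyThreeUnique.Local H := by
  classical
  haveI : Fintype G := Fintype.ofFinite G
  haveI : Fact (Nat.Prime 2) := ⟨Nat.prime_two⟩
  haveI : Fact (Nat.Prime 5) := ⟨by norm_num⟩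
  haveI : Fact (Nat.Prime 7) := ⟨by norm_num⟩
  haveI : Fact (Nat.Prime 11) := ⟨by norm_num⟩
  haveI : Fact (Nat.Prime 23) := ⟨by norm_num⟩
  have hcard := card_stab hL H hH
  have hsq : ∀ p ∈ [5, 7, 11, 23], ¬ p * p ∣ Nat.card G ∧ ¬ p * p ∣ Nat.card H := fun p hp => by
    rw [hL.card, hcard]; fin_cases hp <;> norm_num
  refine ⟨hcard, stab_simple hL H hH, fun x hx => ?_, fun x hx => ?_, fun x hx => ?_, fun x hx => ?_⟩
  all_goals have hxG := (Subgroup.orderOf_coe x).trans hx
  all_goals obtain ⟨eC, eN⟩ := card_in_stab H x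
  all_goals rw [eC, eN]
  all_goals set A := centralizer ({(x : G)} : Set G) with hA
  all_goals set B := normalizer ((zpowers (x : G) : Subgroup G) : Set G) with hB
  all_goals have hxA : zpowers (x : G) ≤ A ⊓ H := le_inf (zpowers_le.2 (mem_centralizer_singleton_iff.2 rfl)) (zpowers_le.2 x.2)
  all_goals have h1 := card_dvd_of_le (inf_le_left : B ⊓ H ≤ B)
  all_goals have h2 := card_dvd_of_le (inf_le_left : A ⊓ H ≤ A)
  all_goals have h3 := card_dvd_of_le hxA
  all_goals have h4 := card_dvd_of_le (le_inf Subgroup.le_normalizer (zpowers_le.2 x.2) : zpowers (x : G) ≤ B ⊓ H)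
  all_goals rw [Nat.card_zpowers, hxG] at h3 h4
  · rw [(hL.twentyThree _ hxG).1] at h2
    rw [(hL.twentyThree _ hxG).2] at h1
    refine ⟨Nat.dvd_antisymm h2 h3, ?_⟩
    obtain ⟨N, hN, -, hmod⟩ := sylow_congr H (hsq 23 (by simp)).1 x.2 hxG
    rw [hN, hcard] at hmod
    refine cong_lists.1 _ ?_ hmod
    have hd : Nat.card (B ⊓ H : Subgroup G) ∈ Nat.divisors 253 := Nat.mem_divisors.2 ⟨h1, by norm_num⟩
    rw [show Nat.divisors 253 = {1, 11, 23, 253} by decide +kernel] at hd
    simp only [Finset.mem_insert, Finset.mem_singleton, List.mem_cons, List.not_mem_nil, or_false] at hd ⊢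
    omega
  · rw [(hL.eleven _ hxG).1] at h2
    rw [(hL.eleven _ hxG).2] at h1
    refine ⟨Nat.dvd_antisymm h2 h3, ?_⟩
    obtain ⟨N, hN, -, hmod⟩ := sylow_congr H (hsq 11 (by simp)).1 x.2 hxG
    rw [hN, hcard] at hmod
    refine cong_lists.2.1 _ ?_ hmod
    have hd : Nat.card (B ⊓ H : Subgroup G) ∈ Nat.divisors 110 := Nat.mem_divisors.2 ⟨h1, by norm_num⟩
    rw [show Nat.divisors 110 = {1, 2, 5, 10, 11, 22, 55, 110} by decide +kernel] at hd
    simp only [Finset.mem_insert, Finset.mem_singleton, List.mem_cons, List.not_mem_nil, or_false] at hd ⊢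
    omega
  · rw [(hL.seven _ hxG).1] at h2
    rw [(hL.seven _ hxG).2] at h1
    obtain ⟨N, hN, hNd, hmod⟩ := sylow_congr H (hsq 7 (by simp)).1 x.2 hxG
    rw [hN, hcard] at hmod hNd
    have hB42 : Nat.card (B ⊓ H : Subgroup G) = 42 := cong_lists.2.2.1 _
      (dvd_lists.2.1 _ (List.mem_range.2 (by have := Nat.le_of_dvd (by norm_num) h1; omega))
        (Nat.mod_eq_zero_of_dvd h1) (Nat.mod_eq_zero_of_dvd h4)) (Nat.mod_eq_zero_of_dvd hNd) hmod
    refine ⟨?_, hB42⟩
    have hne := card_normalizer_ne hL H hH (hsq 7 (by simp)).2 hx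
    rw [eC, eN, hB42] at hne
    have hd : Nat.card (A ⊓ H : Subgroup G) ∈ Nat.divisors 42 := Nat.mem_divisors.2 ⟨h2, by norm_num⟩
    rw [show Nat.divisors 42 = {1, 2, 3, 6, 7, 14, 21, 42} by decide +kernel] at hd
    simp only [Finset.mem_insert, Finset.mem_singleton] at hd
    suffices h7 : 2 ∣ Nat.card (A ⊓ H : Subgroup G) by omega
    obtain ⟨gg, hgg⟩ := exists_prime_orderOf_dvd_card' (G := (B ⊓ H : Subgroup G)) 2
      (by rw [hB42]; norm_num)
    obtain ⟨g, rfl⟩ : ∃ g, g = (gg : G) := ⟨_, rfl⟩
    have hg : orderOf (gg : G) = 2 := (Subgroup.orderOf_coe gg).trans hgg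
    have hgB : (gg : G) ∈ B := gg.2.1
    have hgH : (gg : G) ∈ H := gg.2.2
    have hgA : (gg : G) ∈ A := by
      have hle : A ≤ B := by
        rw [hA, hB, ← centralizer_closure, ← zpowers_eq_closure]
        exact CfsgLib.SmallGroups.centralizer_le_normalizer' _
      haveI : (A.subgroupOf B).Normal := by
        rw [hA, hB, ← centralizer_closure, ← zpowers_eq_closure]; infer_instance
      have hidx : (A.subgroupOf B).index = 3 := by
        have h := (A.subgroupOf B).card_mul_index
        rw [Nat.card_congr (subgroupOfEquivOfLe hle).toEquiv, (hL.seven _ hxG).1, (hL.seven _ hxG).2] at h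
        omega
      have h := (A.subgroupOf B).pow_index_mem ⟨(gg : G), hgB⟩
      rw [hidx, mem_subgroupOf] at h
      have h2g : (gg : G) * (gg : G) = 1 := by rw [← pow_two, ← hg]; exact pow_orderOf_eq_one (gg : G)
      simpa [pow_succ, h2g] using h
    have := Subgroup.orderOf_dvd_natCard (s := A ⊓ H) ⟨hgA, hgH⟩
    rwa [hg] at this
  · rw [(hL.five _ hxG).1] at h2
    rw [(hL.five _ hxG).2] at h1
    obtain ⟨N, hN, hNd, hmod⟩ := sylow_congr H (hsq 5 (by simp)).1 x.2 hxG
    rw [hN, hcard] at hmod hNd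
    have hB60 : Nat.card (B ⊓ H : Subgroup G) = 60 := by
      refine (cong_lists.2.2.2 _ (dvd_lists.1 _ (List.mem_range.2 (by have := Nat.le_of_dvd (by norm_num) h1; omega))
        (Nat.mod_eq_zero_of_dvd h1) (Nat.mod_eq_zero_of_dvd h4)) (Nat.mod_eq_zero_of_dvd hNd) hmod).resolve_left
        fun h10 => ?_
      have hx1 := fix_orbit hL H x.2 (hL.five _ hxG).2 (by rw [← hB, h10]) hH
      rw [hx1, orderOf_one] at hxG
      norm_num at hxG
    refine ⟨?_, hB60⟩
    have hne := card_normalizer_ne hL H hH (hsq 5 (by simp)).2 hx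
    rw [eC, eN, hB60] at hne
    have h60 : 60 ∣ (5 - 1) * Nat.card (A ⊓ H : Subgroup G) := by
      rw [← eC, ← hB60, ← eN]
      have := CfsgLib.SmallGroups.card_normalizer_dvd_of_card_prime (P := (zpowers x : Subgroup H)) (p := 5)
        (by rw [Nat.card_zpowers, hx])
      rwa [zpowers_eq_closure, centralizer_closure, ← zpowers_eq_closure] at this
    have hd : Nat.card (A ⊓ H : Subgroup G) ∈ Nat.divisors 60 := Nat.mem_divisors.2 ⟨h2, by norm_num⟩
    rw [show Nat.divisors 60 = {1, 2, 3, 4, 5, 6, 10, 12, 15, 20, 30, 60} by decide +kernel] at hd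
    simp only [Finset.mem_insert, Finset.mem_singleton] at hd
    suffices h30 : Nat.card (A ⊓ H : Subgroup G) ≠ 30 by omega
    intro h30
    obtain ⟨D, hD⟩ := exists_fiveData_at hL hE hxG
    set K := (A ⊓ H).subgroupOf A with hK
    have hKi : K.index = 2 := by
      have h := K.card_mul_index
      have hA60 : Nat.card A = 60 := (hL.five _ hxG).1
      rw [Nat.card_congr (subgroupOfEquivOfLe (inf_le_left : A ⊓ H ≤ A)).toEquiv, h30, hA60] at h
      omega
    haveI : K.Normal := Subgroup.normal_of_index_eq_two hKi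
    have hmA : ∀ g, Commute D.y g → g ∈ A := fun g hg => mem_centralizer_singleton_iff.2 (hD ▸ hg.eq.symm)
    have hsH : D.s ∈ A ⊓ H := by
      have h := K.pow_index_mem ⟨D.s * D.s, hmA _ (D.ys.mul_right D.ys)⟩
      rw [hKi, mem_subgroupOf, SubmonoidClass.coe_pow] at h
      rwa [show (D.s * D.s) ^ 2 = D.s ^ 3 * D.s by simp only [pow_succ, pow_zero, one_mul, mul_assoc],
        D.alt.s3, one_mul] at h
    obtain ⟨⟨k, hk⟩, hko⟩ := exists_prime_orderOf_dvd_card' (G := (A ⊓ H : Subgroup G)) 2 (by rw [h30]; norm_num)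
    rw [Subgroup.orderOf_mk] at hko
    have hk2 : k ^ 2 = 1 := hko ▸ pow_orderOf_eq_one k
    obtain ⟨i, j, b, hdec⟩ := D.dec k (hD.symm ▸ (show Commute k (x : G) from mem_centralizer_singleton_iff.1 hk.1).symm)
    have hcomm : Commute (D.y ^ (i : ℕ)) (four D.v D.s j * D.s ^ (b : ℕ)) :=
      ((D.yfour j).mul_right (D.ys.pow_right _)).pow_left _
    have hi : (i : ℕ) = 0 := by
      have h6 : k ^ 6 = 1 := by rw [show 6 = 2 * 3 from rfl, pow_mul, hk2, one_pow]
      rw [hdec, hcomm.mul_pow, D.six, mul_one, ← pow_mul] at h6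
      have := orderOf_dvd_of_pow_eq_one h6
      rw [D.hy] at this
      have := i.2
      omega
    rw [hi, pow_zero, one_mul] at hdec
    have hb : (b : ℕ) = 0 := by
      by_contra hb0
      have h3 : k ^ 3 = 1 := by
        rw [hdec]
        have hlt := b.2
        rcases (show (b : ℕ) = 1 ∨ (b : ℕ) = 2 by omega) with e | e <;> rw [e]
        · rw [pow_one]; exact (D.alt.cube j).1
        · rw [pow_two]; exact (D.alt.cube j).2
      have := orderOf_dvd_of_pow_eq_one h3
      rw [hko] at this
      norm_num at this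
    rw [hb, pow_zero, mul_one] at hdec
    subst hdec
    have hj0 : j ≠ 0 := by
      rintro rfl
      rw [show four D.v D.s 0 = 1 from rfl, orderOf_one] at hko
      norm_num at hko
    have hσ : ∀ l, four D.v D.s l ∈ A ⊓ H → four D.v D.s ((![0, 2, 3, 1] : Fin 4 → Fin 4) l) ∈ A ⊓ H :=
      fun l hl => by
        rw [← D.alt.four_conj]
        exact mul_mem (mul_mem hsH hl) (inv_mem hsH)
    have e2 := hσ _ hk
    have e3 := hσ _ e2
    have hall : ∀ l, four D.v D.s l ∈ A ⊓ H := by
      fin_cases j <;> simp at e2 e3 hk hj0 <;> intro l <;> fin_cases l <;>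
        first | exact one_mem _ | assumption | exact ⟨by assumption, by assumption⟩ |
          (simp only [Subgroup.mem_inf]; tauto)
    have hle : D.alt.sub ≤ A ⊓ H := by
      rintro _ ⟨l, rfl⟩
      exact hall l
    have h4 : Nat.card D.alt.sub = 4 := by
      rw [← Nat.card_eq_of_bijective (fun l => (⟨four D.v D.s l, l, rfl⟩ : D.alt.sub))
        ⟨fun a b e => D.alt.four_inj (congrArg Subtype.val e), fun ⟨_, l, hl⟩ => ⟨l, Subtype.ext hl⟩⟩]
      simp
    have := card_dvd_of_le hle
    rw [h4, h30] at this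
    norm_num at this

end CfsgLib.MTwentyFourUnique
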