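import Cfsg.Agent.Lib.Blocks.GaloisInv
import Cfsg.Agent.Lib.Char.Integral
import Cfsg.Agent.Lib.MTwentyThreeUnique.Eight
import Mathlib

/-!
Averages of a character against a linear character of a subgroup centralised by an element, and congruences
modulo a maximal ideal of the algebraic integers.
-/

set_option autoImplicit false

noncomputable section

namespace CfsgLib.MTwentyFourUnique

open Subgroup Cfsg
open scoped ComplexConjugate

section Cong

variable {M : Ideal AlgInt} {p : ℕ}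

/-- Congruence of complex numbers modulo `M`. -/
def Cg (M : Ideal AlgInt) (a b : ℂ) : Prop := ∃ c : AlgInt, c ∈ M ∧ (c : ℂ) = a - b

theorem Cg.refl (a : ℂ) : Cg M a a := ⟨0, M.zero_mem, by simp⟩

theorem Cg.symm {a b : ℂ} (h : Cg M a b) : Cg M b a := by
  obtain ⟨c, hc, e⟩ := h
  exact ⟨-c, M.neg_mem hc, by push_cast; rw [e]; ring⟩

theorem Cg.trans {a b c : ℂ} (h : Cg M a b) (h' : Cg M b c) : Cg M a c := by
  obtain ⟨u, hu, e⟩ := h
  obtain ⟨v, hv, e'⟩ := h'
  exact ⟨u + v, M.add_mem hu hv, by push_cast; rw [e, e']; ring⟩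

theorem Cg.add {a b a' b' : ℂ} (h : Cg M a b) (h' : Cg M a' b') : Cg M (a + a') (b + b') := by
  obtain ⟨u, hu, e⟩ := h
  obtain ⟨v, hv, e'⟩ := h'
  exact ⟨u + v, M.add_mem hu hv, by push_cast; rw [e, e']; ring⟩

theorem Cg.sub {a b a' b' : ℂ} (h : Cg M a b) (h' : Cg M a' b') : Cg M (a - a') (b - b') := by
  obtain ⟨u, hu, e⟩ := h
  obtain ⟨v, hv, e'⟩ := h'
  exact ⟨u - v, M.sub_mem hu hv, by push_cast; rw [e, e']; ring⟩

theorem Cg.mul_left {a b : ℂ} {z : ℂ} (hz : IsIntegral ℤ z) (h : Cg M a b) : Cg M (z * a) (z * b) := by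
  obtain ⟨u, hu, e⟩ := h
  exact ⟨⟨z, hz⟩ * u, M.mul_mem_left _ hu, by push_cast; rw [e]; ring⟩

theorem Cg.sum {ι : Type*} (s : Finset ι) {f g : ι → ℂ} (h : ∀ i ∈ s, Cg M (f i) (g i)) :
    Cg M (∑ i ∈ s, f i) (∑ i ∈ s, g i) := by
  classical
  induction s using Finset.induction_on with
  | empty => simpa using Cg.refl (M := M) 0
  | insert a s ha ih =>
    rw [Finset.sum_insert ha, Finset.sum_insert ha]
    exact (h a (Finset.mem_insert_self a s)).add (ih fun i hi => h i (Finset.mem_insert_of_mem hi))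

theorem cg_int_iff (hM : IsPModular p M) (a b : ℤ) : Cg M (a : ℂ) (b : ℂ) ↔ (p : ℤ) ∣ a - b := by
  constructor
  · rintro ⟨c, hc, e⟩
    refine (CfsgLib.Blocks.intCast_mem_iff hM (a - b)).1 ?_
    rw [show ((a - b : ℤ) : AlgInt) = c from Subtype.ext (by push_cast; exact e.symm)]
    exact hc
  · intro h
    exact ⟨((a - b : ℤ) : AlgInt), (CfsgLib.Blocks.intCast_mem_iff hM _).2 h, by push_cast; rfl⟩

theorem Cg.mul_eq_zero (hM : IsPModular p M) {a b : ℂ} (ha : IsIntegral ℤ a) (hb : IsIntegral ℤ b)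
    (h : Cg M (a * b) 0) : Cg M a 0 ∨ Cg M b 0 := by
  obtain ⟨c, hc, e⟩ := h
  rw [sub_zero] at e
  have : (⟨a, ha⟩ : AlgInt) * ⟨b, hb⟩ ∈ M := by
    rw [show (⟨a, ha⟩ : AlgInt) * ⟨b, hb⟩ = c from Subtype.ext (by push_cast; exact e.symm)]
    exact hc
  exact (hM.2.1.isPrime.mem_or_mem this).imp (fun h => ⟨_, h, by simp⟩) fun h => ⟨_, h, by simp⟩

theorem isIntegral_root {z : ℂ} {n : ℕ} (hn : 0 < n) (hz : z ^ n = 1) : IsIntegral ℤ z :=
  IsIntegral.of_pow hn (hz ▸ isIntegral_one)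

theorem cg_root (hM : IsPModular p M) {z : ℂ} (hz : z ^ p = 1) : Cg M z 1 := by
  have hp := hM.1
  let a : AlgInt := ⟨z, isIntegral_root hp.pos hz⟩
  obtain ⟨r, hr⟩ := exists_add_pow_prime_eq hp (a - 1) 1
  rw [sub_add_cancel, one_pow] at hr
  have ha : a ^ p = 1 := Subtype.ext (by push_cast; exact hz)
  rw [ha] at hr
  have h : (a - 1) ^ p ∈ M := by
    have e : (a - 1) ^ p = -((p : AlgInt) * ((a - 1) * 1 * r)) := by linear_combination -hr
    rw [e]
    exact M.neg_mem (M.mul_mem_right _ hM.2.2)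
  exact ⟨a - 1, hM.2.1.isPrime.mem_of_pow_mem p h, by push_cast; rfl⟩

end Cong

variable {G : Type*} [Group G] [Fintype G]

/-- Average of `χ (g h)` against `μ⁻¹` over `H`. -/
def avg (χ : G → ℂ) (H : Subgroup G) [Fintype H] (μ : H →* ℂ) (g : G) : ℂ :=
  (Fintype.card H : ℂ)⁻¹ * ∑ h : H, χ (g * h) * μ h⁻¹

/-- The averages at the powers of an element centralising `H` are power sums of roots of unity. -/
theorem exists_roots_avg {χ : G → ℂ} (hχ : IsCharacter G χ) (H : Subgroup G) [Fintype H] (μ : H →* ℂ)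
    (g : G) (hg : ∀ h : H, Commute g (h : G)) :
    ∃ (m : ℕ) (z : Fin m → ℂ), (∀ i, z i ^ orderOf g = 1) ∧
      ∀ k : ℕ, avg χ H μ (g ^ k) = ∑ i, z i ^ k := by
  classical
  obtain ⟨n, ρ, rfl⟩ := hχ
  set P : Module.End ℂ (Fin n → ℂ) := (Fintype.card H : ℂ)⁻¹ • ∑ h : H, μ h⁻¹ • ρ (h : G) with hP
  have habs : ∀ k : H, ρ (k : G) * P = μ k • P := fun k => by
    have hk1 : μ k * μ k⁻¹ = 1 := by rw [← map_mul, mul_inv_cancel, map_one]
    have inner : ρ (k : G) * ∑ h : H, μ h⁻¹ • ρ (h : G) = μ k • ∑ h : H, μ h⁻¹ • ρ (h : G) := by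
      rw [Finset.mul_sum, Finset.smul_sum]
      refine Fintype.sum_equiv (Equiv.mulLeft k) _ _ fun h => ?_
      simp only [Equiv.coe_mulLeft, mul_smul_comm, Subgroup.coe_mul, mul_inv_rev, map_mul, smul_smul]
      rw [show μ k * (μ h⁻¹ * μ k⁻¹) = μ h⁻¹ by linear_combination (μ h⁻¹) * hk1]
    rw [hP, mul_smul_comm, inner, smul_comm]
  have hcard : (Fintype.card H : ℂ) ≠ 0 := by exact_mod_cast Fintype.card_pos.ne'
  have hidem : P * P = P := by
    conv_lhs => arg 1; rw [hP]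
    rw [smul_mul_assoc, Finset.sum_mul, Finset.sum_congr rfl (g := fun _ => P) fun h _ => by
      rw [smul_mul_assoc, habs, smul_smul, ← map_mul, inv_mul_cancel, map_one, one_smul]]
    rw [Finset.sum_const, Finset.card_univ, ← Nat.cast_smul_eq_nsmul ℂ, smul_smul,
      inv_mul_cancel₀ hcard, one_smul]
  have hcomm : ∀ a ∈ zpowers g, Commute (ρ a) P := fun a ha => by
    rw [hP]
    refine Commute.smul_right (Commute.sum_right _ _ _ fun h _ => Commute.smul_right ?_ _) _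
    obtain ⟨i, rfl⟩ := mem_zpowers_iff.1 ha
    exact ((hg h).zpow_left i).map ρ
  let W : Submodule ℂ (Fin n → ℂ) := LinearMap.range P
  have hW : ∀ a : zpowers g, ∀ w ∈ W, ρ (a : G) w ∈ W := by
    rintro a w ⟨v, rfl⟩
    exact ⟨ρ (a : G) v, by
      rw [← Module.End.mul_apply, ← Module.End.mul_apply, (hcomm _ a.2).eq]⟩
  have hid : ∀ w ∈ W, P w = w := by
    rintro w ⟨v, rfl⟩
    rw [← Module.End.mul_apply, hidem]
  let σ : Representation ℂ (zpowers g) W :=
    { toFun := fun a => (ρ (a : G)).restrict (hW a)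
      map_one' := LinearMap.ext fun w => Subtype.ext (by simp)
      map_mul' := fun a b => LinearMap.ext fun w => Subtype.ext (by simp) }
  obtain ⟨z, hz, hsum⟩ := CfsgLib.Char.exists_roots_char_pow σ (⟨g, mem_zpowers g⟩ : zpowers g)
  refine ⟨_, z, fun i => ?_, fun k => ?_⟩
  · have h := hz i
    rwa [Subgroup.orderOf_mk] at h
  rw [← hsum k]
  have hk : ∀ w : Fin n → ℂ, (ρ (g ^ k) * P) w ∈ W := fun w =>
    hW ⟨g ^ k, npow_mem_zpowers g k⟩ _ ⟨w, rfl⟩
  have e : σ ((⟨g, mem_zpowers g⟩ : zpowers g) ^ k) = (ρ (g ^ k) * P).restrict fun w _ => hk w :=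
    LinearMap.ext fun w => Subtype.ext (by
      show ρ (((⟨g, mem_zpowers g⟩ : zpowers g) ^ k : zpowers g) : G) (w : Fin n → ℂ) = (ρ (g ^ k) * P) w
      rw [Module.End.mul_apply, hid _ w.2]
      simp)
  unfold Representation.character
  rw [e, LinearMap.trace_restrict_eq_of_forall_mem _ _ hk, hP, mul_smul_comm, map_smul, Finset.mul_sum,
    map_sum, smul_eq_mul]
  unfold avg
  congr 1
  refine Finset.sum_congr rfl fun h _ => ?_
  rw [mul_smul_comm, map_smul, smul_eq_mul, ← map_mul, mul_comm]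

/-- The value at a product with a commuting element of order dividing `p` is congruent to the value. -/
theorem char_cg {M : Ideal AlgInt} {p : ℕ} (hM : IsPModular p M) {χ : G → ℂ} (hχ : IsCharacter G χ)
    {x h : G} (hx : x ^ p = 1) (hxh : Commute x h) (hh : ¬ p ∣ orderOf h) : Cg M (χ (x * h)) (χ h) := by
  have hp := hM.1
  set m := orderOf h with hm
  obtain ⟨n, ρ, rfl⟩ := hχ
  obtain ⟨z, hz, hsum⟩ := CfsgLib.Char.exists_roots_char_pow ρ (x * h)
  obtain ⟨a₀, h0, h1⟩ := Nat.chineseRemainder (hp.coprime_iff_not_dvd.2 hh) 0 1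
  set a := a₀ + p * m with ha
  have hm0 : 0 < m := orderOf_pos h
  have hpm : 0 < p * m := Nat.mul_pos hp.pos hm0
  have hap : p ∣ a := dvd_add (Nat.modEq_zero_iff_dvd.1 h0) (dvd_mul_right p m)
  have ham : m ∣ a - 1 := (Nat.modEq_iff_dvd' (by omega)).1 (by
    have h2 : p * m ≡ 0 [MOD m] := Nat.modEq_zero_iff_dvd.2 (dvd_mul_left m p)
    simpa [ha] using (h1.add h2).symm)
  have e2 : (x * h) ^ (p * m) = 1 := by
    rw [hxh.mul_pow, pow_mul, hx, one_pow, one_mul, mul_comm, pow_mul, hm, pow_orderOf_eq_one, one_pow]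
  have eh : (x * h) ^ a = h := by
    obtain ⟨c, hc⟩ := hap
    obtain ⟨q, hq⟩ := ham
    rw [hxh.mul_pow, hc, pow_mul, hx, one_pow, one_mul, ← hc, show a = m * q + 1 by omega, pow_succ,
      pow_mul, hm, pow_orderOf_eq_one, one_pow, one_mul]
  have e1 := hsum 1
  have ea := hsum a
  rw [pow_one] at e1
  rw [eh] at ea
  rw [e1, ea]
  refine Cg.sum _ fun i _ => ?_
  obtain ⟨q, hq⟩ := ham
  have hd := orderOf_dvd_of_pow_eq_one e2
  obtain ⟨c, hc⟩ := hd
  have hr : (z i ^ (a - 1)) ^ p = 1 := by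
    rw [hq, ← pow_mul, show m * q * p = p * m * q by ring, hc, mul_assoc, pow_mul, hz i, one_pow]
  have h2 := (cg_root hM hr).symm.mul_left (isIntegral_root (orderOf_pos _) (hz i))
  rw [mul_one, ← pow_succ'] at h2
  rwa [show a - 1 + 1 = a by omega, ← pow_one (z i), ← pow_mul, one_mul] at h2

/-- The eigenvalue of a class sum. -/
def omega (χ : IrrCharacter G) (k : G) : ℂ :=
  (Nat.card {x : G // IsConj k x} : ℂ) * (χ : G → ℂ) k / (χ : G → ℂ) 1

theorem isIntegral_omega (χ : IrrCharacter G) (k : G) : IsIntegral ℤ (omega χ k) :=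
  CfsgLib.Char.isIntegral_classSize_mul_div χ.2 k

/-- Modulo `M` a class sum is seen on the members commuting with an element of order dividing `p`. -/
theorem class_cg {M : Ideal AlgInt} {p : ℕ} (hM : IsPModular p M) (χ : IrrCharacter G) {x : G}
    (hx : x ^ p = 1) (k₀ : G) (S : Finset G) (hS : ∀ k, k ∈ S ↔ IsConj k₀ k ∧ Commute x k) {h : G}
    (hh : Commute x h) : Cg M (omega χ k₀ * (χ : G → ℂ) h) (∑ k ∈ S, (χ : G → ℂ) (k * h)) := by
  classical
  haveI : Fact p.Prime := ⟨hM.1⟩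
  obtain ⟨n, ρ, hirr, hρ⟩ := χ.2
  haveI := hirr
  set K := Finset.univ.filter (IsConj k₀) with hK
  have hsum : omega χ k₀ * (χ : G → ℂ) h = ∑ k ∈ K, (χ : G → ℂ) (k * h) := by
    have h1 := congrArg (fun T => LinearMap.trace ℂ (Fin n → ℂ) (T * ρ h))
      (CfsgLib.Char.classSum_eq_smul ρ k₀).1
    simp only [Finset.sum_mul, map_sum, ← map_mul, smul_mul_assoc, map_smul, smul_eq_mul] at h1
    rw [← Module.End.one_eq_id, one_mul] at h1
    unfold omega
    rw [← hρ, show ρ.character 1 = (Module.finrank ℂ (Fin n → ℂ) : ℂ) from Representation.char_one ρ]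
    exact h1.symm
  rw [hsum]
  have hSK : S ⊆ K := fun k hk => Finset.mem_filter.2 ⟨Finset.mem_univ k, ((hS k).1 hk).1⟩
  rw [← Finset.sum_sdiff hSK]
  suffices h0 : Cg M (∑ k ∈ K \ S, (χ : G → ℂ) (k * h)) 0 by
    have h2 := h0.add (Cg.refl (∑ k ∈ S, (χ : G → ℂ) (k * h)))
    rwa [zero_add] at h2
  set f : G → ℂ := fun k => (χ : G → ℂ) (k * h) with hf
  have hinv : ∀ k, f (x * k * x⁻¹) = f k := fun k => by
    simp only [hf]
    rw [show x * k * x⁻¹ * h = x * (k * h) * x⁻¹ by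
      rw [mul_assoc (x * k), show x⁻¹ * h = h * x⁻¹ from hh.inv_left.eq]; simp [mul_assoc]]
    exact CfsgLib.Char.isClassFunction_of_isIrr χ.2 (k * h) x
  rw [← Finset.sum_fiberwise_of_maps_to (s := K \ S) (t := (K \ S).image f)
    (fun k hk => Finset.mem_image_of_mem f hk), ← Finset.sum_const_zero (s := (K \ S).image f)]
  refine Cg.sum _ fun v hv => ?_
  obtain ⟨k, -, rfl⟩ := Finset.mem_image.1 hv
  set F := (K \ S).filter fun j => f j = f k with hF
  rw [Finset.sum_congr rfl fun j hj => (Finset.mem_filter.1 hj).2, Finset.sum_const, nsmul_eq_mul]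
  have hmem : ∀ j, j ∈ F → x * j * x⁻¹ ∈ F := fun j hj => by
    simp only [hF, hK, Finset.mem_filter, Finset.mem_sdiff, Finset.mem_univ, true_and, hS] at hj ⊢
    refine ⟨⟨hj.1.1.trans (isConj_iff.2 ⟨x, rfl⟩), fun hb => hj.1.2 ⟨hj.1.1, ?_⟩⟩,
      (hinv j).trans hj.2⟩
    have h3 := hb.2
    show x * j = j * x
    exact mul_right_cancel (b := x⁻¹) (by
      rw [show j * x * x⁻¹ = j by group]
      have h4 : x * (x * j * x⁻¹) = x * j * x⁻¹ * x := h3.eq
      rw [show x * j * x⁻¹ * x = x * j by group] at h4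
      exact mul_left_cancel h4)
  let σ : Equiv.Perm F := Equiv.ofBijective (fun j => ⟨x * j * x⁻¹, hmem j j.2⟩)
    (Finite.injective_iff_bijective.1 fun a b e =>
      Subtype.ext (mul_left_cancel (mul_right_cancel (congrArg Subtype.val e))))
  have hit : ∀ (i : ℕ) (j : F), ((σ ^ i) j : G) = x ^ i * j * (x ^ i)⁻¹ := by
    intro i
    induction i with
    | zero => simp
    | succ i ih =>
      intro j
      rw [pow_succ', Equiv.Perm.mul_apply]
      show x * ((σ ^ i) j : G) * x⁻¹ = _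
      rw [ih, pow_succ']
      group
  have hmod := CfsgLib.KnownSimple.Order7920.perm_fixed_modEq σ
    (Equiv.ext fun j => Subtype.ext (by rw [hit, hx]; simp) : σ ^ p = 1)
  have hempty : IsEmpty {j : F // σ j = j} := ⟨fun j => by
    have hj := (Finset.mem_filter.1 j.1.2).1
    rw [Finset.mem_sdiff] at hj
    exact hj.2 ((hS _).2 ⟨(Finset.mem_filter.1 hj.1).2,
      mul_inv_eq_iff_eq_mul.1 (congrArg Subtype.val j.2)⟩)⟩
  rw [Nat.card_of_isEmpty (α := {j : F // σ j = j}), Nat.card_eq_fintype_card, Fintype.card_coe] at hmod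
  have hc : Cg M ((F.card : ℤ) : ℂ) ((0 : ℤ) : ℂ) :=
    (cg_int_iff hM _ _).2 (by rw [sub_zero]; exact_mod_cast Nat.modEq_zero_iff_dvd.1 hmod)
  push_cast at hc
  have h5 := hc.mul_left (CfsgLib.Char.char_isIntegral (CfsgLib.Char.isCharacter_of_isIrr χ.2) (k * h))
  rw [mul_zero, mul_comm] at h5
  exact h5

end CfsgLib.MTwentyFourUnique
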