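import Cfsg.Agent.Lib.MTwentyFourUnique.Search
import Mathlib

/-!
The consequences of the search for unordered row sets.
-/

set_option autoImplicit false

namespace CfsgLib.MTwentyFourUnique.Search

theorem keyOf_perm (L : List ℕ) {l l' : List ℕ} (h : l.Perm l') : keyOf L l = keyOf L l' :=
  (h.map _).sum_eq

theorem maskOf_perm (L : List ℕ) {l l' : List ℕ} (h : l.Perm l') : maskOf L l = maskOf L l' :=
  (h.map _).foldr_eq (lcomm := ⟨fun a b c => by show a ||| (b ||| c) = b ||| (a ||| c); rw [← Nat.or_assoc, Nat.or_comm a b, Nat.or_assoc]⟩) 0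

theorem sq7_perm {l l' : List ℕ} (h : l.Perm l') : sq7 l = sq7 l' := (h.map _).sum_eq

theorem inP_perm {l l' : List ℕ} (h : l.Perm l') : inP l = inP l' := by
  unfold inP; rw [maskOf_perm _ h, keyOf_perm _ h, sq7_perm h]

theorem inF_perm {l l' : List ℕ} (h : l.Perm l') : inF l = inF l' := by
  unfold inF; rw [keyOf_perm _ h, sq7_perm h]

theorem inW_perm {l l' : List ℕ} (h : l.Perm l') : inW l = inW l' := by
  unfold inW; rw [keyOf_perm ndA h, keyOf_perm ndB h, sq7_perm h]

theorem memPair_iff (L : List (ℕ × ℕ)) (a b : ℕ) : memPair L a b = true ↔ (a, b) ∈ L := by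
  induction L with
  | nil => simp [memPair]
  | cons e L ih =>
    rw [List.mem_cons, ← ih]
    show cond (Nat.beq e.1 a) (cond (Nat.beq e.2 b) true (memPair L a b)) (memPair L a b) = true ↔ _
    cases h1 : Nat.beq e.1 a with
    | false =>
      have : (a, b) ≠ e := fun h => Nat.ne_of_beq_eq_false h1 (by rw [← h])
      simp [this]
    | true =>
      cases h2 : Nat.beq e.2 b with
      | false =>
        have : (a, b) ≠ e := fun h => Nat.ne_of_beq_eq_false h2 (by rw [← h])
        simp [this]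
      | true => simp [← Nat.eq_of_beq_eq_true h1, ← Nat.eq_of_beq_eq_true h2]

theorem tot_perm (p φ : ℕ) {l l' : List ℕ} (h : l.Perm l') : tot p φ l = tot p φ l' := (h.map _).sum_eq

theorem sum7_perm (φ f : ℕ) (e : ℤ) {l l' : List ℕ} (h : l.Perm l') : sum7 φ l f e = sum7 φ l' f e := by
  have h3 : sum3 φ l = sum3 φ l' := (h.map _).sum_eq
  unfold sum7
  rw [h3, (h.map fun d => d * d).sum_eq, maskOf_perm _ (h.append_right [f, f]),
    keyOf_perm ndA (h.append_right [f, f]), keyOf_perm ndB (h.append_right [f, f])]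

theorem close5_eq (r : ℕ) (L : List ℕ) (P : List ℕ → Bool) (l : List ℕ) :
    ∀ (ds : List ℕ) (a b : ℕ), close5 r L P l ds a b =
      close5 r L P l [] (a + (ds.filter fun d => d % 5 == r).sum)
        (b + (ds.filter fun d => !(d % 5 == r)).sum) := by
  intro ds
  induction ds with
  | nil => intro a b; simp
  | cons d ds ih =>
    intro a b
    show cond (Nat.beq (d % 5) r) (close5 r L P l ds (a + d) b) (close5 r L P l ds a (b + d)) = _
    cases h : Nat.beq (d % 5) r with
    | true =>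
      have e : d % 5 = r := Nat.eq_of_beq_eq_true h
      simp [ih, List.filter_cons, e, add_assoc]
    | false =>
      have e : d % 5 ≠ r := Nat.ne_of_beq_eq_false h
      simp [ih, List.filter_cons, e, add_assoc]

theorem tot_eq (r : ℕ) (hr : r < 5) : ∀ l : List ℕ, tot 5 r l =
    (((l.filter fun d => d % 5 == r).sum : ℕ) : ℤ) - (((l.filter fun d => !(d % 5 == r)).sum : ℕ) : ℤ) := by
  intro l
  induction l with
  | nil => simp [tot]
  | cons d l ih =>
    have e : tot 5 r (d :: l) = sg 5 r d * (d : ℤ) + tot 5 r l := by simp [tot]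
    rw [e, ih, sg, Nat.mod_eq_of_lt hr]
    by_cases h : d % 5 = r
    · simp [List.filter_cons, h]; ring
    · simp [List.filter_cons, h]; ring

/-- A five-element row set passes the test. -/
theorem chk5_spec {r : ℕ} (hr : r < 5) {L first : List ℕ} {k : ℕ} {P : List ℕ → Bool}
    (hdvd : ∀ d ∈ L, G0 % d = 0) (hP : ∀ l l' : List ℕ, l.Perm l' → P l = P l')
    (h : chk5 r L first k P = true) (q : List ℕ) (hq : q.length = k) (hqL : ∀ d ∈ q, d ∈ L) {f : ℕ}
    (hf : f ∈ L) (hf0 : 0 < f) (ht : tot 5 r (f :: (q ++ first)) = 0) : P (f :: (q ++ first)) = true := by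
  obtain ⟨l, hl, hc⟩ := allPicks_spec _ k L first h (q : Multiset ℕ) (by simpa using hq) (by simpa using hqL)
  have hperm : l.Perm (q ++ first) := Multiset.coe_eq_coe.1 (by rw [hl, Multiset.coe_add])
  rw [hP _ _ (hperm.symm.cons f)]
  rw [tot_perm 5 r (hperm.symm.cons f), tot_eq r hr] at ht
  rw [close5_eq, Nat.zero_add, Nat.zero_add] at hc
  set A := (l.filter fun d => d % 5 == r).sum
  set B := (l.filter fun d => !(d % 5 == r)).sum
  replace hc : cond (Nat.blt A B) (fifth r L P l true (B - A))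
      (cond (Nat.blt B A) (fifth r L P l false (A - B)) true) = true := hc
  have hL : memB L f = true := (memB_iff L f).2 hf
  have hG : Nat.beq (G0 % f) 0 = true := by rw [hdvd f hf]; rfl
  by_cases e : f % 5 = r
  · have hAB : A + f = B := by simp [List.filter_cons, e, -Nat.cast_list_sum] at ht; omega
    have h1 : Nat.blt A B = true := by simp [Nat.blt_eq]; omega
    rw [h1, cond_true, show B - A = f by omega] at hc
    have h2 : (Nat.beq (f % 5) r == true) = true := by rw [e]; simp [Nat.beq_refl]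
    rwa [fifth, hG, h2, hL, cond_true, cond_true, cond_true] at hc
  · have hAB : B + f = A := by simp [List.filter_cons, e, -Nat.cast_list_sum] at ht; omega
    have h1 : Nat.blt A B = false := by
      cases h : Nat.blt A B with
      | true => simp [Nat.blt_eq] at h; omega
      | false => rfl
    have h1' : Nat.blt B A = true := by simp [Nat.blt_eq]; omega
    rw [h1, cond_false, h1', cond_true, show A - B = f by omega] at hc
    have h2 : (Nat.beq (f % 5) r == false) = true := by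
      cases h : Nat.beq (f % 5) r with
      | true => exact absurd (Nat.eq_of_beq_eq_true h) e
      | false => rfl
    rwa [fifth, hG, h2, hL, cond_true, cond_true, cond_true] at hc

/-- A two-element row set passes the test. -/
theorem chk5two_spec {φ : ℕ} {P : List ℕ → Bool} (h : chk5two φ P = true) {d : ℕ} (hd : d ∈ pool 5 (2 * φ))
    (hd2 : 2 * d ∈ pool 5 φ) : P [d, 2 * d] = true := by
  have := List.all_eq_true.1 h d hd
  simpa [hd2] using this

/-- A mixed row set passes the test. -/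
theorem chkW_spec (q : List ℕ) (hq : q.length = 2) (hqL : ∀ d ∈ q, d ∈ pool 5 2) {f : ℕ} {v : ℤ}
    (hf : f ∈ pool 5 1) (hf0 : 0 < f) (hv : v = if f % 5 = 1 then 1 else -1)
    (ht : tot 5 2 q + v * f = 0) : inW (q ++ [f, f]) = true := by
  obtain ⟨l, hl, hc⟩ := allPicks_spec _ 2 _ [] chk_W (q : Multiset ℕ) (by simpa using hq) (by simpa using hqL)
  have hperm : l.Perm q := Multiset.coe_eq_coe.1 (by rw [hl]; simp)
  rw [inW_perm (hperm.symm.append_right [f, f])]
  rw [tot_perm 5 2 hperm.symm] at ht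
  simp only [Bool.or_eq_true, Bool.not_eq_true', decide_eq_false_iff_not] at hc
  have hT : (tot 5 2 l).natAbs = f := by
    subst hv
    split_ifs at ht <;> omega
  rcases hc with hc | hc
  · refine absurd ⟨?_, by rw [hT]; exact hf, ?_⟩ hc
    · intro h0; rw [h0] at hT; simp at hT; omega
    · rw [hT]
      subst hv
      split_ifs at ht with e
      · exact ⟨fun _ => by omega, fun _ => e⟩
      · exact ⟨fun h => absurd h e, fun _ => by omega⟩
  · rwa [hT] at hc

/-- A row set at seven is in the table or has the excluded degree. -/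
theorem chk7_spec {φ : ℕ} (hφ : φ = 1 ∨ φ = 2) {first : List ℕ} {skip : Bool} {t : List S7}
    (h : chk7 φ first skip t = true) (q : List ℕ) (hq : q.length = 3 - first.length)
    (hqL : ∀ d ∈ q, d ∈ pool 7 φ) {f : ℕ} {e : ℤ} (he : e = 1 ∨ e = -1) (hf : f ∈ pool 7 (3 * φ))
    (hf0 : 0 < f) (hfe : (7 : ℤ) ∣ (f : ℤ) + 3 * e * φ) (ht : tot 7 φ (q ++ first) + e * f = 0) :
    (skip = true ∧ (23 ∈ q ++ first ∨ f = 23)) ∨ sum7 φ (q ++ first) f e ∈ t := by
  obtain ⟨l, hl, hc⟩ := allPicks_spec _ _ _ first h (q : Multiset ℕ) (by simpa using hq) (by simpa using hqL)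
  have hperm : l.Perm (q ++ first) := Multiset.coe_eq_coe.1 (by rw [hl, Multiset.coe_add])
  rw [← sum7_perm φ f e hperm]
  rw [tot_perm 7 φ hperm.symm] at ht
  have hT : (tot 7 φ l).natAbs = f := by rcases he with rfl | rfl <;> omega
  have hT0 : tot 7 φ l ≠ 0 := fun h0 => by rw [h0] at hT; simp at hT; omega
  have he' : (if 0 < tot 7 φ l then (-1 : ℤ) else 1) = e := by
    rcases he with rfl | rfl <;> split_ifs <;> omega
  simp only [Bool.or_eq_true, Bool.not_eq_true', Bool.and_eq_true, decide_eq_true_eq] at hc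
  rcases hc with (hc | ⟨hs, h23⟩) | hc
  · exfalso
    simp only [ok7, decide_eq_false_iff_not] at hc
    refine hc ⟨hT0, by rw [hT]; exact hf, ?_⟩
    rw [hT]
    rcases hφ with rfl | rfl <;> rcases he with rfl | rfl <;> split_ifs <;> omega
  · refine Or.inl ⟨hs, h23.imp (fun h => ?_) fun h => hT ▸ h⟩
    exact hperm.mem_iff.1 h
  · exact Or.inr (by rwa [hT, he'] at hc)

/-- No compatible choice of table entries. -/
theorem no_solution {a b c : S7} (ha : a ∈ tabA) (hb : b ∈ tabB) (hc : c ∈ tabC)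
    (h1 : (a.1 + b.1 + c.1) % 1764 = 0) (h2 : (a.2.1 + b.2.1 + c.2.1) % 1764 = 0) {p f w : List ℕ}
    (hp : inP p = true) (hf : inF f = true) (hw : inW w = true)
    (hsq : a.2.2.1 + b.2.2.1 + c.2.2.1 + sq7 p + sq7 f + sq7 w ≤ G0)
    (hm : maskOf ndA p ||| (a.2.2.2.1 ||| b.2.2.2.1 ||| c.2.2.2.1) =
      a.2.2.2.1 ||| b.2.2.2.1 ||| c.2.2.2.1)
    (hka : a.2.2.2.2.1 + b.2.2.2.2.1 + c.2.2.2.2.1 = keyOf ndA p + keyOf ndA w)
    (hkb : a.2.2.2.2.2 + b.2.2.2.2.2 + c.2.2.2.2.2 = keyOf ndB f + keyOf ndB w)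
    (hlt : a.1 < 1764 ∧ a.2.1 < 1764 ∧ b.1 < 1764 ∧ b.2.1 < 1764 ∧ c.1 < 1764 ∧ c.2.1 < 1764) : False := by
  have hA : noSolAt a = true := by
    have h : a ∈ tabA.take 4 ++ tabA.drop 4 := by rwa [List.take_append_drop]
    rcases List.mem_append.1 h with h | h
    · exact List.all_eq_true.1 noSol_first a h
    · exact List.all_eq_true.1 noSol_last a h
  have hB := List.all_eq_true.1 hA b hb
  set r₁ := (3528 - (a.1 + b.1)) % 1764
  set r₂ := (3528 - (a.2.1 + b.2.1)) % 1764
  have e1 : c.1 = r₁ := by omega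
  have e2 : c.2.1 = r₂ := by omega
  have key : ∀ L : List S7, noSolC r₁ r₂ (a.2.2.1 + b.2.2.1) (a.2.2.2.1 ||| b.2.2.2.1)
      (a.2.2.2.2.1 + b.2.2.2.2.1) (a.2.2.2.2.2 + b.2.2.2.2.2) L = true → c ∈ L →
      noFive (a.2.2.1 + b.2.2.1 + c.2.2.1) (a.2.2.2.1 ||| b.2.2.2.1 ||| c.2.2.2.1)
        (a.2.2.2.2.1 + b.2.2.2.2.1 + c.2.2.2.2.1) (a.2.2.2.2.2 + b.2.2.2.2.2 + c.2.2.2.2.2) = true := by
    intro L
    induction L with
    | nil => intro _ h; simp at h
    | cons d L ih =>
      intro h hd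
      replace h : cond (Nat.beq d.1 r₁ && Nat.beq d.2.1 r₂ && Nat.ble (a.2.2.1 + b.2.2.1 + d.2.2.1) G0)
          (cond (noFive (a.2.2.1 + b.2.2.1 + d.2.2.1) (a.2.2.2.1 ||| b.2.2.2.1 ||| d.2.2.2.1)
            (a.2.2.2.2.1 + b.2.2.2.2.1 + d.2.2.2.2.1) (a.2.2.2.2.2 + b.2.2.2.2.2 + d.2.2.2.2.2))
            (noSolC r₁ r₂ (a.2.2.1 + b.2.2.1) (a.2.2.2.1 ||| b.2.2.2.1)
              (a.2.2.2.2.1 + b.2.2.2.2.1) (a.2.2.2.2.2 + b.2.2.2.2.2) L) false)
          (noSolC r₁ r₂ (a.2.2.1 + b.2.2.1) (a.2.2.2.1 ||| b.2.2.2.1)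
            (a.2.2.2.2.1 + b.2.2.2.2.1) (a.2.2.2.2.2 + b.2.2.2.2.2) L) = true := h
      rcases List.mem_cons.1 hd with rfl | hd
      · have hq : (Nat.beq c.1 r₁ && Nat.beq c.2.1 r₂ &&
            Nat.ble (a.2.2.1 + b.2.2.1 + c.2.2.1) G0) = true := by
          rw [e1, e2]
          simp [Nat.ble_eq]
          omega
        rw [hq, cond_true, Bool.cond_false_right, Bool.and_eq_true] at h
        exact h.1
      · refine ih ?_ hd
        revert h
        generalize noSolC r₁ r₂ _ _ _ _ L = z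
        cases (Nat.beq d.1 r₁ && Nat.beq d.2.1 r₂ && Nat.ble (a.2.2.1 + b.2.2.1 + d.2.2.1) G0) <;>
          cases z <;> simp
  have h5 := key tabC hB hc
  simp only [inP, decide_eq_true_eq] at hp
  have hP := List.all_eq_true.1 h5 _ hp
  simp only at hP
  rw [show (Nat.beq (maskOf ndA p ||| (a.2.2.2.1 ||| b.2.2.2.1 ||| c.2.2.2.1))
      (a.2.2.2.1 ||| b.2.2.2.1 ||| c.2.2.2.1) && Nat.ble (a.2.2.1 + b.2.2.1 + c.2.2.1 + sq7 p) G0 &&
      Nat.ble (keyOf ndA p) (a.2.2.2.2.1 + b.2.2.2.2.1 + c.2.2.2.2.1)) = true by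
    rw [hm]; simp [Nat.ble_eq, Nat.beq_refl]; omega, cond_true] at hP
  rw [show a.2.2.2.2.1 + b.2.2.2.2.1 + c.2.2.2.2.1 - keyOf ndA p = keyOf ndA w by omega] at hP
  have hW := List.all_eq_true.1 hP _ ((memPair_iff _ _ _).1 hw)
  simp only at hW
  rw [show (Nat.ble (keyOf ndB w) (a.2.2.2.2.2 + b.2.2.2.2.2 + c.2.2.2.2.2) &&
      Nat.ble (a.2.2.1 + b.2.2.1 + c.2.2.1 + sq7 p + sq7 w) G0) = true by
    simp [Nat.ble_eq]; omega, cond_true] at hW
  have hF := List.all_eq_true.1 hW _ ((memPair_iff _ _ _).1 hf)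
  simp only at hF
  rw [show Nat.beq (keyOf ndB f) (a.2.2.2.2.2 + b.2.2.2.2.2 + c.2.2.2.2.2 - keyOf ndB w) = true by
    simp [show a.2.2.2.2.2 + b.2.2.2.2.2 + c.2.2.2.2.2 - keyOf ndB w = keyOf ndB f by omega,
      Nat.beq_refl], cond_true] at hF
  simp [Nat.blt_eq] at hF
  omega

end CfsgLib.MTwentyFourUnique.Search
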