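import Cfsg.Agent.Lib.MTwentyFourUnique.SearchSound
import Mathlib

/-!
The search when the row set of the character of degree three of `A₄` has two members.
-/

set_option autoImplicit false

namespace CfsgLib.MTwentyFourUnique.Search

/-- The two-member row sets: bit, first key, second key, squares. -/
def tabTwo : List (ℕ × ℕ × ℕ × ℕ) := [
  (2, 32, 32, 0),
  (4, 1024, 1048576, 0),
  (16, 1048576, 33554432, 0),
  (64, 1073741824, 34359738368, 0),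
  (0, 0, 0, 15682205),
  (256, 1099511627776, 1125899906842624, 0),
  (512, 35184372088832, 36028797018963968, 0),
  (1024, 1125899906842624, 36893488147419103232, 0),
  (2048, 36028797018963968, 1180591620717411303424, 0),
  (4096, 1152921504606846976, 37778931862957161709568, 0),
  (0, 0, 0, 250915280)]

/-- No compatible row sets at five with two members at degree three. -/
noncomputable def noFiveTwo (q ma ka kb : ℕ) : Bool :=
  tabTwo.all fun e => cond (Nat.beq (e.1 ||| ma) ma && Nat.ble e.2.1 ka)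
    (tabP.all fun p => cond (Nat.beq (p.1 ||| ma) ma && Nat.ble (q + p.2.2) G0 && Nat.ble p.2.1 (ka - e.2.1))
      ((lookup tabW (ka - e.2.1 - p.2.1)).all fun w =>
        cond (Nat.beq (w.1 + e.2.2.1) kb) (Nat.blt G0 (q + p.2.2 + w.2 + e.2.2.2)) true) true) true

/-- No compatible row sets beside two sums. -/
noncomputable def noSolTwoC (r₁ r₂ q m ka kb : ℕ) (L : List S7) : Bool :=
  List.rec true (fun c _ ih =>
    cond (Nat.beq c.1 r₁ && Nat.beq c.2.1 r₂ && Nat.ble (q + c.2.2.1) G0)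
      (cond (noFiveTwo (q + c.2.2.1) (m ||| c.2.2.2.1) (ka + c.2.2.2.2.1) (kb + c.2.2.2.2.2)) ih false) ih) L

/-- No compatible row sets beside one of the table at the trivial character. -/
noncomputable def noSolTwoAt (a : S7) : Bool :=
  tabB.all fun b =>
    noSolTwoC ((3528 - (a.1 + b.1)) % 1764) ((3528 - (a.2.1 + b.2.1)) % 1764) (a.2.2.1 + b.2.2.1)
      (a.2.2.2.1 ||| b.2.2.2.1) (a.2.2.2.2.1 + b.2.2.2.2.1) (a.2.2.2.2.2 + b.2.2.2.2.2) tabC

set_option maxRecDepth 100000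

theorem noSolTwo : tabA.all noSolTwoAt = true := by decide +kernel

theorem pool_two : ∀ d ∈ pool 5 6, 2 * d ∈ pool 5 3 →
    (maskOf ndA [d, 2 * d], keyOf ndA [d, 2 * d], keyOf ndB [d, 2 * d], sq7 [d, 2 * d]) ∈ tabTwo := by
  decide +kernel

/-- No compatible choice of table entries with two members at degree three. -/
theorem no_solution_two {a b c : S7} (ha : a ∈ tabA) (hb : b ∈ tabB) (hc : c ∈ tabC)
    (h1 : (a.1 + b.1 + c.1) % 1764 = 0) (h2 : (a.2.1 + b.2.1 + c.2.1) % 1764 = 0) {p f w : List ℕ}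
    (hp : inP p = true) (hf : (maskOf ndA f, keyOf ndA f, keyOf ndB f, sq7 f) ∈ tabTwo) (hw : inW w = true)
    (hsq : a.2.2.1 + b.2.2.1 + c.2.2.1 + sq7 p + sq7 f + sq7 w ≤ G0)
    (hm : maskOf ndA p ||| (a.2.2.2.1 ||| b.2.2.2.1 ||| c.2.2.2.1) =
      a.2.2.2.1 ||| b.2.2.2.1 ||| c.2.2.2.1)
    (hmf : maskOf ndA f ||| (a.2.2.2.1 ||| b.2.2.2.1 ||| c.2.2.2.1) =
      a.2.2.2.1 ||| b.2.2.2.1 ||| c.2.2.2.1)
    (hka : a.2.2.2.2.1 + b.2.2.2.2.1 + c.2.2.2.2.1 = keyOf ndA p + keyOf ndA w + keyOf ndA f)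
    (hkb : a.2.2.2.2.2 + b.2.2.2.2.2 + c.2.2.2.2.2 = keyOf ndB f + keyOf ndB w)
    (hlt : a.1 < 1764 ∧ a.2.1 < 1764 ∧ b.1 < 1764 ∧ b.2.1 < 1764 ∧ c.1 < 1764 ∧ c.2.1 < 1764) : False := by
  have hB := List.all_eq_true.1 (List.all_eq_true.1 noSolTwo a ha) b hb
  set r₁ := (3528 - (a.1 + b.1)) % 1764
  set r₂ := (3528 - (a.2.1 + b.2.1)) % 1764
  have e1 : c.1 = r₁ := by omega
  have e2 : c.2.1 = r₂ := by omega
  have key : ∀ L : List S7, noSolTwoC r₁ r₂ (a.2.2.1 + b.2.2.1) (a.2.2.2.1 ||| b.2.2.2.1)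
      (a.2.2.2.2.1 + b.2.2.2.2.1) (a.2.2.2.2.2 + b.2.2.2.2.2) L = true → c ∈ L →
      noFiveTwo (a.2.2.1 + b.2.2.1 + c.2.2.1) (a.2.2.2.1 ||| b.2.2.2.1 ||| c.2.2.2.1)
        (a.2.2.2.2.1 + b.2.2.2.2.1 + c.2.2.2.2.1) (a.2.2.2.2.2 + b.2.2.2.2.2 + c.2.2.2.2.2) = true := by
    intro L
    induction L with
    | nil => intro _ h; simp at h
    | cons d L ih =>
      intro h hd
      replace h : cond (Nat.beq d.1 r₁ && Nat.beq d.2.1 r₂ && Nat.ble (a.2.2.1 + b.2.2.1 + d.2.2.1) G0)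
          (cond (noFiveTwo (a.2.2.1 + b.2.2.1 + d.2.2.1) (a.2.2.2.1 ||| b.2.2.2.1 ||| d.2.2.2.1)
            (a.2.2.2.2.1 + b.2.2.2.2.1 + d.2.2.2.2.1) (a.2.2.2.2.2 + b.2.2.2.2.2 + d.2.2.2.2.2))
            (noSolTwoC r₁ r₂ (a.2.2.1 + b.2.2.1) (a.2.2.2.1 ||| b.2.2.2.1)
              (a.2.2.2.2.1 + b.2.2.2.2.1) (a.2.2.2.2.2 + b.2.2.2.2.2) L) false)
          (noSolTwoC r₁ r₂ (a.2.2.1 + b.2.2.1) (a.2.2.2.1 ||| b.2.2.2.1)
            (a.2.2.2.2.1 + b.2.2.2.2.1) (a.2.2.2.2.2 + b.2.2.2.2.2) L) = true := h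
      rcases List.mem_cons.1 hd with rfl | hd
      · have hq : (Nat.beq c.1 r₁ && Nat.beq c.2.1 r₂ &&
            Nat.ble (a.2.2.1 + b.2.2.1 + c.2.2.1) G0) = true := by
          rw [e1, e2]
          simp [Nat.ble_eq]
          omega
        rw [hq, cond_true, Bool.cond_false_right, Bool.and_eq_true] at h
        exact h.1
      · refine ih ?_ hd
        revert h
        generalize noSolTwoC r₁ r₂ _ _ _ _ L = z
        cases (Nat.beq d.1 r₁ && Nat.beq d.2.1 r₂ && Nat.ble (a.2.2.1 + b.2.2.1 + d.2.2.1) G0) <;>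
          cases z <;> simp
  have h5 := key tabC hB hc
  have hF := List.all_eq_true.1 h5 _ hf
  simp only at hF
  rw [show (Nat.beq (maskOf ndA f ||| (a.2.2.2.1 ||| b.2.2.2.1 ||| c.2.2.2.1))
      (a.2.2.2.1 ||| b.2.2.2.1 ||| c.2.2.2.1) &&
      Nat.ble (keyOf ndA f) (a.2.2.2.2.1 + b.2.2.2.2.1 + c.2.2.2.2.1)) = true by
    rw [hmf]; simp [Nat.ble_eq, Nat.beq_refl]; omega, cond_true] at hF
  simp only [inP, decide_eq_true_eq] at hp
  have hP := List.all_eq_true.1 hF _ hp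
  simp only at hP
  rw [show (Nat.beq (maskOf ndA p ||| (a.2.2.2.1 ||| b.2.2.2.1 ||| c.2.2.2.1))
      (a.2.2.2.1 ||| b.2.2.2.1 ||| c.2.2.2.1) && Nat.ble (a.2.2.1 + b.2.2.1 + c.2.2.1 + sq7 p) G0 &&
      Nat.ble (keyOf ndA p) (a.2.2.2.2.1 + b.2.2.2.2.1 + c.2.2.2.2.1 - keyOf ndA f)) = true by
    rw [hm]; simp [Nat.ble_eq, Nat.beq_refl]; omega, cond_true] at hP
  rw [show a.2.2.2.2.1 + b.2.2.2.2.1 + c.2.2.2.2.1 - keyOf ndA f - keyOf ndA p = keyOf ndA w by omega] at hP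
  have hW := List.all_eq_true.1 hP _ ((memPair_iff _ _ _).1 hw)
  simp only at hW
  rw [show Nat.beq (keyOf ndB w + keyOf ndB f) (a.2.2.2.2.2 + b.2.2.2.2.2 + c.2.2.2.2.2) = true by
    rw [hkb, Nat.add_comm]; simp [Nat.beq_refl], cond_true] at hW
  simp [Nat.blt_eq] at hW
  omega

end CfsgLib.MTwentyFourUnique.Search
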