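import Cfsg.Agent.Lib.MTwentyFourUnique.Extra
import Cfsg.Agent.Lib.MTwentyThreeUnique.Columns
import Mathlib

/-!
The centraliser of an element of order seven: a product with the symmetric group of degree three.
-/

set_option autoImplicit false
set_option linter.style.haveILetI false

noncomputable section

namespace CfsgLib.MTwentyFourUnique

open Subgroup

variable {G : Type*} [Group G] [Finite G]

/-- An element of order seven with generators of its centraliser and an element squaring it. -/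
structure SevenData (G : Type*) [Group G] where
  /-- the element of order seven -/
  x : G
  /-- an involution -/
  t : G
  /-- an element of order three -/
  s : G
  /-- an element squaring `x` -/
  n : G
  hx : orderOf x = 7
  ht : orderOf t = 2
  hs : orderOf s = 3
  xt : Commute x t
  xs : Commute x s
  tst : t * s * t⁻¹ = s⁻¹
  invs : ∀ k : G, Commute x k → orderOf k = 2 → k = t ∨ k = t * s ∨ k = t * s * s
  cx : Nat.card (centralizer ({x} : Set G)) = 42
  cxt : Nat.card (centralizer ({x * t} : Set G)) = 14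
  cxs : Nat.card (centralizer ({x * s} : Set G)) = 21
  nx : n * x * n⁻¹ = x ^ 2
  nt : n * t * n⁻¹ = t
  ns : n * s * n⁻¹ = s ∨ n * s * n⁻¹ = s⁻¹
  not_inv : ¬ IsConj x x⁻¹

/-- The normalizer moves an element of order seven to its square and never to its inverse. -/
theorem seven_fusion (hL : Local G) {x : G} (hx : orderOf x = 7) :
    (∃ g : G, g * x * g⁻¹ = x ^ 2) ∧ ¬ IsConj x x⁻¹ := by
  obtain ⟨hC, hN⟩ := hL.seven x hx
  set C := centralizer ({x} : Set G) with hCdef
  set N := normalizer ((zpowers x : Subgroup G) : Set G) with hNdef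
  have hCN : C ≤ N := by
    rw [hCdef, hNdef, ← centralizer_closure, ← zpowers_eq_closure]
    exact centralizer_le_normalizer _
  haveI hnorm : (C.subgroupOf N).Normal := by
    rw [hCdef, hNdef, ← centralizer_closure, ← zpowers_eq_closure]
    infer_instance
  have hidx : (C.subgroupOf N).index = 3 := by
    have h := (C.subgroupOf N).card_mul_index
    rw [Nat.card_congr (subgroupOfEquivOfLe hCN).toEquiv, hC, hN] at h
    omega
  have hcube : ∀ g ∈ N, g ^ 3 ∈ C := fun g hg => by
    have := (C.subgroupOf N).pow_index_mem ⟨g, hg⟩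
    rw [hidx, mem_subgroupOf] at this
    exact this
  have h7 : x ^ 7 = 1 := hx ▸ pow_orderOf_eq_one x
  refine ⟨?_, fun hinv => ?_⟩
  · obtain ⟨g, hgN, hgC⟩ : ∃ g ∈ N, g ∉ C := by
      by_contra hne
      push_neg at hne
      have h := card_dvd_of_le (fun g hg => hne g hg : N ≤ C)
      rw [hC, hN] at h
      norm_num at h
    obtain ⟨k, hk⟩ := ((isOfFinOrder_of_finite x).mem_powers_iff_mem_zpowers).2 ((hgN x).1 (mem_zpowers x))
    simp only at hk
    have hstep : ∀ (a b : G) (i j : ℕ), a * x * a⁻¹ = x ^ i → b * x * b⁻¹ = x ^ j →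
        a * b * x * (a * b)⁻¹ = x ^ (i * j) := fun a b i j ha hb => by
      calc a * b * x * (a * b)⁻¹ = a * (b * x * b⁻¹) * a⁻¹ := by group
        _ = x ^ (i * j) := by rw [hb, ← conj_pow, ha, pow_mul]
    have h3 := hstep g (g * g) k (k * k) hk.symm (hstep g g k k hk.symm hk.symm)
    rw [show g * (g * g) = g ^ 3 by simp [pow_succ, mul_assoc], mem_centralizer_singleton_iff.1 (hcube g hgN),
      mul_inv_cancel_right] at h3
    have h1 : x ^ 1 = x ^ (k * (k * k)) := by rw [pow_one]; exact h3
    rw [pow_inj_mod, hx] at h1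
    have hk7 : x ^ k = x ^ (k % 7) := by rw [← hx, pow_mod_orderOf]
    have hcases : k % 7 = 1 ∨ k % 7 = 2 ∨ k % 7 = 4 := by
      have hlt : k % 7 < 7 := Nat.mod_lt _ (by norm_num)
      rw [Nat.mul_mod, Nat.mul_mod k k] at h1
      interval_cases hr : k % 7 <;> first | omega | norm_num at h1
    rcases hcases with e | e | e
    · exfalso
      refine hgC (mem_centralizer_singleton_iff.2 ?_)
      rw [hk7, e, pow_one] at hk
      exact mul_inv_eq_iff_eq_mul.1 hk.symm
    · exact ⟨g, by rw [← hk, hk7, e]⟩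
    · refine ⟨g * g, ?_⟩
      rw [hstep g g k k hk.symm hk.symm, ← pow_mod_orderOf, hx, Nat.mul_mod, e]
  · obtain ⟨g, hg⟩ := isConj_iff.1 hinv
    have hgN : g ∈ N := by
      have hmap : (zpowers x).map (MulAut.conj g).toMonoidHom = zpowers x := by
        rw [MonoidHom.map_zpowers]
        show zpowers (g * x * g⁻¹) = _
        rw [hg, zpowers_inv]
      intro y
      have h2 : y ∈ zpowers x ↔ g * y * g⁻¹ ∈ (zpowers x).map (MulAut.conj g).toMonoidHom :=
        (Subgroup.mem_map_iff_mem (f := (MulAut.conj g).toMonoidHom) (MulAut.conj g).injective (x := y)).symm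
      rw [hmap] at h2
      exact h2
    have e : g ^ 3 * x * (g ^ 3)⁻¹ = x⁻¹ := by
      calc g ^ 3 * x * (g ^ 3)⁻¹ = g * (g * (g * x * g⁻¹) * g⁻¹) * g⁻¹ := by
            simp only [pow_succ, pow_zero, one_mul, mul_inv_rev, mul_assoc]
        _ = x⁻¹ := by rw [hg, show g * x⁻¹ * g⁻¹ = (g * x * g⁻¹)⁻¹ by group, hg, inv_inv, hg]
    rw [mem_centralizer_singleton_iff.1 (hcube g hgN), mul_inv_cancel_right] at e
    have h2 : x ^ 2 = 1 := by rw [pow_two]; nth_rewrite 2 [e]; exact mul_inv_cancel x
    have := orderOf_dvd_of_pow_eq_one h2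
    rw [hx] at this
    norm_num at this

/-- The data exist. -/
theorem exists_sevenData (hL : Local G) (hE : Extra G) : Nonempty (SevenData G) := by
  classical
  haveI : Fact (Nat.Prime 2) := ⟨Nat.prime_two⟩
  haveI : Fact (Nat.Prime 3) := ⟨Nat.prime_three⟩
  haveI : Fact (Nat.Prime 7) := ⟨by norm_num⟩
  obtain ⟨x, hx⟩ := exists_prime_orderOf_dvd_card' (G := G) 7 (by rw [hL.card]; norm_num)
  set C := centralizer ({x} : Set G) with hC
  have cx := (hL.seven x hx).1
  obtain ⟨⟨t, htC⟩, ht⟩ := exists_prime_orderOf_dvd_card' (G := C) 2 (by rw [cx]; norm_num)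
  obtain ⟨⟨s, hsC⟩, hs⟩ := exists_prime_orderOf_dvd_card' (G := C) 3 (by rw [cx]; norm_num)
  rw [Subgroup.orderOf_mk] at ht hs
  have hmem : ∀ k : G, k ∈ C ↔ Commute x k := fun k =>
    mem_centralizer_singleton_iff.trans ⟨fun h => (show Commute k x from h).symm, fun h => h.symm⟩
  have xt : Commute x t := (hmem t).1 htC
  have xs : Commute x s := (hmem s).1 hsC
  have ox : orderOf (x * s) = 21 := by
    rw [xs.orderOf_mul_eq_mul_orderOf_of_coprime (by rw [hx, hs]; norm_num), hx, hs]
  set D := zpowers (x * s) with hD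
  have hDC : D ≤ C := zpowers_le.2 ((hmem _).2 ((Commute.refl x).mul_right xs))
  have hidx : (D.subgroupOf C).index = 2 := by
    have h := (D.subgroupOf C).card_mul_index
    rw [Nat.card_congr (subgroupOfEquivOfLe hDC).toEquiv, Nat.card_zpowers, ox, cx] at h
    omega
  haveI hDn : (D.subgroupOf C).Normal := Subgroup.normal_of_index_eq_two hidx
  have hsq : ∀ k ∈ C, k * k ∈ D := fun k hk => by
    have h := (D.subgroupOf C).pow_index_mem ⟨k, hk⟩
    rw [hidx, mem_subgroupOf] at h
    simpa [pow_two] using h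
  have hx7 : x ^ 7 = 1 := hx ▸ pow_orderOf_eq_one x
  have hs3 : s ^ 3 = 1 := hs ▸ pow_orderOf_eq_one s
  have ht2 : t * t = 1 := by rw [← pow_two, ← ht]; exact pow_orderOf_eq_one t
  have hDpow : ∀ d ∈ D, ∃ i : ℕ, d = x ^ i * s ^ i := fun d hd => by
    obtain ⟨i, hi⟩ := ((isOfFinOrder_of_finite (x * s)).mem_powers_iff_mem_zpowers).2 hd
    simp only at hi
    exact ⟨i, by rw [← hi, xs.mul_pow]⟩
  -- elements of order three
  have three : ∀ u : G, Commute x u → orderOf u = 3 → u = s ∨ u = s⁻¹ := fun u hu h3 => by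
    have hu3 : u ^ 3 = 1 := h3 ▸ pow_orderOf_eq_one u
    have huD : u ∈ D := by
      have h := hsq _ ((hmem _).2 hu)
      have h2 := D.mul_mem h h
      rwa [show u * u * (u * u) = u ^ 3 * u by simp [pow_succ, mul_assoc], hu3, one_mul] at h2
    obtain ⟨i, hi⟩ := hDpow u huD
    have hxi : x ^ (3 * i) = 1 := by
      have h := hu3
      rw [hi, (xs.pow_pow i i).mul_pow, ← pow_mul s, mul_comm i 3, pow_mul s, hs3, one_pow, mul_one,
        ← pow_mul, mul_comm i 3] at h
      exact h
    have hd := orderOf_dvd_of_pow_eq_one hxi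
    rw [hx] at hd
    have h7i : 7 ∣ i := (Nat.Coprime.dvd_of_dvd_mul_left (by norm_num) hd)
    obtain ⟨j, rfl⟩ := h7i
    rw [pow_mul x, hx7, one_pow, one_mul] at hi
    have hmod : s ^ (7 * j) = s ^ (7 * j % 3) := by rw [← hs, pow_mod_orderOf]
    have hlt : 7 * j % 3 < 3 := Nat.mod_lt _ (by norm_num)
    interval_cases hr : 7 * j % 3
    · rw [hi, hmod, pow_zero, orderOf_one] at h3; norm_num at h3
    · exact Or.inl (by rw [hi, hmod, pow_one])
    · exact Or.inr (by
        rw [hi, hmod]
        exact eq_inv_of_mul_eq_one_left (by rw [← pow_succ, hs3]))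
  -- every element of the centralizer
  have htD : t ∉ D := fun h => by
    have := Subgroup.orderOf_mk t h ▸ orderOf_dvd_natCard (⟨t, h⟩ : D)
    rw [Nat.card_zpowers, ox, ht] at this
    norm_num at this
  have hdec : ∀ k : G, Commute x k → k ∈ D ∨ ∃ d ∈ D, k = t * d := fun k hk => by
    by_cases h : k ∈ D
    · exact Or.inl h
    · refine Or.inr ⟨t * k, ?_, by rw [← mul_assoc, ht2, one_mul]⟩
      have h2 := Subgroup.mul_mem_iff_of_index_two hidx (a := (⟨t, htC⟩ : C)) (b := ⟨k, (hmem k).2 hk⟩)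
      simp only [mem_subgroupOf, Subgroup.coe_mul] at h2
      exact h2.2 (iff_of_false htD h)
  have hcard : Nat.card {g : C // orderOf g = 2} = 3 := hE.inv_seven x hx
  -- `t` inverts `s`
  have tst : t * s * t⁻¹ = s⁻¹ := by
    refine (three _ ((xt.mul_right xs).mul_right xt.inv_right) ?_).resolve_left fun hcomm => ?_
    · exact (orderOf_injective (MulAut.conj t).toMonoidHom (MulAut.conj t).injective s).trans hs
    have hts : Commute t s := mul_inv_eq_iff_eq_mul.1 hcomm
    have huniq : ∀ u : {g : C // orderOf g = 2}, ((u.1 : C) : G) = t := fun u => by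
      obtain ⟨⟨u, huC⟩, hu⟩ := u
      rw [Subgroup.orderOf_mk] at hu
      rcases hdec u ((hmem u).1 huC) with h | ⟨d, hd, rfl⟩
      · exfalso
        have := Subgroup.orderOf_mk u h ▸ orderOf_dvd_natCard (⟨u, h⟩ : D)
        rw [Nat.card_zpowers, ox, hu] at this
        norm_num at this
      · obtain ⟨i, rfl⟩ := hDpow d hd
        have hcd : Commute t (x ^ i * s ^ i) := (xt.symm.pow_right i).mul_right (hts.pow_right i)
        have h2 : (t * (x ^ i * s ^ i)) ^ 2 = 1 := hu ▸ pow_orderOf_eq_one _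
        rw [hcd.mul_pow, pow_two t, ht2, one_mul] at h2
        have hd2 : orderOf (x ^ i * s ^ i) ∣ 2 := orderOf_dvd_of_pow_eq_one h2
        have hd21 : orderOf (x ^ i * s ^ i) ∣ 21 := by
          rw [← xs.mul_pow, ← ox]; exact orderOf_pow_dvd i
        have : orderOf (x ^ i * s ^ i) = 1 := Nat.dvd_one.1 (by simpa using Nat.dvd_gcd hd2 hd21)
        show t * (x ^ i * s ^ i) = t
        rw [orderOf_eq_one_iff.1 this, mul_one]
    haveI : Subsingleton {g : C // orderOf g = 2} :=
      ⟨fun a b => Subtype.ext (Subtype.ext ((huniq a).trans (huniq b).symm))⟩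
    have := Finite.card_le_one_iff_subsingleton.2 this
    omega
  have hst : ∀ i : ℕ, t * s ^ i * t⁻¹ = (s ^ i)⁻¹ := fun i => by
    rw [← conj_pow, tst, inv_pow]
  -- involutions
  have invs : ∀ k : G, Commute x k → orderOf k = 2 → k = t ∨ k = t * s ∨ k = t * s * s := fun k hk h2 => by
    rcases hdec k hk with h | ⟨d, hd, rfl⟩
    · exfalso
      have := Subgroup.orderOf_mk k h ▸ orderOf_dvd_natCard (⟨k, h⟩ : D)
      rw [Nat.card_zpowers, ox, h2] at this
      norm_num at this
    · obtain ⟨i, rfl⟩ := hDpow d hd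
      have hsq2 : (t * (x ^ i * s ^ i)) ^ 2 = x ^ (i + i) := by
        have e2 : t⁻¹ = t := inv_eq_of_mul_eq_one_left ht2
        calc (t * (x ^ i * s ^ i)) ^ 2 = (t * x ^ i * t⁻¹) * (t * s ^ i * t⁻¹) * (x ^ i * s ^ i) := by
              rw [pow_two, e2]
              simp only [mul_assoc]
              rw [← mul_assoc t t, ht2, one_mul]
          _ = x ^ i * ((s ^ i)⁻¹ * x ^ i) * s ^ i := by
              rw [(xt.symm.pow_right i).eq, mul_inv_cancel_right, hst i]; simp only [mul_assoc]
          _ = x ^ (i + i) := by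
              rw [← ((xs.pow_pow i i).inv_right).eq, pow_add]; simp [mul_assoc]
      have h1 : x ^ (i + i) = 1 := by rw [← hsq2, ← h2]; exact pow_orderOf_eq_one _
      have hd7 := orderOf_dvd_of_pow_eq_one h1
      rw [hx] at hd7
      obtain ⟨j, rfl⟩ : 7 ∣ i := by omega
      rw [pow_mul x, hx7, one_pow, one_mul]
      have hmod : s ^ (7 * j) = s ^ (7 * j % 3) := by rw [← hs, pow_mod_orderOf]
      have hlt : 7 * j % 3 < 3 := Nat.mod_lt _ (by norm_num)
      rw [hmod]
      interval_cases hr : 7 * j % 3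
      · exact Or.inl (by rw [pow_zero, mul_one])
      · exact Or.inr (Or.inl (by rw [pow_one]))
      · exact Or.inr (Or.inr (by rw [pow_two, mul_assoc]))
  have hconj : ∀ k : G, k = t ∨ k = t * s ∨ k = t * s * s → ∃ j : ℕ, s ^ j * k * (s ^ j)⁻¹ = t := by
    have e : s * t * s⁻¹ = t * s := by
      have h1 : t * s⁻¹ = s * t := by
        have h := congrArg (·⁻¹) tst
        simp only [mul_inv_rev, inv_inv] at h
        exact mul_inv_eq_iff_eq_mul.1 (by rw [mul_assoc]; exact h)
      rw [← h1, mul_assoc, ← mul_inv_rev, show (s * s)⁻¹ = s from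
        inv_eq_of_mul_eq_one_left (by rw [← mul_assoc, ← pow_two, ← pow_succ, hs3])]
    rintro k (rfl | rfl | rfl)
    · exact ⟨0, by simp⟩
    · refine ⟨2, ?_⟩
      rw [← e, show s ^ 2 * (s * t * s⁻¹) * (s ^ 2)⁻¹ = s ^ 3 * t * (s ^ 3)⁻¹ by group, hs3]
      simp
    · refine ⟨1, ?_⟩
      have e2 : s * (t * s) * s⁻¹ = t * s * s := by
        rw [show s * (t * s) * s⁻¹ = (s * t * s⁻¹) * (s * s * s⁻¹ * s⁻¹) * s by group, e]
        group
      rw [← e2, ← e, pow_one, show s * (s * (s * t * s⁻¹) * s⁻¹) * s⁻¹ = s ^ 3 * t * (s ^ 3)⁻¹ by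
        simp [pow_succ, mul_assoc], hs3]
      simp
  obtain ⟨⟨g, hg⟩, hninv⟩ := seven_fusion hL hx
  have hgC : ∀ k, Commute x k → Commute x (g * k * g⁻¹) := fun k hk => by
    have h1 : Commute (g * x * g⁻¹) (g * k * g⁻¹) := hk.conj g
    rw [hg] at h1
    have h2 := h1.pow_left 4
    rwa [← pow_mul, show x ^ (2 * 4) = x by rw [← pow_mod_orderOf, hx]; simp] at h2
  obtain ⟨j, hj⟩ := hconj _ (invs _ (hgC t xt) ((orderOf_injective (MulAut.conj g).toMonoidHom (MulAut.conj g).injective t).trans ht))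
  have hnx : s ^ j * g * x * (s ^ j * g)⁻¹ = x ^ 2 := by
    rw [show s ^ j * g * x * (s ^ j * g)⁻¹ = s ^ j * (g * x * g⁻¹) * (s ^ j)⁻¹ by group, hg,
      (xs.pow_pow 2 j).symm.eq, mul_inv_cancel_right]
  have hns : s ^ j * g * s * (s ^ j * g)⁻¹ = s ∨ s ^ j * g * s * (s ^ j * g)⁻¹ = s⁻¹ := by
    refine three _ ?_ ((orderOf_injective (MulAut.conj (s ^ j * g)).toMonoidHom (MulAut.conj (s ^ j * g)).injective s).trans hs)
    rw [show s ^ j * g * s * (s ^ j * g)⁻¹ = s ^ j * (g * s * g⁻¹) * (s ^ j)⁻¹ by group]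
    exact ((xs.pow_right j).mul_right (hgC s xs)).mul_right (xs.pow_right j).inv_right
  -- the centralizers
  have oxt : orderOf (x * t) = 14 := by
    rw [xt.orderOf_mul_eq_mul_orderOf_of_coprime (by rw [hx, ht]; norm_num), hx, ht]
  have hpx : (x * t) ^ 8 = x := by
    rw [xt.mul_pow, show t ^ 8 = 1 by rw [show (8 : ℕ) = 2 * 4 from rfl, pow_mul, pow_two, ht2, one_pow],
      mul_one, ← pow_mod_orderOf, hx]; simp
  have hps : (x * s) ^ 15 = x := by
    rw [xs.mul_pow, show s ^ 15 = 1 by rw [show (15 : ℕ) = 3 * 5 from rfl, pow_mul, hs3, one_pow],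
      mul_one, ← pow_mod_orderOf, hx]; simp
  have eC1 : centralizer ({x * t} : Set G) = zpowers (x * t) := by
    refine le_antisymm (fun k hk => ?_) (zpowers_le.2 (mem_centralizer_singleton_iff.2 rfl))
    have hk1 : Commute (x * t) k := (show Commute k (x * t) from mem_centralizer_singleton_iff.1 hk).symm
    have hkx : Commute x k := hpx ▸ hk1.pow_left 8
    have hkt : Commute t k := by
      have h : Commute (x⁻¹ * (x * t)) k := hkx.inv_left.mul_left hk1
      rwa [inv_mul_cancel_left] at h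
    have hxm : x ∈ zpowers (x * t) := by
      have h := pow_mem (mem_zpowers (x * t)) 8
      rwa [hpx] at h
    rcases hdec k hkx with h | ⟨d, hd, rfl⟩
    · obtain ⟨i, rfl⟩ := hDpow k h
      have hsi : s ^ i = (s ^ i)⁻¹ := by
        rw [← hst i]
        have h3 : Commute t (s ^ i) := by
          have h4 : Commute t ((x ^ i)⁻¹ * (x ^ i * s ^ i)) := (xt.symm.pow_right i).inv_right.mul_right hkt
          rwa [inv_mul_cancel_left] at h4
        rw [h3.eq, mul_inv_cancel_right]
      have h2 : (s ^ i) ^ 2 = 1 := by rw [pow_two]; nth_rewrite 1 [hsi]; exact inv_mul_cancel _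
      have hsi1 : s ^ i = 1 := by
        have h3 : (s ^ i) ^ 3 = 1 := by rw [← pow_mul, mul_comm, pow_mul, hs3, one_pow]
        calc s ^ i = (s ^ i) ^ 3 * ((s ^ i) ^ 2)⁻¹ := by group
          _ = 1 := by rw [h3, h2, inv_one, one_mul]
      rw [hsi1, mul_one]
      exact pow_mem hxm i
    · obtain ⟨i, rfl⟩ := hDpow d hd
      have h3 : Commute t (s ^ i) := by
        have h4 : Commute t ((x ^ i)⁻¹ * (t⁻¹ * (t * (x ^ i * s ^ i)))) :=
          (xt.symm.pow_right i).inv_right.mul_right ((Commute.refl t).inv_right.mul_right hkt)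
        rwa [inv_mul_cancel_left, inv_mul_cancel_left] at h4
      have hsi : s ^ i = (s ^ i)⁻¹ := by rw [← hst i, h3.eq, mul_inv_cancel_right]
      have h2 : (s ^ i) ^ 2 = 1 := by rw [pow_two]; nth_rewrite 1 [hsi]; exact inv_mul_cancel _
      have hsi1 : s ^ i = 1 := by
        have h5 : (s ^ i) ^ 3 = 1 := by rw [← pow_mul, mul_comm, pow_mul, hs3, one_pow]
        calc s ^ i = (s ^ i) ^ 3 * ((s ^ i) ^ 2)⁻¹ := by group
          _ = 1 := by rw [h5, h2, inv_one, one_mul]
      rw [hsi1, mul_one]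
      have htm : t ∈ zpowers (x * t) := by
        have := mul_mem (inv_mem hxm) (mem_zpowers (x * t))
        rwa [inv_mul_cancel_left] at this
      exact mul_mem htm (pow_mem hxm i)
  have eC2 : centralizer ({x * s} : Set G) = D := by
    refine le_antisymm (fun k hk => ?_) (zpowers_le.2 (mem_centralizer_singleton_iff.2 rfl))
    have hk1 : Commute (x * s) k := (show Commute k (x * s) from mem_centralizer_singleton_iff.1 hk).symm
    have hkx : Commute x k := hps ▸ hk1.pow_left 15
    rcases hdec k hkx with h | ⟨d, hd, rfl⟩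
    · exact h
    · exfalso
      have hks : Commute s (t * d) := by
        have h : Commute (x⁻¹ * (x * s)) (t * d) := hkx.inv_left.mul_left hk1
        rwa [inv_mul_cancel_left] at h
      obtain ⟨i, rfl⟩ := hDpow d hd
      have hsd : Commute s (x ^ i * s ^ i) := (xs.symm.pow_right i).mul_right ((Commute.refl s).pow_right i)
      have h1 : Commute s t := by
        have h2 := hks.mul_right hsd.inv_right
        rwa [mul_inv_cancel_right] at h2
      rw [← h1.eq, mul_inv_cancel_right] at tst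
      have : s ^ 2 = 1 := by rw [pow_two]; nth_rewrite 1 [tst]; exact inv_mul_cancel s
      have := orderOf_dvd_of_pow_eq_one this
      rw [hs] at this
      norm_num at this
  exact ⟨{
    x := x, t := t, s := s, n := s ^ j * g, hx := hx, ht := ht, hs := hs, xt := xt, xs := xs, tst := tst
    invs := invs, cx := cx
    cxt := by rw [eC1, Nat.card_zpowers, oxt]
    cxs := by rw [eC2, Nat.card_zpowers, ox]
    nx := hnx
    nt := by rw [show s ^ j * g * t * (s ^ j * g)⁻¹ = s ^ j * (g * t * g⁻¹) * (s ^ j)⁻¹ by group, hj]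
    ns := hns
    not_inv := hninv }⟩

end CfsgLib.MTwentyFourUnique
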